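import Cfsg.Agent.Lib.SC.LemE
import Cfsg.Agent.Lib.Transfer.ZCor

/-! The counting argument for a Sylow 2-subgroup of type `L₃(4)`: the local structure. -/

set_option autoImplicit false
set_option linter.unusedSectionVars false

namespace Cfsg.Agent.SC

open Subgroup Cfsg.Agent.FT Cfsg.Agent.SF.GP
open Cfsg.Agent.Tr (SylowIn)

universe u

/-- The configuration in the Sylow 2-subgroup. -/
structure Cfg {G : Type*} [Group G] (S Z T₀ T₁ : Subgroup G) (e : G) : Prop where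
  syl : SylowIn 2 S ⊤
  sq0 : ∀ x ∈ T₀, x * x = 1
  sq1 : ∀ x ∈ T₁, x * x = 1
  inf : ∀ x, x ∈ Z ↔ x ∈ T₀ ∧ x ∈ T₁
  dec : ∀ x ∈ S, ∃ y ∈ T₀, ∃ v ∈ T₁, x = y * v
  sc0 : IsStronglyClosed T₀ S
  sc1 : IsStronglyClosed T₁ S
  nc : ∀ y ∈ T₀, y ∉ Z → ∀ v ∈ T₁, v ∉ Z → ¬ Commute y v
  c4 : #|Z| = 4
  cS : 32 ≤ #|S|
  ex0 : ∃ y ∈ T₀, y ∉ Z
  ex1 : ∃ y ∈ T₁, y ∉ Z
  eS : e ∈ 𝐍(S)
  fpf : ∀ x ∈ S, e * x * e⁻¹ * x⁻¹ ∈ Z → x ∈ Z

theorem comm_of_sq {G : Type*} [Group G] {A : Subgroup G} (h : ∀ x ∈ A, x * x = 1) {x y : G}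
    (hx : x ∈ A) (hy : y ∈ A) : x * y = y * x := by
  rw [← Tr.inv_eq_of_mul_self (h _ (mul_mem hx hy)), mul_inv_rev, Tr.inv_eq_of_mul_self (h x hx),
    Tr.inv_eq_of_mul_self (h y hy)]

theorem has_compl {G : Type*} [Group G] [Finite G] {E M : Subgroup G} (hE : SylowIn 2 E M)
    (h : HasNormalPComplement 2 M) : ∃ K : Subgroup G, Odd #|K| ∧ M ≤ 𝐍(K) ∧ K ⊔ E = M := by
  obtain ⟨N, hN, hc⟩ := TwoGrp.isComplement'_sylow_of_has h hE.toSylow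
  refine ⟨N.map M.subtype, ?_, (nrm_map_subtype N).nz, ?_⟩
  · rw [Fit.card_map_subtype, ← hc.index_eq_card]
    exact Nat.odd_iff.2 (Nat.two_dvd_ne_zero.1 hE.not_dvd)
  · rw [← hE.map_toSylow, ← Subgroup.map_sup, hc.sup_eq_top, ← MonoidHom.range_eq_map, range_subtype]

namespace Cfg

variable {G : Type*} [Group G] [Finite G] {S Z T₀ T₁ : Subgroup G} {e : G} (h : Cfg S Z T₀ T₁ e)
include h

theorem symm : Cfg S Z T₁ T₀ e :=
  { h with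
    sq0 := h.sq1, sq1 := h.sq0, sc0 := h.sc1, sc1 := h.sc0, ex0 := h.ex1, ex1 := h.ex0
    inf := fun x => (h.inf x).trans and_comm
    dec := fun x hx => by
      obtain ⟨y, hy, v, hv, e⟩ := h.dec _ (inv_mem hx)
      exact ⟨_, inv_mem hv, _, inv_mem hy, by rw [← mul_inv_rev, ← e, inv_inv]⟩
    nc := fun y hy hy' v hv hv' hc => h.nc v hv hv' y hy hy' hc.symm }

theorem le0 : T₀ ≤ S := h.sc0.1
theorem le1 : T₁ ≤ S := h.sc1.1
theorem Z0 : Z ≤ T₀ := fun x hx => ((h.inf x).1 hx).1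
theorem Z1 : Z ≤ T₁ := fun x hx => ((h.inf x).1 hx).2
theorem ZS : Z ≤ S := h.Z0.trans h.le0
theorem sqZ {z : G} (hz : z ∈ Z) : z * z = 1 := h.sq0 z (h.Z0 hz)

theorem scZ {z g : G} (hz : z ∈ Z) (hg : g * z * g⁻¹ ∈ S) : g * z * g⁻¹ ∈ Z :=
  (h.inf _).2 ⟨h.sc0.2 z (h.Z0 hz) g hg, h.sc1.2 z (h.Z1 hz) g hg⟩

theorem conj0 {y n : G} (hy : y ∈ T₀) (hn : n ∈ 𝐍(S)) : n * y * n⁻¹ ∈ T₀ :=
  h.sc0.2 y hy n (Tr.conj_mem_of_mem_normalizer hn (h.le0 hy))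

theorem out0 {y g : G} (hy : y ∈ T₀) (hy' : y ∉ Z) (hg : g * y * g⁻¹ ∈ S) :
    g * y * g⁻¹ ∈ T₀ ∧ g * y * g⁻¹ ∉ Z :=
  ⟨h.sc0.2 y hy g hg, fun hz => hy' (by
    simpa [mul_assoc] using h.scZ (g := g⁻¹) hz (by simpa [mul_assoc] using h.le0 hy))⟩

theorem cZ {z x : G} (hz : z ∈ Z) (hx : x ∈ S) : Commute z x := by
  obtain ⟨y, hy, v, hv, rfl⟩ := h.dec x hx
  exact Commute.mul_right (comm_of_sq h.sq0 (h.Z0 hz) hy) (comm_of_sq h.sq1 (h.Z1 hz) hv)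

theorem sqS {x : G} (hx : x ∈ S) : x * x ∈ Z := by
  obtain ⟨y, hy, v, hv, rfl⟩ := h.dec x hx
  refine (h.inf _).2 ⟨?_, ?_⟩
  · have := mul_mem hy (h.conj0 hy (le_normalizer (h.le1 hv)))
    rwa [Tr.inv_eq_of_mul_self (h.sq1 v hv), ← mul_assoc, ← mul_assoc, mul_assoc _ y v] at this
  · have := mul_mem (h.symm.conj0 hv (le_normalizer (h.le0 hy))) hv
    rwa [Tr.inv_eq_of_mul_self (h.sq0 y hy), mul_assoc _ y v] at this

theorem four : IsKleinFour Z :=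
  ZStar.isKleinFour_of h.c4 fun x => Subtype.ext (h.sqZ x.2)

theorem cancel {y v w : G} (hy : y ∈ T₀) (hy' : y ∉ Z) (hv : v ∈ T₁) (hw : w ∈ T₁)
    (e : y * v * (y * v) = y * w * (y * w)) : w * v⁻¹ ∈ Z := by
  by_contra hn
  refine h.nc y hy hy' _ (mul_mem hw (inv_mem hv)) hn ?_
  have e1 : v * y * v = w * y * w := mul_left_cancel (a := y) (by simpa only [mul_assoc] using e)
  have e2 : w⁻¹ * (v * y * v) * v⁻¹ = w⁻¹ * (w * y * w) * v⁻¹ := by rw [e1]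
  have e3 : w⁻¹ * v = w * v⁻¹ := by
    rw [Tr.inv_eq_of_mul_self (h.sq1 v hv), Tr.inv_eq_of_mul_self (h.sq1 w hw)]
  rw [Commute, SemiconjBy, ← e3]
  calc y * (w⁻¹ * v) = w⁻¹ * (w * y * w) * v⁻¹ := by rw [e3]; group
    _ = _ := by rw [← e2]; group

theorem fix1 {n y v : G} (hn : n ∈ 𝐍(S)) (hc : n ∈ 𝐂(Z)) (hy : y ∈ T₀) (hy' : y ∉ Z)
    (hf : n * y * n⁻¹ * y⁻¹ ∈ Z) (hv : v ∈ T₁) : n * v * n⁻¹ * v⁻¹ ∈ Z := by
  have hw := h.symm.conj0 hv hn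
  refine h.cancel hy hy' hv hw ?_
  have h1 := mem_centralizer_iff.1 hc _ (h.sqS (mul_mem (h.le0 hy) (h.le1 hv)))
  have h2 := h.cZ hf (mul_mem (h.le0 hy) (h.le1 hw))
  have h3 := h.sqZ hf
  generalize hz : n * y * n⁻¹ * y⁻¹ = z at h2 h3
  calc y * v * (y * v) = n * (y * v * (y * v)) * n⁻¹ := by rw [← h1]; group
    _ = z * (y * (n * v * n⁻¹) * z) * (y * (n * v * n⁻¹)) := by rw [← hz]; group
    _ = _ := by rw [← h2.eq, ← mul_assoc z, h3, one_mul]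

theorem fix2 {n y s : G} (hn : n ∈ 𝐍(S)) (hc : n ∈ 𝐂(Z)) (hy : y ∈ T₀) (hy' : y ∉ Z)
    (hf : n * y * n⁻¹ * y⁻¹ ∈ Z) (hs : s ∈ S) : n * s * n⁻¹ * s⁻¹ ∈ Z := by
  obtain ⟨y', hy1, v, hv, rfl⟩ := h.dec s hs
  obtain ⟨w, hw, hw'⟩ := h.ex1
  have h1 := h.symm.fix1 hn hc hw hw' (h.fix1 hn hc hy hy' hf hw) hy1
  have h2 := h.fix1 hn hc hy hy' hf hv
  have := mul_mem h1 (h.scZ (g := y') h2 (mul_mem (mul_mem (h.le0 hy1) (h.ZS h2))
    (inv_mem (h.le0 hy1))))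
  convert this using 1; group

theorem fix {n x s : G} (hn : n ∈ 𝐍(S)) (hc : n ∈ 𝐂(Z)) (hx : x ∈ S) (hx' : x ∉ Z)
    (hf : n * x * n⁻¹ * x⁻¹ ∈ Z) (hs : s ∈ S) : n * s * n⁻¹ * s⁻¹ ∈ Z := by
  obtain ⟨y, hy, v, hv, rfl⟩ := h.dec x hx
  have p0 := mul_mem (h.conj0 hy hn) (inv_mem hy)
  have q1 := h.symm.conj0 (mul_mem (h.symm.conj0 hv hn) (inv_mem hv)) (le_normalizer (h.le0 hy))
  have e : n * (y * v) * n⁻¹ * (y * v)⁻¹ =
      n * y * n⁻¹ * y⁻¹ * (y * (n * v * n⁻¹ * v⁻¹) * y⁻¹) := by group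
  rw [e] at hf
  have p : n * y * n⁻¹ * y⁻¹ ∈ Z := (h.inf _).2 ⟨p0, (mul_mem_cancel_right q1).1 (h.Z1 hf)⟩
  have q : n * v * n⁻¹ * v⁻¹ ∈ Z := by
    have h1 := (mul_mem_cancel_left p).1 hf
    have := h.scZ (g := y⁻¹) h1 (mul_mem (mul_mem (inv_mem (h.le0 hy)) (h.ZS h1))
      (inv_mem (inv_mem (h.le0 hy))))
    convert this using 1; group
  by_cases hy' : y ∈ Z
  · exact h.symm.fix2 hn hc hv (fun hv' => hx' (mul_mem hy' hv')) q hs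
  · exact h.fix2 hn hc hy hy' p hs

theorem central (hO : oddCore G = ⊥) {a : G} (ha : a ∈ Z) (a1 : a ≠ 1) (hc : a ∈ center G) :
    Z ≤ center G := by
  refine Tr.le_center_of_isolated hO h.syl.toSylowTop h.ZS fun z hz g hg => ?_
  have cS : ∀ z ∈ Z, z ∈ 𝐂(S) := fun z hz => mem_centralizer_iff.2 fun x hx => (h.cZ hz hx).symm
  obtain ⟨n, -, hn, e⟩ := h.syl.exists_normalizer_conj (mem_top g) (cS z hz) (cS _ (h.scZ hz hg))
  rw [← e, mul_inv_eq_iff_eq_mul, ← mem_centralizer_singleton_iff]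
  have hna : n * a * n⁻¹ = a := by rw [mem_center_iff.1 hc n, mul_inv_cancel_right]
  have h2 : n * n ∈ 𝐂[z] := by
    rw [mem_centralizer_singleton_iff, ← mul_inv_eq_iff_eq_mul]
    by_cases z1 : z = 1
    · simp [z1]
    by_cases za : z = a
    · rw [za, mem_center_iff.1 hc, mul_inv_cancel_right]
    have e2 : n * n * z * (n * n)⁻¹ = n * (n * z * n⁻¹) * n⁻¹ := by group
    rcases (TwoGrp.kleinFour_mem_iff h.four hz ha z1 a1 za _).1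
      (h.scZ hz (Tr.conj_mem_of_mem_normalizer hn (h.ZS hz))) with e1 | e1 | e1 | e1
    · exact absurd (by simpa using e1) z1
    · rw [e2, e1, e1]
    · exact absurd (by simpa using e1.trans hna.symm) za
    · have e3 : n * (z * a) * n⁻¹ = n * z * n⁻¹ * (n * a * n⁻¹) := by group
      rw [e2, e1, e3, e1, hna, mul_assoc, h.sqZ ha, mul_one]
  obtain ⟨j, hj⟩ : Odd (S.relIndex 𝐍(S)) :=
    Nat.odd_iff.2 (Nat.two_dvd_ne_zero.1 (h.syl.mono le_normalizer le_top).not_dvd)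
  have h3 : n ^ (2 * j + 1) ∈ S := hj ▸ (S.subgroupOf 𝐍(S)).pow_index_mem ⟨n, hn⟩
  have h4 : n ^ (2 * j + 1) ∈ 𝐂[z] := mem_centralizer_singleton_iff.2 (h.cZ hz h3).symm
  rwa [pow_succ, pow_mul, mul_mem_cancel_left (pow_mem (by rwa [sq]) j)] at h4

omit h in
theorem normal {G : Type u} [Group G] [Finite G] {S Z T₀ T₁ : Subgroup G} {e : G}
    (h : Cfg S Z T₀ T₁ e) (hO : oddCore G = ⊥) {a : G} (ha : a ∈ Z) (a1 : a ≠ 1)
    (hc : a ∈ center G) : S.Normal := by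
  have hZ := h.central hO ha a1 hc
  have := ZStar.normal_of_le_center' hZ
  let f := QuotientGroup.mk' Z
  have fs : Function.Surjective f := QuotientGroup.mk'_surjective Z
  have f1 : ∀ x, f x = 1 ↔ x ∈ Z := fun x => QuotientGroup.eq_one_iff x
  have hS : ∀ x, f x ∈ S.map f ↔ x ∈ S := fun x => by
    rw [← mem_comap, comap_map_eq, QuotientGroup.ker_mk', sup_eq_left.2 h.ZS]
  have hE : SylowIn 2 (S.map f) ⊤ := Tr.sylowIn_map_mk h.syl.toSylowTop Z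
  have sq : ∀ x ∈ S.map f, x * x = 1 := by
    rintro _ ⟨x, hx, rfl⟩
    rw [← map_mul, f1]
    exact h.sqS hx
  have ab : IsElementaryAbelian 2 (S.map f) :=
    ⟨abelianP.2 fun _ hx _ hy => comm_of_sq sq hx hy, fun x hx => by rw [pow_two, sq x hx]⟩
  have nS : ∀ n, f n ∈ 𝐍(S.map f) → n ∈ 𝐍(S) := fun n hn =>
    Tr.mem_normalizer_of_forall fun s hs => (hS _).1 (by
      simpa using Tr.conj_mem_of_mem_normalizer hn ((hS s).2 hs))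
  have fc : ∀ n x, n * x * n⁻¹ * x⁻¹ ∈ Z ↔ f n * f x = f x * f n := fun n x => by
    rw [← f1, map_mul, map_mul, map_mul, map_inv, map_inv, mul_inv_eq_one, mul_inv_eq_iff_eq_mul]
  have hn := lemE (G ⧸ Z) hE.toSylowTop
    (Tr.pPrimeCore_quotient_central hO hZ (h.syl.isPGroup.to_le h.ZS)) ab ?_ ?_ ?_
  · have := hn.comap f
    rwa [Tr.SylowIn.coe_toSylowTop, comap_map_eq, QuotientGroup.ker_mk', sup_eq_left.2 h.ZS] at this
  · have h1 := Fit.card_map_mul_card_inf_ker f S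
    rw [QuotientGroup.ker_mk', inf_eq_left.2 h.ZS, h.c4] at h1
    have := h.cS
    change 8 ≤ #|S.map f|
    omega
  · rintro _ ⟨x, hx, rfl⟩ x1
    have h1 : SylowIn 2 (S.map f) 𝐂[f x] := hE.mono (fun s hs =>
      mem_centralizer_singleton_iff.2 (comm_of_sq sq hs ((hS x).2 hx))) le_top
    refine has_compl h1 (h1.hasNormalPComplement_of_burnside fun n hn => ?_)
    obtain ⟨n, rfl⟩ := fs n
    rw [mem_centralizer_iff]
    rintro _ ⟨s, hs, rfl⟩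
    exact ((fc n s).1 (h.fix (nS n hn.1) (mem_centralizer_iff.2 fun z hz =>
      (mem_center_iff.1 (hZ hz) n).symm) hx (fun hx' => x1 ((f1 x).2 hx'))
      ((fc n x).2 (mem_centralizer_singleton_iff.1 hn.2)) hs)).symm
  · obtain ⟨y, hy, hy'⟩ := h.ex0
    obtain ⟨v, hv, hv'⟩ := h.ex1
    refine ⟨f y, (hS y).2 (h.le0 hy), f v, (hS v).2 (h.le1 hv), fun e => hy' ((f1 y).1 e),
      fun e => hv' ((f1 v).1 e), fun hyv => ?_⟩
    obtain ⟨g, hg⟩ := isConj_iff.1 hyv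
    obtain ⟨g, rfl⟩ := fs g
    have h1 : g * y * g⁻¹ * v⁻¹ ∈ Z := by
      rw [← f1, map_mul, map_mul, map_mul, map_inv, map_inv, hg, mul_inv_cancel]
    have h2 : g * y * g⁻¹ ∈ T₁ := (mul_mem_cancel_right (inv_mem hv)).1 (h.Z1 h1)
    have h3 := h.out0 hy hy' (h.le1 h2)
    exact h3.2 ((h.inf _).2 ⟨h3.1, h2⟩)

theorem subgroupOf {X : Subgroup G} (hX : S ≤ X) (he : e ∈ X) :
    Cfg (S.subgroupOf X) (Z.subgroupOf X) (T₀.subgroupOf X) (T₁.subgroupOf X) ⟨e, he⟩ where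
  syl := (h.syl.mono hX le_top).subgroupOf_top
  sq0 := fun x hx => Subtype.ext (h.sq0 x hx)
  sq1 := fun x hx => Subtype.ext (h.sq1 x hx)
  inf := fun x => h.inf x
  dec := fun x hx => by
    obtain ⟨y, hy, v, hv, e⟩ := h.dec x hx
    exact ⟨⟨y, hX (h.le0 hy)⟩, hy, ⟨v, hX (h.le1 hv)⟩, hv, Subtype.ext e⟩
  sc0 := ⟨fun _ hx => h.le0 hx, fun x hx g hg => h.sc0.2 x hx g hg⟩
  sc1 := ⟨fun _ hx => h.le1 hx, fun x hx g hg => h.sc1.2 x hx g hg⟩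
  nc := fun y hy hy' v hv hv' hc => h.nc y hy hy' v hv hv' (congrArg Subtype.val hc)
  c4 := (Fit.card_subgroupOf_of_le (h.ZS.trans hX)).trans h.c4
  cS := h.cS.trans (Fit.card_subgroupOf_of_le hX).ge
  ex0 := let ⟨y, hy, hy'⟩ := h.ex0; ⟨⟨y, hX (h.le0 hy)⟩, hy, hy'⟩
  ex1 := let ⟨y, hy, hy'⟩ := h.ex1; ⟨⟨y, hX (h.le1 hy)⟩, hy, hy'⟩
  eS := Tr.mem_normalizer_of_forall fun s hs =>
    Tr.conj_mem_of_mem_normalizer (a := (s : G)) h.eS hs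
  fpf := fun x hx hf => h.fpf x hx hf

section Map

variable {N : Subgroup G} [N.Normal] (hN : Odd #|N|)
include hN

theorem inj {x y : G} (hx : x ∈ S) (hy : y ∈ S)
    (e : QuotientGroup.mk' N x = QuotientGroup.mk' N y) : x = y := by
  rw [← mul_inv_eq_one, ← map_inv, ← map_mul] at e
  exact mul_inv_eq_one.1 (eq_one_of_odd hN h.syl.isPGroup ((QuotientGroup.eq_one_iff _).1 e)
    (mul_mem hx (inv_mem hy)))

theorem mem_map {A : Subgroup G} (hA : A ≤ S) {x : G} (hx : x ∈ S) :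
    QuotientGroup.mk' N x ∈ A.map (QuotientGroup.mk' N) ↔ x ∈ A :=
  ⟨fun ⟨_, hy, e⟩ => h.inj hN (hA hy) hx e ▸ hy, mem_map_of_mem _⟩

theorem card_map {A : Subgroup G} (hA : A ≤ S) : #|A.map (QuotientGroup.mk' N)| = #|A| := by
  have h1 := Fit.card_map_mul_card_inf_ker (QuotientGroup.mk' N) A
  rwa [QuotientGroup.ker_mk', (eq_bot_iff_forall (N ⊓ A)).2 fun x hx =>
    eq_one_of_odd hN h.syl.isPGroup hx.1 (hA hx.2), card_bot, mul_one] at h1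

omit hN in
theorem sc_map {A : Subgroup G} (hA : IsStronglyClosed A S) :
    IsStronglyClosed (A.map (QuotientGroup.mk' N)) (S.map (QuotientGroup.mk' N)) := by
  refine ⟨map_mono hA.1, ?_⟩
  rintro _ ⟨x, hx, rfl⟩ g hg
  obtain ⟨g, rfl⟩ := QuotientGroup.mk'_surjective N g
  obtain ⟨n, hn, h1⟩ := Tr.exists_conj_mem_of_map h.syl.toSylowTop N (hA.1 hx) (g := g)
    (by rw [map_mul, map_mul, map_inv]; exact hg)
  refine ⟨_, hA.2 x hx _ h1, ?_⟩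
  have : QuotientGroup.mk' N n = 1 := (QuotientGroup.eq_one_iff n).2 hn
  simp only [map_mul, map_inv, this, one_mul]

theorem map : Cfg (S.map (QuotientGroup.mk' N)) (Z.map (QuotientGroup.mk' N))
    (T₀.map (QuotientGroup.mk' N)) (T₁.map (QuotientGroup.mk' N)) (QuotientGroup.mk' N e) where
  syl := Tr.sylowIn_map_mk h.syl.toSylowTop N
  sq0 := by rintro _ ⟨x, hx, rfl⟩; rw [← map_mul, h.sq0 x hx, map_one]
  sq1 := by rintro _ ⟨x, hx, rfl⟩; rw [← map_mul, h.sq1 x hx, map_one]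
  inf := fun x => ⟨fun hx => ⟨map_mono h.Z0 hx, map_mono h.Z1 hx⟩, by
    rintro ⟨⟨y, hy, rfl⟩, h1⟩
    exact mem_map_of_mem _ ((h.inf y).2 ⟨hy, (h.mem_map hN h.le1 (h.le0 hy)).1 h1⟩)⟩
  dec := by
    rintro _ ⟨x, hx, rfl⟩
    obtain ⟨y, hy, v, hv, rfl⟩ := h.dec x hx
    exact ⟨_, mem_map_of_mem _ hy, _, mem_map_of_mem _ hv, map_mul _ _ _⟩
  sc0 := h.sc_map h.sc0
  sc1 := h.sc_map h.sc1
  nc := by
    rintro _ ⟨y, hy, rfl⟩ hy' _ ⟨v, hv, rfl⟩ hv' hc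
    refine h.nc y hy (fun e => hy' (mem_map_of_mem _ e)) v hv (fun e => hv' (mem_map_of_mem _ e))
      (h.inj hN (mul_mem (h.le0 hy) (h.le1 hv)) (mul_mem (h.le1 hv) (h.le0 hy)) ?_)
    rw [map_mul, map_mul, hc.eq]
  c4 := (h.card_map hN h.ZS).trans h.c4
  cS := h.cS.trans (h.card_map hN le_rfl).ge
  ex0 := let ⟨_, hy, hy'⟩ := h.ex0
    ⟨_, mem_map_of_mem _ hy, fun e => hy' ((h.mem_map hN h.ZS (h.le0 hy)).1 e)⟩
  ex1 := let ⟨_, hy, hy'⟩ := h.ex1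
    ⟨_, mem_map_of_mem _ hy, fun e => hy' ((h.mem_map hN h.ZS (h.le1 hy)).1 e)⟩
  eS := Tr.mem_normalizer_of_forall (by
    rintro _ ⟨s, hs, rfl⟩
    exact ⟨_, Tr.conj_mem_of_mem_normalizer h.eS hs, by simp⟩)
  fpf := by
    rintro _ ⟨x, hx, rfl⟩ hf
    refine mem_map_of_mem _ (h.fpf x hx ((h.mem_map hN h.ZS
      (mul_mem (Tr.conj_mem_of_mem_normalizer h.eS hx) (inv_mem hx))).1 ?_))
    simpa using hf

end Map

/-- two elements of `T₁ \ Z` with the same commutator with `y` are not conjugate under `e`, `e²`. -/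
theorem third_alg {a y v w : G} (ha : a ∈ Z) (a1 : a ≠ 1) (hy : y ∈ T₀) (hy' : y ∉ Z)
    (hv : v ∈ T₁) (hv' : v ∉ Z) (hw : w ∈ T₁) (hw' : w ∉ Z) (h1 : a ∈ zpowers (y * v))
    (h2 : a ∈ zpowers (y * w)) : e * v * e⁻¹ ≠ w ∧ e * (e * v * e⁻¹) * e⁻¹ ≠ w := by
  have key : ∀ v ∈ T₁, v ∉ Z → a ∈ zpowers (y * v) → a = y * v * (y * v) := by
    intro v hv hv' h1
    have h3 := h.sqS (mul_mem (h.le0 hy) (h.le1 hv))
    obtain ⟨m, rfl⟩ := (isOfFinOrder_of_finite _).mem_powers_iff_mem_zpowers.2 h1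
    obtain ⟨j, rfl | rfl⟩ := m.even_or_odd'
    · simp only [pow_mul, sq] at a1 ⊢
      exact (Tr.pow_eq_one_or_self_of_sq (by rw [sq, h.sqZ h3]) j).resolve_left a1
    · simp only [pow_succ, pow_mul, pow_zero, one_mul] at ha
      have h4 := (mul_mem_cancel_left (pow_mem h3 j)).1 ha
      exact absurd ((h.inf v).2 ⟨(mul_mem_cancel_left hy).1 (h.Z0 h4), hv⟩) hv'
  have h3 := h.cancel hy hy' hv hw ((key v hv hv' h1).symm.trans (key w hw hw' h2))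
  have k1 : e * v * e⁻¹ * v⁻¹ ∉ Z := fun hf => hv' (h.fpf v (h.le1 hv) hf)
  refine ⟨fun e1 => k1 (e1 ▸ h3), fun e1 => k1 ?_⟩
  have hu := h.symm.conj0 hv h.eS
  have h4 := h.fpf _ (h.le1 (mul_mem hu (inv_mem hv))) (by
    have e2 : e * (e * v * e⁻¹ * v⁻¹) * e⁻¹ * (e * v * e⁻¹ * v⁻¹)⁻¹ =
        w * ((e * v * e⁻¹)⁻¹ * v) * (e * v * e⁻¹)⁻¹ := by rw [← e1]; group
    rw [e2, comm_of_sq h.sq1 (inv_mem hu) hv, mul_assoc w, mul_assoc v, h.sq1 _ (inv_mem hu),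
      mul_one, ← Tr.inv_eq_of_mul_self (h.sq1 v hv)]
    exact h3)
  exact h4

end Cfg

end Cfsg.Agent.SC
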