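import Cfsg.Agent.Lib.SC.Defs

/-! The two separable pieces (f), (g) of row Q of `docs/SC_PLAN.md`. -/

namespace Cfsg.Agent.SC

open Subgroup Cfsg.Agent.FT

universe u

/-- Piece (f): the case `|Q| = 2`. -/
def FStmt : Prop :=
  ∀ (G : Type u) [Group G] [Finite G] (S : Sylow 2 G) (Z : Subgroup G) (w d : G),
    (∀ H : Subgroup G, H.index ≠ 2) → IsElementaryAbelian 2 Z → Nat.card Z = 4 →
    IsStronglyClosed Z (S : Subgroup G) → (S : Subgroup G) ≤ 𝐂(Z) →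
    w ∈ 𝐂(Z) → w ∉ Z → w * w = 1 → IsSylowIn 2 (Z ⊔ zpowers w) 𝐂[w] →
    d ∈ 𝐍(Z) → d ∉ 𝐂(Z) → d ∈ 𝐂[w] →
    (∀ E : Subgroup G, IsElementaryAbelian 2 E → Z ≤ E → Nat.card E ≤ 8) → False

/-- Piece (g): the case `|Q| = 4`. -/
def GStmt : Prop :=
  ∀ (G : Type u) [Group G] [Finite G] (S : Sylow 2 G) (Z T₀ : Subgroup G),
    (∀ H : Subgroup G, H.index ≠ 2) → IsElementaryAbelian 2 Z → Nat.card Z = 4 →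
    IsStronglyClosed Z (S : Subgroup G) → (S : Subgroup G) ≤ 𝐂(Z) →
    IsElementaryAbelian 2 T₀ → Z ≤ T₀ → Nat.card T₀ = 16 → ¬ IsSylowIn 2 T₀ ⊤ →
    (∀ T : Subgroup G, IsElementaryAbelian 2 T → Z ≤ T → Nat.card T = 16 →
      (∃ d ∈ 𝐍(Z), d ∉ 𝐂(Z) ∧ (T ⊓ 𝐂[d]) ⊔ Z = T) ∧
      ∀ y ∈ T, y ∉ Z → IsSylowIn 2 T 𝐂[y] ∧ ∃ H : Subgroup G, Z ≤ H ∧ H ≤ 𝐂[y] ∧ 𝐂[y] ≤ 𝐍(H) ∧
        ⁅H, H⁆ = H ∧ Odd (Z.relIndex H)) → False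

end Cfsg.Agent.SC
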