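import Cfsg.Agent.Lib.SC.Bas1
import Cfsg.Agent.Lib.SC.QDefs
import Cfsg.Agent.Lib.SC.Cnt1
import Cfsg.Agent.Lib.FT.Api2d
import Cfsg.Agent.Lib.FT.Api3f
import Cfsg.Agent.Lib.Transfer.FStar2
import Cfsg.Agent.Lib.Transfer.Focal

/-! Tools for the pieces (f), (g) of row Q. -/

set_option autoImplicit false
set_option linter.unusedSectionVars false

namespace Cfsg.Agent.SC

open Subgroup Cfsg.Agent.FT Cfsg.Agent.SF.GP
open Cfsg.Agent.Tr (SylowIn)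

variable {G : Type*} [Group G]

theorem mem_zp2 {t x : G} (ht : t * t = 1) (hx : x ∈ zpowers t) : x = 1 ∨ x = t := by
  obtain ⟨k, rfl⟩ := hx
  have h2 : t ^ (2 : ℤ) = 1 := by rw [zpow_two, ht]
  obtain ⟨j, rfl | rfl⟩ := k.even_or_odd'
  · left; simp only [zpow_mul, h2, one_zpow]
  · right; simp only [zpow_add, zpow_mul, h2, one_zpow, one_mul, zpow_one]

theorem mem_sup2 {A : Subgroup G} {x y : G} (hx : x ∈ 𝐍(A)) (h2 : x * x ∈ A) :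
    y ∈ A ⊔ zpowers x ↔ y ∈ A ∨ y * x⁻¹ ∈ A := by
  refine ⟨fun hy => ?_, fun hy => hy.elim mem_sup_left fun hy => ?_⟩
  · obtain ⟨a, ha, _, ⟨k, rfl⟩, rfl⟩ := (Tr.mem_sup_of_le_normalizer' (zpowers_le.2 hx)).1 hy
    obtain ⟨j, rfl | rfl⟩ := k.even_or_odd'
    · exact Or.inl (mul_mem ha (by simp only [zpow_mul, zpow_two]; exact zpow_mem h2 j))
    · refine Or.inr ?_
      simp only [zpow_add, zpow_mul, zpow_two, zpow_one, mul_assoc, mul_inv_cancel, mul_one]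
      exact mul_mem ha (zpow_mem h2 j)
  · simpa using mul_mem (mem_sup_left hy) (mem_sup_elt A x)

theorem relIndex_sup2 {A : Subgroup G} {x : G} (hx : x ∈ 𝐍(A)) (h2 : x * x ∈ A) (hA : x ∉ A) :
    A.relIndex (A ⊔ zpowers x) = 2 := by
  refine index_eq_two_iff.2 ⟨⟨x⁻¹, inv_mem (mem_sup_elt A x)⟩, fun b => ?_⟩
  rcases (mem_sup2 hx h2).1 b.2 with h | h
  · exact Or.inr ⟨h, fun h' => hA (inv_mem_iff.1 ((mul_mem_cancel_left h).1 h'))⟩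
  · exact Or.inl ⟨h, fun h' => hA (inv_mem_iff.1 ((mul_mem_cancel_left (H := A) h').1 h))⟩

theorem card_sup2 {A : Subgroup G} {x : G} (hx : x ∈ 𝐍(A)) (h2 : x * x ∈ A) (hA : x ∉ A) :
    #|A ⊔ zpowers x| = #|A| * 2 := by
  rw [← relIndex_sup2 hx h2 hA, Tr.card_mul_relIndex le_sup_left]

theorem conj_iff_of_two {R P : Subgroup G} (h : R.relIndex P = 2) {d x : G} (hP : d ∈ 𝐍(P))
    (hR : d ∈ 𝐍(R)) (hx : x ∈ P) : d * x * d⁻¹ * x⁻¹ ∈ R := by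
  rw [Tr.mul_mem_iff_of_relIndex_two h ((memJ_norm hP).2 hx) (inv_mem hx), inv_mem_iff,
    memJ_norm hR]

variable [Finite G]

theorem ncard_class (x : G) (L : Subgroup G) : (clsup {x} L).ncard = 𝐂[x].relIndex L := by
  have h : NormedTI {x} L (L ⊓ 𝐂[x]) :=
    ⟨⟨x, rfl⟩, inf_le_left, fun g hg a ha => by rw [ha]; exact cent1_conj.1 hg.2,
      fun g hg a ha e => ⟨hg, cent1_conj.2 (by rw [ha] at e; exact e)⟩⟩
  rw [card_support_normedTI h, Set.ncard_singleton, one_mul, indexgI]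

theorem class_eq {x : G} {A B : Subgroup G} (h : A ≤ B) (hc : 𝐂[x].relIndex B ≤ 𝐂[x].relIndex A)
    {b : G} (hb : b ∈ B) : ∃ a ∈ A, a * x * a⁻¹ = b * x * b⁻¹ := by
  have h1 : clsup {x} A = clsup {x} B := Set.eq_of_subset_of_ncard_le
    (fun _ ⟨y, hy, g, hg, e⟩ => ⟨y, hy, g, h hg, e⟩) (by rwa [ncard_class, ncard_class])
  obtain ⟨_, rfl, a, ha, e⟩ := h1.ge (memJ_class_support rfl hb)
  exact ⟨a, ha, e⟩

theorem class_surj {x : G} {A K : Subgroup G} (h : ∀ a ∈ A, a * x * a⁻¹ * x⁻¹ ∈ K)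
    (hc : #|K| ≤ 𝐂[x].relIndex A) {k : G} (hk : k ∈ K) : ∃ a ∈ A, a * x * a⁻¹ = k * x := by
  have h1 : clsup {x} A = (· * x) '' (K : Set G) := Set.eq_of_subset_of_ncard_le
    (by rintro _ ⟨_, rfl, g, hg, rfl⟩; exact ⟨_, h g hg, by simp⟩)
    (by rwa [ncard_class, Set.ncard_image_of_injective _ (mul_left_injective x)])
  obtain ⟨_, rfl, a, ha, e⟩ := h1.ge ⟨k, hk, rfl⟩
  exact ⟨a, ha, e⟩

theorem surj_comm {A : Subgroup G} {d : G} (hd : d ∈ 𝐍(A))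
    (hf : ∀ x ∈ A, d * x * d⁻¹ = x → x = 1) {x : G} (hx : x ∈ A) :
    ∃ y ∈ A, x = y⁻¹ * (d * y * d⁻¹) := by
  let f : A → A := fun y => ⟨(y : G)⁻¹ * (d * y * d⁻¹), mul_mem (inv_mem y.2) ((memJ_norm hd).2 y.2)⟩
  have hi : Function.Injective f := fun y z e => by
    have e1 : (y : G)⁻¹ * (d * y * d⁻¹) = (z : G)⁻¹ * (d * z * d⁻¹) := congrArg Subtype.val e
    refine Subtype.ext (mul_inv_eq_one.1 (hf _ (mul_mem y.2 (inv_mem z.2)) ?_))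
    calc d * (y * (z : G)⁻¹) * d⁻¹ = y * ((y : G)⁻¹ * (d * y * d⁻¹)) * (d * z * d⁻¹)⁻¹ := by group
      _ = _ := by rw [e1]; group
  obtain ⟨y, hy⟩ := Finite.surjective_of_injective hi ⟨x, hx⟩
  exact ⟨y, y.2, (congrArg Subtype.val hy).symm⟩

theorem cop_zp {P : Subgroup G} (hP : IsPGroup 2 P) {d : G} (ho : Odd (orderOf d)) :
    (#|P|).Coprime #|zpowers d| := (cop2 (by rwa [Nat.card_zpowers]) hP).symm

theorem ti_mod {P N : Subgroup G} {d x : G} (hP : IsPGroup 2 P) (hN : P ≤ 𝐍(N)) (dP : d ∈ 𝐍(P))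
    (dN : d ∈ 𝐍(N)) (ho : Odd (orderOf d)) (hsq : ∀ x ∈ P, x * x ∈ N) (hx : x ∈ ⁅P, zpowers d⁆)
    (hf : d * x * d⁻¹ * x⁻¹ ∈ N) : x ∈ N := by
  have hxP : x ∈ P := commg_subl.2 (zpowers_le.2 dP) hx
  have h1 := coprime_abel_cent_TI (quotient_norms N (zpowers_le.2 dP))
    (coprime_quotient N (cop_zp hP ho)) (abelianP.2 fun _ ha _ hb => comm_of_sq (fun z hz => by
      obtain ⟨y, hy, rfl⟩ := (mem_qt_of_le hN).1 hz
      rw [← cst_mul (hN hy) (hN hy)]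
      exact coset_id (hsq y hy)) ha hb)
  refine coset_idr (hN hxP) ((eq_bot_iff_forall _).1 h1 _ ⟨?_, ?_⟩)
  · rw [← quotientR hN (zpowers_le.2 dN)]
    exact mem_quotient N hx
  · rw [quotient_cycle dN, cent_cycle]
    refine mem_centralizer_singleton_iff.2 ?_
    rw [← cst_mul (hN hxP) dN, ← cst_mul dN (hN hxP), eq_comm,
      cst_eq_iff' (mul_mem dN (hN hxP)) (mul_mem (hN hxP) dN)]
    simpa only [mul_inv_rev, mul_assoc] using hf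

theorem fix_mod {P N : Subgroup G} {d x : G} (hP : IsPGroup 2 P) (hN : N ⊴ P) (dN : d ∈ 𝐍(N))
    (ho : Odd (orderOf d)) (hx : x ∈ P) (hf : d * x * d⁻¹ * x⁻¹ ∈ N) :
    ∃ c ∈ P, Commute c d ∧ c * x⁻¹ ∈ N := by
  have h1 := (coprime_quotient_cent1 hN.le dN (by
    rw [← Nat.card_zpowers]; exact cop_zp (pgroup_sub hN.le hP) ho)).ge
    (show cst N x ∈ P /c N ⊓ 𝐂[cst N d] from ⟨mem_quotient N hx, by
      refine mem_centralizer_singleton_iff.2 ?_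
      rw [← cst_mul (hN.nz hx) dN, ← cst_mul dN (hN.nz hx), eq_comm,
        cst_eq_iff' (mul_mem dN (hN.nz hx)) (mul_mem (hN.nz hx) dN)]
      simpa only [mul_inv_rev, mul_assoc] using hf⟩)
  obtain ⟨c, hc, hn, e⟩ := mem_qt.1 h1
  exact ⟨c, hc.1, mem_centralizer_singleton_iff.1 hc.2, (cst_eq_iff' hn (hN.nz hx)).1 e⟩

theorem fpf4 {K : Subgroup G} {d : G} (hK : IsPGroup 2 K) (h4 : #|K| ≤ 4) (h0 : K ≠ ⊥)
    (hd : d ∈ 𝐍(K)) (hf : ∀ x ∈ K, d * x * d⁻¹ = x → x = 1) : IsKleinFour K := by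
  obtain ⟨t, ht, t2⟩ := Tr.exists_orderOf_two_of_ne_bot (pgroup_sub inf_le_left hK)
    (pgroup_fix_ne_bot hK hK le_normalizer h0)
  have tt := Tr.mul_self_of_orderOf_two t2
  have t1 := Tr.ne_one_of_orderOf_two t2
  have h1 := (memJ_norm hd).2 ht.1
  have h2 : d * t * d⁻¹ ∈ 𝐂(zpowers t) := by
    rw [cent_cycle]; exact mem_centralizer_singleton_iff.2 (mem_centralizer_iff.1 ht.2 _ h1)
  have h3 : (d * t * d⁻¹) ^ 2 = 1 := by rw [sq, Tr.conj_mul_self tt]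
  have h5 := card_sup_cycle (cent_sub _ h2) (fun e => (mem_zp2 tt e).elim
    (fun e => t1 (by simpa using e)) fun e => t1 (hf t ht.1 e)) h3
  rw [Nat.card_zpowers, t2] at h5
  rw [← eq_of_le_of_card_ge (sup_le (zpowers_le.2 ht.1) (zpowers_le.2 h1)) (h5 ▸ h4)]
  exact four_of_abelem (abelem_sup_cycle (cycle_abelem (by rw [sq, tt])) h2 h3) h5

theorem four_mod {P N : Subgroup G} {d : G} (hP : IsPGroup 2 P) (hN : N ⊴ P) (h0 : ¬ P ≤ N)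
    (h4 : N.relIndex P ≤ 4) (dP : d ∈ 𝐍(P)) (dN : d ∈ 𝐍(N))
    (hf : ∀ x ∈ P, d * x * d⁻¹ * x⁻¹ ∈ N → x ∈ N) :
    N.relIndex P = 4 ∧ (∀ x ∈ P, x * x ∈ N) ∧ ∀ x ∈ P, x ∉ N → ∀ y ∈ P,
      y ∈ N ∨ y * x⁻¹ ∈ N ∨ y * (d * x * d⁻¹)⁻¹ ∈ N ∨ y * (x * (d * x * d⁻¹))⁻¹ ∈ N := by
  have nd : ∀ x ∈ P, d * x * d⁻¹ ∈ 𝐍(N) := fun x hx => hN.nz ((memJ_norm dP).2 hx)
  have h1 : IsKleinFour (P /c N) := fpf4 (quotient_pgroup N (piG_of_isPGroup hP)).isPGroup (by rwa [card_quotient hN.nz])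
    (fun e => h0 ((quotient_eq_bot hN.nz).1 e)) (cst_mem_norm dP) fun z hz e => by
      obtain ⟨x, hx, rfl⟩ := (mem_qt_of_le hN.nz).1 hz
      rw [← cst_conj dN (hN.nz hx), cst_eq_iff' (nd x hx) (hN.nz hx)] at e
      exact coset_id (hf x hx e)
  refine ⟨by rw [← card_quotient hN.nz, h1.card_four], fun x hx => ?_, fun x hx hx' y hy => ?_⟩
  · refine coset_idr (hN.nz (mul_mem hx hx)) ?_
    rw [cst_mul (hN.nz hx) (hN.nz hx)]
    exact TwoGrp.kleinFour_mul_self h1 (mem_quotient N hx)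
  · have h2 := (TwoGrp.kleinFour_mem_iff h1 (mem_quotient N hx)
      (mem_quotient N ((memJ_norm dP).2 hx)) (fun e => hx' (coset_idr (hN.nz hx) e))
      (fun e => hx' ((memJ_norm dN).1 (coset_idr (nd x hx) e)))
      (fun e => hx' (hf x hx ((cst_eq_iff' (nd x hx) (hN.nz hx)).1 e.symm))) _).1
      (mem_quotient N hy)
    rwa [cst_eq_one (hN.nz hy), cst_eq_iff' (hN.nz hy) (hN.nz hx), cst_eq_iff' (hN.nz hy) (nd x hx),
      ← cst_mul (hN.nz hx) (nd x hx), cst_eq_iff' (hN.nz hy) (mul_mem (hN.nz hx) (nd x hx))] at h2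

/-- a strongly closed four-group centralized by the 2-subgroups containing it -/
structure ZC (F : Set G) (Z : Subgroup G) : Prop extends F4 F Z where
  cen : ∀ P : Subgroup G, IsPGroup 2 P → Z ≤ P → P ≤ 𝐂(Z)

theorem zc_of {S : Sylow 2 G} {Z : Subgroup G} (hE : IsElementaryAbelian 2 Z) (h4 : #|Z| = 4)
    (h : IsStronglyClosed Z (S : Subgroup G)) (hc : (S : Subgroup G) ≤ 𝐂(Z)) : ZC (cl Z) Z where
  toScl := scl_of_sc h
  four := four_of_abelem hE h4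
  cen := fun P hP hZ => by
    obtain ⟨g, -, hg⟩ := (SylowIn.top S).exists_cj_le hP le_top
    have h1 := (scl_of_sc h).eq_of_le ((scl_of_sc h).cj g) S.isPGroup' h.1
      ((Tr.cj_mono g hZ).trans hg)
    rw [← Tr.cj_le_cj (g := g), ← centJ, h1]
    exact hg.trans hc

namespace ZC

variable {F : Set G} {Z : Subgroup G} (h : ZC F Z)
include h

theorem scZ {P : Subgroup G} (hP : IsPGroup 2 P) (hZ : Z ≤ P) {z g : G} (hz : z ∈ Z)
    (hg : g * z * g⁻¹ ∈ P) : g * z * g⁻¹ ∈ Z := (h.sc hP hZ).2 z hz g hg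

theorem not_mem {x g : G} (hx : IsPGroup 2 (zpowers x)) (hn : x ∈ 𝐍(Z)) (hx' : x ∉ Z) :
    g * x * g⁻¹ ∉ Z := fun e => hx' (by
  simpa [mul_assoc] using h.scZ (g := g⁻¹) (pgroup_sup_elt h.two hx hn) le_sup_left e
    (by simpa [mul_assoc] using mem_sup_elt Z x))

theorem two_cent {x : G} (hx : IsPGroup 2 (zpowers x)) (hn : x ∈ 𝐍(Z)) : x ∈ 𝐂(Z) :=
  h.cen _ (pgroup_sup_elt h.two hx hn) le_sup_left (mem_sup_elt Z x)

theorem sq_cent {n : G} (hn : n ∈ 𝐍(Z)) (h2 : n * n ∈ 𝐂(Z)) : n ∈ 𝐂(Z) := by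
  obtain ⟨u, hu, v, hv, h3, h4, e⟩ := exists_parts n
  have h5 := h.two_cent h3 (zpowers_le.2 hn hu)
  have h6 : v * u = u * v := abelian_comm (cycle_abelian n) hv hu
  rw [e] at h2 ⊢
  refine mul_mem h5 (Tr.mem_of_mul_self_mem_of_odd h4 ?_)
  rwa [mul_assoc, ← mul_assoc v, h6, mul_assoc, mul_mem_cancel_left h5,
    mul_mem_cancel_left h5] at h2

theorem fix_cent {n a : G} (hn : n ∈ 𝐍(Z)) (ha : a ∈ Z) (a1 : a ≠ 1) (e : n * a * n⁻¹ = a) :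
    n ∈ 𝐂(Z) := by
  by_contra hc
  exact hc (h.sq_cent hn (h.mul_mem_cent ha a1 hn hn e e hc hc))

theorem fpf {d : G} (hn : d ∈ 𝐍(Z)) (hc : d ∉ 𝐂(Z)) (a : G) (ha : a ∈ Z) (e : d * a * d⁻¹ = a) :
    a = 1 := by_contra fun a1 => hc (h.fix_cent hn ha a1 e)

theorem conj2 {d a : G} (hn : d ∈ 𝐍(Z)) (hc : d ∉ 𝐂(Z)) (ha : a ∈ Z) (a1 : a ≠ 1) :
    d * (d * a * d⁻¹) * d⁻¹ = a * (d * a * d⁻¹) := by
  have hb := (memJ_norm hn).2 ha
  have b1 : d * a * d⁻¹ ≠ 1 := by simpa using a1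
  rcases (h.mem_iff ha hb a1 b1 (fun e => a1 (h.fpf hn hc a ha e.symm)) _).1
    ((memJ_norm hn).2 hb) with e | e | e | e
  · exact absurd (by simpa using e) a1
  · exact absurd (h.sq_cent hn (h.fix_cent (mul_mem hn hn) ha a1
      (Eq.trans (by group) e))) hc
  · exact absurd (h.fpf hn hc _ hb e) b1
  · exact e

theorem cube {d : G} (hn : d ∈ 𝐍(Z)) : d * d * d ∈ 𝐂(Z) := by
  by_cases hc : d ∈ 𝐂(Z)
  · exact mul_mem (mul_mem hc hc) hc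
  obtain ⟨a, ha, a1, -⟩ := h.exists_ne 1
  refine h.fix_cent (mul_mem (mul_mem hn hn) hn) ha a1 ?_
  have hb := (memJ_norm hn).2 ha
  calc d * d * d * a * (d * d * d)⁻¹ = d * (d * (d * a * d⁻¹) * d⁻¹) * d⁻¹ := by group
    _ = d * a * d⁻¹ * (d * (d * a * d⁻¹) * d⁻¹) := by
      conv_lhs => rw [h.conj2 hn hc ha a1]
      group
    _ = _ := by rw [h.conj2 hn hc ha a1, h.comm ha hb, ← mul_assoc, h.sq hb, one_mul]

theorem fused {d a b : G} (hn : d ∈ 𝐍(Z)) (hc : d ∉ 𝐂(Z)) (ha : a ∈ Z) (a1 : a ≠ 1) (hb : b ∈ Z)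
    (b1 : b ≠ 1) : b = a ∨ b = d * a * d⁻¹ ∨ b = d * (d * a * d⁻¹) * d⁻¹ := by
  rw [h.conj2 hn hc ha a1]
  exact ((h.mem_iff ha ((memJ_norm hn).2 ha) a1 (by simpa using a1)
    (fun e => a1 (h.fpf hn hc a ha e.symm)) _).1 hb).resolve_left b1

theorem odd_part {d : G} (hn : d ∈ 𝐍(Z)) (hc : d ∉ 𝐂(Z)) :
    ∃ v ∈ zpowers d, Odd (orderOf v) ∧ v ∉ 𝐂(Z) := by
  obtain ⟨u, hu, v, hv, h3, h4, e⟩ := exists_parts d
  exact ⟨v, hv, h4, fun h5 => hc (e ▸ mul_mem (h.two_cent h3 (zpowers_le.2 hn hu)) h5)⟩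

end ZC

end Cfsg.Agent.SC
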