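import Cfsg.Agent.Lib.SC.Defs
import Cfsg.Agent.Lib.SF.S1172Of

/-! Row RED of `docs/SC_PLAN.md`: maximal subgroups of a family, the perfect residual. -/

set_option autoImplicit false
set_option linter.unusedSectionVars false
set_option linter.unusedVariables false

namespace Cfsg.Agent.SC.Red

open Subgroup Cfsg.Agent.FT Cfsg.Agent.SF Cfsg.Agent.SF.GP

variable {G : Type*} [Group G]

/-- the largest perfect subgroup of `X` -/
def res (X : Subgroup G) : Subgroup G := sSup {L | L ≤ X ∧ ⁅L, L⁆ = L}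

theorem res_le (X : Subgroup G) : res X ≤ X := sSup_le fun _ h => h.1

theorem le_res {L X : Subgroup G} (h : L ≤ X) (hL : ⁅L, L⁆ = L) : L ≤ res X := le_sSup ⟨h, hL⟩

theorem res_perf (X : Subgroup G) : ⁅res X, res X⁆ = res X :=
  le_antisymm (der_sub _) (sSup_le fun L hL => hL.2.ge.trans (dergS (le_sSup hL)))

theorem cj_res_le (g : G) (X : Subgroup G) : cj g (res X) ≤ res (cj g X) :=
  le_res (Tr.cj_mono g (res_le X)) (by rw [← Tr.cj_commutator, res_perf])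

theorem res_cj (g : G) (X : Subgroup G) : res (cj g X) = cj g (res X) :=
  le_antisymm (Tr.le_cj_iff_cj_inv_le.2 (by
    have := cj_res_le g⁻¹ (cj g X)
    rwa [Tr.cj_inv_cj] at this)) (cj_res_le g X)

theorem norm_res (X : Subgroup G) : 𝐍(X) ≤ 𝐍(res X) := fun g hg =>
  Tr.cj_eq_iff.1 (by rw [← res_cj, Tr.cj_eq_iff.2 hg])

theorem norm_resC (T : Subgroup G) : 𝐍(T) ≤ 𝐍(res 𝐂(T)) := (cent_norm T).trans (norm_res _)

theorem resC_cj (g : G) (T : Subgroup G) : res 𝐂(cj g T) = cj g (res 𝐂(T)) := by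
  rw [centJ, res_cj]

theorem perf_map {G' : Type*} [Group G'] (f : G →* G') {L : Subgroup G} (h : ⁅L, L⁆ = L) :
    ⁅L.map f, L.map f⁆ = L.map f := by rw [← map_commutator, h]

theorem perf_subgroupOf {L H : Subgroup G} (hle : L ≤ H) (h : ⁅L, L⁆ = L) :
    ⁅L.subgroupOf H, L.subgroupOf H⁆ = L.subgroupOf H := by
  apply map_injective H.subtype_injective
  rw [map_commutator, subgroupOf_map_subtype, inf_eq_left.2 hle, h]

theorem perf_sol {L : Subgroup G} (h : ⁅L, L⁆ = L) (hs : Group.IsSolvable L) : L = ⊥ := by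
  by_contra hne
  exact (sol_der1_proper hs hne).ne h

theorem comm_perf {X L : Subgroup G} (hL : ⁅L, L⁆ = L) (h : ⁅⁅X, L⁆, L⁆ = ⊥) : ⁅X, L⁆ = ⊥ := by
  have := three_subgroup (A := L) (B := X) (C := L) (by rwa [commGC L X]) h
  rwa [hL, commGC] at this

/-- `T` is maximal among the 2-subgroups of `X` that consist of members of the family -/
structure Mx (F : Set G) (T X : Subgroup G) : Prop where
  sub : ∀ t ∈ T, t ∈ F
  le : T ≤ X
  two : IsPGroup 2 T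
  max : ∀ Q, Q ≤ X → IsPGroup 2 Q → T ≤ Q → ∀ t ∈ F, t ∈ Q → t ∈ T

variable {F : Set G} {T T' X : Subgroup G}

theorem Mx.mono (h : Mx F T X) {H : Subgroup G} (h1 : T ≤ H) (h2 : H ≤ X) : Mx F T H :=
  ⟨h.sub, h1, h.two, fun Q hQ => h.max Q (hQ.trans h2)⟩

theorem Mx.eq_NN (h : Mx F T X) {Q : Subgroup G} (hQ : Q ≤ X) (h2 : IsPGroup 2 Q) (hT : T ≤ Q) :
    NN F Q = T :=
  le_antisymm (NN_le_iff.2 (h.max Q hQ h2 hT)) (le_NN h.sub hT)

theorem Mx.eq_of_le (h : Mx F T X) (hs : ∀ t ∈ T', t ∈ F) (h2 : IsPGroup 2 T') (hX : T' ≤ X)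
    (hle : T ≤ T') : T' = T :=
  le_antisymm (fun t ht => h.max T' hX h2 hle t (hs t ht) ht) hle

theorem Mx.cj (h : Mx F T X) (hF : Fam F) (g : G) : Mx F (cj g T) (cj g X) where
  sub t ht := by
    obtain ⟨a, ha, rfl⟩ := Tr.mem_cj'.1 ht
    exact hF.conj a (h.sub a ha) g
  le := Tr.cj_mono g h.le
  two := Tr.isPGroup_cj g h.two
  max Q hQ h2 hT t ht htQ := Tr.mem_cj.2 (h.max (Tr.cj g⁻¹ Q) (Tr.le_cj_iff_cj_inv_le.1 hQ)
    (Tr.isPGroup_cj _ h2) (Tr.cj_le_iff_le_cj_inv.1 hT) _ (hF.conj' ht g)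
    (Tr.mem_cj_inv.2 (by simpa [mul_assoc] using htQ)))

theorem Mx.cj_top (h : Mx F T ⊤) (hF : Fam F) (g : G) : Mx F (Tr.cj g T) ⊤ := by
  simpa only [Tr.cj_top] using h.cj hF g

theorem NN_cj (hF : Fam F) (g : G) (X : Subgroup G) : NN F (cj g X) = cj g (NN F X) := by
  have key : ∀ (g : G) (X : Subgroup G), NN F (cj g X) ≤ cj g (NN F X) := fun g X =>
    NN_le_iff.2 fun t ht hx => Tr.mem_cj.2 (mem_NN (hF.conj' ht g) (Tr.mem_cj.1 hx))
  refine le_antisymm (key g X) (Tr.cj_le_iff_le_cj_inv.2 ?_)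
  have := key g⁻¹ (cj g X)
  rwa [Tr.cj_inv_cj] at this

theorem Mx.subtype (h : Mx F T X) : Mx (X.subtype ⁻¹' F) (T.subgroupOf X) ⊤ where
  sub t ht := h.sub _ ht
  le := le_top
  two := h.two.comap_subtype
  max Q _ h2 hT t ht htQ := h.max (Q.map X.subtype) (map_subtype_le Q) (h2.map _)
    (fun x hx => ⟨⟨x, h.le hx⟩, hT hx, rfl⟩) t ht (mem_map_of_mem _ htQ)

variable [Finite G]

theorem mx_NN (hF : Fam F) {P : Subgroup G} (hP : IsSylowIn 2 P X) : Mx F (NN F P) X where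
  sub t ht := ((hF.mem_NN_iff hP.pgroup).1 ht).1
  le := (NN_le _ _).trans hP.le
  two := pgroup_sub (NN_le _ _) hP.pgroup
  max Q hQ h2 hT t ht htQ := by
    obtain ⟨x, -, hx⟩ := Sylow_subJ hP hQ h2
    have h1 : NN F P ≤ Tr.cj x (NN F P) := by
      rw [← NN_cj hF]
      exact le_NN (fun e he => ((hF.mem_NN_iff hP.pgroup).1 he).1) (hT.trans hx)
    rw [eq_of_le_card_eq h1 (Tr.card_cj _ _).symm, ← NN_cj hF]
    exact mem_NN ht (hx htQ)

theorem Mx.exists_syl (h : Mx F T X) : ∃ P, IsSylowIn 2 P X ∧ T ≤ P ∧ NN F P = T := by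
  obtain ⟨P, hP, hT⟩ := Sylow_superset h.le h.two
  exact ⟨P, hP, hT, h.eq_NN hP.le hP.pgroup hT⟩

theorem Mx.conj (h : Mx F T X) (hF : Fam F) (h' : Mx F T' X) : ∃ g ∈ X, T' = Tr.cj g T := by
  obtain ⟨P, hP, -, rfl⟩ := h.exists_syl
  obtain ⟨P', hP', -, rfl⟩ := h'.exists_syl
  obtain ⟨g, hg, rfl⟩ := Sylow_trans hP hP'
  exact ⟨g, hg, NN_cj hF g P⟩

theorem exists_mx (hF : Fam F) {V : Subgroup G} (hV : V ≤ X) (h2 : IsPGroup 2 V) :
    ∃ T, Mx F T X ∧ V ≤ 𝐍(T) ∧ ∀ t ∈ F, t ∈ V → t ∈ T := by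
  obtain ⟨P, hP, hVP⟩ := Sylow_superset hV h2
  exact ⟨_, mx_NN hF hP, hVP.trans (hF.NN_nrm P).nz, fun t ht htV => mem_NN ht (hVP htV)⟩

/-- a 2-subgroup inside the family is conjugate into `T` -/
theorem Mx.exists_conj (h : Mx F T X) (hF : Fam F) {V : Subgroup G} (hV : V ≤ X)
    (h2 : IsPGroup 2 V) (hs : ∀ v ∈ V, v ∈ F) : ∃ g ∈ X, V ≤ Tr.cj g T := by
  obtain ⟨T', h1, -, h3⟩ := exists_mx hF hV h2
  obtain ⟨g, hg, rfl⟩ := h.conj hF h1
  exact ⟨g, hg, fun v hv => h3 v (hs v hv) hv⟩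

theorem Mx.exists_conj1 (h : Mx F T X) (hF : Fam F) {t : G} (ht : t ∈ F) (hX : t ∈ X) :
    ∃ g ∈ X, g * t * g⁻¹ ∈ T := by
  obtain ⟨g, hg, h1⟩ := h.exists_conj hF (cycle_subG.2 hX) (hF.two t ht)
    fun v hv => hF.of_mem_zpowers ht hv
  exact ⟨g⁻¹, inv_mem hg, by simpa using Tr.mem_cj.1 (h1 (mem_zpowers t))⟩

theorem Mx.sub_fam (h : Mx F T X) {F' : Set G} (hF' : Fam F') (hs : F' ⊆ F) :
    ∃ T', T' ≤ T ∧ Mx F' T' X := by
  obtain ⟨P, hP, -, rfl⟩ := h.exists_syl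
  exact ⟨_, NN_le_iff.2 fun t ht hx => mem_NN (hs ht) hx, mx_NN hF' hP⟩

theorem Mx.image (h : Mx F T ⊤) (hF : Fam F) {G' : Type*} [Group G'] [Finite G'] {f : G →* G'}
    (hf : Function.Surjective f) : Mx (f '' F) (T.map f) ⊤ := by
  obtain ⟨P, hP, hTP, e⟩ := h.exists_syl
  have h1 := morphim_pSylow f hP
  rw [map_top_of_surjective f hf] at h1
  have h2 := mx_NN (hF.image hf) h1
  suffices h3 : NN (f '' F) (P.map f) = T.map f from h3 ▸ h2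
  refine le_antisymm (NN_le_iff.2 ?_) (le_NN ?_ (map_mono hTP))
  · rintro _ ⟨t, ht, rfl⟩ htP
    have hP' : IsSylowIn 2 P ((P.map f).comap f) := Sylow_subl (le_comap_map f P) le_top hP
    obtain ⟨g, hg, hgP⟩ := Sylow_Jsub hP' (cycle_subG.2 htP) (hF.two t ht)
    rw [comap_map_eq] at hg
    obtain ⟨p, hp, n, hn, rfl⟩ := (mem_join_norm' (norms_of_normal P)).1 hg
    rw [Tr.cj_mul, Tr.cj_le_iff_le_cj_inv, Tr.cj_eq_of_mem (inv_mem hp)] at hgP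
    exact ⟨_, e ▸ mem_NN (hF.conj t ht n) (hgP (Tr.conj_mem_cj.2 (mem_zpowers t))),
      map_conj_ker f hn t⟩
  · rintro _ ⟨t, ht, rfl⟩
    exact ⟨t, h.sub t ht, rfl⟩

theorem Mx.sc (h : Mx F T ⊤) (hF : Fam F) : ∃ S : Sylow 2 G, IsStronglyClosed T (S : Subgroup G) := by
  obtain ⟨S, hS⟩ := h.two.exists_le_sylow
  exact ⟨S, h.eq_NN le_top S.isPGroup' hS ▸ hF.sc S⟩

theorem mx_cl {S : Sylow 2 G} (h : IsStronglyClosed T (S : Subgroup G)) : Mx (cl T) T ⊤ := by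
  have : NN (cl T) S = T := le_antisymm (NN_le_iff.2 fun t ht hS => mem_of_cl h ht hS)
    (le_NN (fun e he => mem_cl he) h.1)
  have h1 := mx_NN (fam_cl h) (syl_top S)
  rwa [this] at h1

theorem fam_inter (hF : Fam F) {N : Subgroup G} [hN : N.Normal] : Fam (F ∩ N) where
  one := ⟨hF.one, one_mem N⟩
  conj x hx g := ⟨hF.conj x hx.1 g, hN.conj_mem x hx.2 g⟩
  two x hx := hF.two x hx.1
  mul P hP x hx y hy h1 h2 := ⟨hF.mul P hP x hx.1 y hy.1 h1 h2, mul_mem hx.2 hy.2⟩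

end Cfsg.Agent.SC.Red
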