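import Cfsg.Agent.Lib.SC.Ben1
import Cfsg.Agent.Lib.BS.All
import Cfsg.Agent.Lib.ST.Defs

/-! Row BEN of `docs/SC_PLAN.md`: the end game for Bender groups. -/

set_option autoImplicit false
set_option linter.unusedSectionVars false
set_option linter.unusedVariables false

namespace Cfsg.Agent.SC.Ben

open Subgroup Cfsg.Agent.FT Cfsg.Agent.SF Cfsg.Agent.SF.GP Cfsg.Agent.BS

universe u

section aut

variable {X Ω : Type u} [Group X] [Finite X] [MulAction X Ω] {α β : Ω} {t s r : X}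
  {Q Q0 K : Subgroup X} (h : Rich α β t s r Q Q0 K) {σ : MulAut X} (hσ : ∀ u ∈ Q0, σ u = u)
include h hσ

theorem aut_Q (hQ : ∀ x ∈ Q, x ^ 4 = 1) {y : X} (hy : y ∈ Q) : σ y ∈ Q := by
  refine h.toHyp.mem_Q_of_two_pow (n := 2) (h.toHyp.smul_a_of_commute h.sQ h.s_ne ?_)
    (by rw [← map_pow, show y ^ 2 ^ 2 = 1 from hQ y hy, map_one])
  have := congrArg σ (h.cent s h.s_mem y hy).eq
  rw [map_mul, map_mul, hσ s h.s_mem] at this
  exact this.symm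

theorem aut_H {g : X} (hg : g • α = α) : σ g • α = α := by
  refine h.toHyp.ti h.sQ h.s_ne ?_
  have h1 := h.conj_Q0 hg h.s_mem
  have h2 := hσ _ h1
  rw [map_mul, map_mul, map_inv, hσ s h.s_mem] at h2
  exact h2 ▸ h.Q0_le h1

theorem aut_t (hQ : ∀ x ∈ Q, x ^ 4 = 1) (ht : σ t • α = β) : σ t = t := by
  obtain ⟨k, hk, e⟩ := h.swapper ht (by rw [← map_mul, h.tt, map_one])
  have h1 := congrArg σ h.tst
  simp only [map_mul, map_inv, hσ s h.s_mem, e] at h1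
  have h2 := (h.dist_unique (s' := k⁻¹ * s * k⁻¹⁻¹) (r' := k⁻¹ * σ r * k) (h.ks_mem (inv_mem hk))
    (h.ks_ne _) (h.toHyp.QD' (h.K_le hk) (aut_Q h hσ hQ h.rQ)) (by
      calc _ = k⁻¹ * (k * t * k⁻¹ * s * (k * t * k⁻¹)) * k := by group
        _ = _ := by rw [h1]; group)).1
  rw [e, inv_eq_one.1 (h.K_fpf' (inv_mem hk) h.sQ h.s_ne h2)]
  group

theorem aut_K (ht : σ t = t) {k : X} (hk : k ∈ K) : σ k = k := by
  have h1 := (h.memK k).1 hk
  have h2 := aut_H h hσ (h.toHyp.tDt (h.K_le hk)).1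
  rw [map_mul, map_mul, ht, mul_smul, mul_smul, h.ta] at h2
  have h3 : σ k ∈ K := (h.memK _).2 ⟨aut_H h hσ h1.1, by
    rw [← h.toHyp.tt_smul (σ k • β), h2, h.ta], by rw [← map_inv, ← h1.2.2, map_mul, map_mul, ht]⟩
  refine h.K_inj h3 hk h.sQ h.s_ne ?_
  have h4 := hσ _ (h.ks_mem hk)
  rwa [map_mul, map_mul, map_inv, hσ s h.s_mem] at h4

theorem aut_dec (hQ : ∀ x ∈ Q, x ^ 4 = 1) :
    ∃ x ∈ Q, x⁻¹ * σ t * x = t ∧ ∀ k ∈ K, x⁻¹ * σ k * x = k := by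
  have h1 : σ t • α ≠ α := fun e => by
    have := aut_H h (σ := σ⁻¹) (fun u hu => by
      nth_rw 1 [← hσ u hu]
      exact σ.symm_apply_apply u) e
    rw [show σ⁻¹ (σ t) = t from σ.symm_apply_apply t, h.ta] at this
    exact h.ne this.symm
  obtain ⟨x, hx, e⟩ := h.tr _ h1
  have h2 : ∀ y, (MulAut.conj x⁻¹ * σ) y = x⁻¹ * σ y * x := fun y => by simp
  have h3 : ∀ u ∈ Q0, (MulAut.conj x⁻¹ * σ) u = u := fun u hu => by
    rw [h2, hσ u hu, mul_assoc, (h.cent u hu x hx).eq, inv_mul_cancel_left]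
  have h4 := aut_t h h3 hQ (by rw [h2, mul_smul, mul_smul, h.Qa x hx, ← e, inv_smul_smul])
  exact ⟨x, hx, h2 t ▸ h4, fun k hk => h2 k ▸ aut_K h h3 h4 hk⟩

end aut

theorem core {X Ω G : Type u} [Group X] [Finite X] [IsSimpleGroup X] [MulAction X Ω] [Group G]
    [Finite G] {α β : Ω} {t s r : X} {Q Q0 K : Subgroup X} (h : Rich α β t s r Q Q0 K)
    (f : X →* G) (hf : Function.Injective f) (σ : G → MulAut X)
    (hσ : ∀ c y, f (σ c y) = c * f y * c⁻¹) (hC : 𝐂(f.range) = ⊥) {L : Subgroup G}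
    (hL : ⁅L, L⁆ = L) (hc : L ≤ 𝐂(Q0.map f)) : L = ⊥ := by
  have : Fact OddOrderThm.{u} := ⟨FT.oddOrder⟩
  obtain ⟨c1, c2⟩ := h.toHyp.concl h.toHyp.rk2
  obtain ⟨h4, hcard⟩ : (∀ x ∈ Q, x ^ 4 = 1) ∧ #|Q| ≤ (#|K| + 1) ^ 3 := by
    by_cases hc : ∃ x ∈ Q, ∃ y ∈ Q, ¬ Commute x y
    · obtain ⟨h4, hcard⟩ := h.higman higman le_rfl (isPGroup_of_forall c1)
        (fun k hk x hx => h.toHyp.QD (h.K_le hk) hx) hc
      exact ⟨h4, hcard.elim (fun e => e ▸ Nat.pow_le_pow_right (Nat.succ_pos _) (by omega)) Eq.le⟩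
    · push Not at hc
      refine ⟨fun x hx => by rw [show 4 = 2 * 2 from rfl, pow_mul, sq x, c2 hc x hx, one_pow], ?_⟩
      rw [← le_antisymm h.Q0_le fun x hx => (h.memQ0 x).2 ⟨hx, c2 hc x hx⟩, h.card_Q0]
      exact Nat.le_self_pow (by omega) _
  have hsq : ∀ x ∈ Q, x * x ∈ Q0 := fun x hx => (h.memQ0 _).2 ⟨mul_mem hx hx, by
    rw [← h4 x hx]; simp only [pow_succ, pow_zero, one_mul, mul_assoc]⟩
  have hσ0 : ∀ c ∈ 𝐂(Q0.map f), ∀ u ∈ Q0, σ c u = u := fun c hc u hu => hf (by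
    rw [hσ, ← mem_cent.1 hc _ (mem_map_of_mem f hu), mul_inv_cancel_right])
  have hQc : Q.map f ≤ 𝐂(Q0.map f) := by
    rintro _ ⟨x, hx, rfl⟩
    refine mem_cent.2 ?_
    rintro _ ⟨u, hu, rfl⟩
    rw [← map_mul, ← map_mul, (h.cent u hu x hx).eq]
  have hQn : Q.map f ≤ 𝐍(Q0.map f) := cents_norm hQc
  have hKn : K.map f ≤ 𝐍(Q0.map f) :=
    norms_map f (norms_of_conj_mem fun k hk u hu => h.conj_Q0 (h.K_le hk).1 hu)
  have hKQ : K.map f ≤ 𝐍(Q.map f) :=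
    norms_map f (norms_of_conj_mem fun k hk u hu => h.toHyp.QD (h.K_le hk) hu)
  have hCQ : 𝐂(Q0.map f) ≤ 𝐍(Q.map f) := norms_of_conj_mem (by
    rintro c hc _ ⟨y, hy, rfl⟩
    exact ⟨_, aut_Q h (hσ0 c hc) h4 hy, hσ c y⟩)
  have hab : Abelem 2 (Q.map f /c Q0.map f) := (quotient_abelem_iff hQn).2 ⟨by
    rw [← map_commutator]
    exact map_mono (commg_le.2 fun x hx y hy => h.comm_mem higman hx hy (c1 x hx) (c1 y hy)), by
    rintro _ ⟨x, hx, rfl⟩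
    rw [← map_pow, sq]
    exact mem_map_of_mem f (hsq x hx)⟩
  have hdec : ∀ c ∈ 𝐂(Q0.map f), ∃ x ∈ Q.map f, x⁻¹ * c ∈ 𝐂[f t] ∧ x⁻¹ * c ∈ 𝐂(K.map f) := by
    intro c hc
    obtain ⟨x, hx, h1, h2⟩ := aut_dec h (hσ0 c hc) h4
    have key : ∀ y, x⁻¹ * σ c y * x = y → (f x)⁻¹ * c ∈ 𝐂[f y] := fun y e => by
      have := congrArg f e
      rw [map_mul, map_mul, map_inv, hσ] at this
      exact cent1_conj.2 (by rw [← this, this]; nth_rw 2 [← this]; group)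
    refine ⟨_, mem_map_of_mem f hx, key t h1, sub_cent1.1 ?_⟩
    rintro _ ⟨k, hk, rfl⟩
    exact cent1C.1 (key k (h2 k hk))
  have hX : Ctx (Q.map f /c Q0.map f) (K.map f /c Q0.map f) (𝐂(Q0.map f) /c Q0.map f) := by
    refine ⟨hab, quotient_norms _ hKQ, quotient_norms _ hCQ, fun c hc₀ k hk v hv => ?_,
      fun c hc₀ k hk₀ v hv e => ?_, ?_⟩
    · obtain ⟨c, hc, hc', rfl⟩ := mem_qt.1 hc₀
      obtain ⟨x, hx, -, h2⟩ := hdec c hc
      have h3 : cst (Q0.map f) c = cst (Q0.map f) x * cst (Q0.map f) (x⁻¹ * c) := by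
        rw [← cst_mul (hQn hx) (mul_mem (inv_mem (hQn hx)) hc'), mul_inv_cancel_left]
      have h5 := quotient_cent _ _ (mem_quotient (Q0.map f) h2)
      have h6 := quotient_norms _ hCQ (mem_quotient (Q0.map f) (mul_mem (inv_mem (hQc hx)) hc))
      have h7 := fun {z} hz => cent1_conj'.1 (cent_le_cent1 (mem_quotient (Q0.map f) hx)
        (abelem_cent hab (x := z) hz))
      rw [h3]
      generalize cst (Q0.map f) (x⁻¹ * c) = w at h5 h6
      have h8 := (memJ_norm h6).2 hv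
      have h9 := (memJ_norm (quotient_norms _ hKQ hk)).2 h8
      calc _ = cst (Q0.map f) x * (w * k * v * (w * k)⁻¹) * (cst (Q0.map f) x)⁻¹ := by group
        _ = cst (Q0.map f) x * (k * (w * v * w⁻¹) * k⁻¹) * (cst (Q0.map f) x)⁻¹ := by
          rw [← mem_cent.1 h5 k hk]; group
        _ = k * (cst (Q0.map f) x * (w * v * w⁻¹) * (cst (Q0.map f) x)⁻¹) * k⁻¹ := by
          rw [h7 h9, h7 h8]
        _ = _ := by group
    · obtain ⟨c, hc, hc', rfl⟩ := mem_qt.1 hc₀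
      obtain ⟨_, ⟨k, hk, rfl⟩, hk', rfl⟩ := mem_qt.1 hk₀
      obtain ⟨_, ⟨y, hy, rfl⟩, hy', rfl⟩ := mem_qt.1 hv
      rw [← cst_conj hc' hy', ← cst_conj hk' hy', cst_eq_iff
        (mul_mem (mul_mem hc' hy') (inv_mem hc')) (mul_mem (mul_mem hk' hy') (inv_mem hk')),
        ← hσ, ← map_inv f, ← map_inv f, ← map_mul f, ← map_mul f, ← map_mul f] at e
      have h1 : (σ c y)⁻¹ * (k * y * k⁻¹) ∈ Q0 := (mem_map_iff_mem hf).1 e
      have h2 : k * (y * y) * k⁻¹ = y * y := by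
        have h3 := (h.cent _ h1 _ (aut_Q h (hσ0 c hc) h4 hy)).eq
        have h5 := h.sq_Q0 h1
        obtain ⟨u, hu⟩ : ∃ u, u = (σ c y)⁻¹ * (k * y * k⁻¹) := ⟨_, rfl⟩
        rw [← hu] at h3 h5
        calc _ = σ c y * (((σ c y)⁻¹ * (k * y * k⁻¹)) * σ c y) * ((σ c y)⁻¹ * (k * y * k⁻¹)) := by
              group
          _ = σ c y * σ c y * (u * u) := by rw [← hu, h3]; group
          _ = _ := by rw [h5, mul_one, ← map_mul, hσ0 c hc _ (hsq y hy)]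
      by_cases h3 : y * y = 1
      · exact Or.inr (coset_id (mem_map_of_mem f ((h.memQ0 y).2 ⟨hy, h3⟩)))
      · rw [h.K_fpf' hk (mul_mem hy hy) h3 h2, map_one, cst_one]
        exact Or.inl rfl
    · have h1 := card_quotient_mul (N := Q0.map f) ⟨map_mono h.Q0_le, hQn⟩
      rw [card_quotient_TI hKn (by
        rw [← map_inf _ _ f hf, map_eq_bot_iff_of_injective _ hf, eq_bot_iff]
        exact fun k hk => mem_bot.2 (h.K_eq_one_of_sq hk.2 (h.sq_Q0 hk.1))),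
        card_map_of_injective hf]
      rw [card_map_of_injective hf, card_map_of_injective hf, h.card_Q0] at h1
      rw [← h1, pow_succ'] at hcard
      exact Nat.le_of_mul_le_mul_left hcard (Nat.succ_pos _)
  have hLn := cents_norm hc
  have h1 := (quotient_cents2 hLn hQn).1 (hX.perf (by rw [← quotientR hLn hLn, hL])
    (quotientS _ hc))
  refine Red.perf_sol hL (pgroup_sol (p := 2) (Tr.isPGroup_iff_forall_mem.2 fun c hcL => ?_))
  obtain ⟨x, hx, h2, -⟩ := hdec c (hc hcL)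
  obtain ⟨w, hw⟩ : ∃ w, w = x⁻¹ * c := ⟨_, rfl⟩
  have hwc : w ∈ 𝐂(Q0.map f) := hw ▸ mul_mem (inv_mem (hQc hx)) (hc hcL)
  have h3 : ∀ y ∈ Q.map f, w * y * w⁻¹ * y⁻¹ ∈ Q0.map f := fun y hy => by
    rw [← cst_eq_iff' (mul_mem (mul_mem (cent_sub _ hwc) (hQn hy)) (inv_mem (cent_sub _ hwc)))
      (hQn hy), cst_conj (cent_sub _ hwc) (hQn hy), hw, cst_mul (inv_mem (hQn hx)) (hLn hcL),
      ← cent1_conj]
    refine cent_le_cent1 (mem_quotient _ hy) (mul_mem (abelem_cent hab (mem_quotient _ (inv_mem hx)))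
      ((quotient_cents2 hLn hQn).2 h1 (mem_quotient _ hcL)))
  have h5 : w * w = 1 := by
    rw [← mem_bot, ← hC, MonoidHom.range_eq_map, ← h.sup_eq_top, Subgroup.map_sup, centY,
      MonoidHom.map_zpowers, cent_cycle]
    refine ⟨sub_cent1.1 fun y hy => cent1_conj'.2 ?_, mul_mem (hw ▸ h2) (hw ▸ h2)⟩
    obtain ⟨u, hu, e⟩ := h3 y hy
    have e' : w * y * w⁻¹ = f u * y := by rw [e]; group
    calc _ = w * (w * y * w⁻¹) * w⁻¹ := by group
      _ = w * (f u * y) * w⁻¹ := by rw [e']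
      _ = w * f u * w⁻¹ * (w * y * w⁻¹) := by group
      _ = _ := by
        rw [e', ← mem_cent.1 hwc _ (mem_map_of_mem f hu), mul_inv_cancel_right, ← mul_assoc,
          ← map_mul, h.sq_Q0 hu, map_one, one_mul]
  obtain ⟨y, hy, e⟩ : c * c ∈ Q.map f := by
    have := mul_mem hx ((memJ_norm (hCQ hwc)).2 hx)
    rw [Tr.inv_eq_of_mul_self h5, hw] at this
    simpa only [← mul_assoc, mul_inv_cancel, mul_inv_cancel_right, one_mul] using this
  exact ⟨3, by rw [show 2 ^ 3 = 2 * 4 from rfl, pow_mul, sq, ← e, ← map_pow, h4 y hy, map_one]⟩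

theorem benEnd (hB : ST.BenderStmt.{u}) : BenEndStmt.{u} := by
  intro G _ _ S J Z L _ _ hC ⟨H, hH⟩ hZJ hZ h4 hS hL hc
  obtain ⟨Q, t, h⟩ := hB J H hH
  obtain ⟨s, r, Q0, K, hR⟩ := h.rich h.rk2
  obtain ⟨z, hz, hz1⟩ := trivgPn.1 (cardG_gt1.1 (by omega : 1 < #|Z|))
  have ho : ∀ (x) (hx : x ∈ Z), x ≠ 1 → orderOf (⟨x, hZJ hx⟩ : J) = 2 := fun x hx h1 => by
    rw [← orderOf_coe]
    exact abelem_order_p hZ hx h1
  obtain ⟨g, hg⟩ := isConj_iff.1 (h.isConj (ho z hz hz1) hR.s2)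
  have hF := fam_cl hS
  have h1 : cj (g : G) Z ≤ Q0.map J.subtype := Tr.cj_le_iff.2 fun x hx =>
    ⟨g * ⟨x, hZJ hx⟩ * g⁻¹, hR.mem_Q0_of_sq (h.smul_a_of_commute hR.sQ hR.s_ne (by
      rw [← hg]
      exact (Commute.conj (Subtype.ext (abelem_comm hZ hx hz)) g)))
      (Tr.conj_mul_self (Subtype.ext ((sq x).symm.trans (abelem_pow hZ hx))) g), rfl⟩
  have h2 := ((Red.mx_cl hS).cj_top hF g).eq_of_le (T' := Q0.map J.subtype) (by
    rintro _ ⟨u, hu, rfl⟩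
    by_cases h1 : u = 1
    · exact h1 ▸ hF.one
    obtain ⟨k, hk, rfl⟩ := hR.trK hu h1
    rw [← hg]
    exact hF.conj _ (hF.conj _ (mem_cl hz) g) k) (hR.isPGroup_Q0.map _) le_top h1
  refine Tr.cj_eq_bot.1 (core hR J.subtype J.subtype_injective (fun c => MulAut.conjNormal c)
    (fun c y => MulAut.conjNormal_apply c y) (by rwa [range_subtype]) (L := cj (g : G) L)
    (by rw [← Tr.cj_commutator, hL]) ?_)
  rw [h2, centJ]
  exact Tr.cj_mono _ hc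

end Cfsg.Agent.SC.Ben
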