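import Cfsg.Agent.Lib.SC.Defs
import Cfsg.Agent.Lib.ZStar.Klein
import Cfsg.Agent.Lib.ZStar.Ord
import Cfsg.Agent.Lib.ZStar.BS
import Cfsg.Agent.Lib.Transfer.Focal
import Cfsg.Agent.Lib.Char.More

/-! Lemma K: counting involutions in a perfect group with Klein four Sylow 2-subgroups. -/

set_option autoImplicit false
set_option linter.style.haveILetI false
set_option linter.unusedSectionVars false

namespace Cfsg.Agent.SC

open Cfsg.Agent.Char Cfsg.Agent.Block Cfsg.Agent.Cover Cfsg.Agent.ZStar Subgroup
open Cfsg.Agent.Tr (SylowIn)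
open scoped ComplexConjugate

universe u

variable {G : Type*} [Group G] [Finite G]

theorem index_ne_two_of_perfect (hG : commutator G = ⊤) (H : Subgroup G) : H.index ≠ 2 := by
  intro h
  haveI := normal_of_index_eq_two h
  have hc : IsCyclic (G ⧸ H) := isCyclic_of_prime_card (p := 2) (by rw [← h]; rfl)
  have : commutator G ≤ H := by
    rw [commutator_def, commutator_le]
    intro x _ y _
    rw [← QuotientGroup.eq_one_iff, ← QuotientGroup.mk'_apply, map_commutatorElement,
      commutatorElement_eq_one_iff_commute]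
    exact hc.isMulCommutative.is_comm.comm _ _
  rw [hG, top_le_iff] at this
  rw [this, index_top] at h
  exact absurd h (by norm_num)

theorem isConj_of_klein {P : Subgroup G} (hP : SylowIn 2 P ⊤) (h4 : Nat.card P = 4)
    (hG : ∀ H : Subgroup G, H.index ≠ 2) {s t : G} (hs : orderOf s = 2) (ht : orderOf t = 2) :
    IsConj s t := by
  obtain ⟨c, -, hc⟩ := hP.exists_conj_mem (mem_top t) (k := 1) (by
    rw [pow_one, ← ht, pow_orderOf_eq_one])
  have ho : orderOf (c * t * c⁻¹) = 2 := by rw [Tr.orderOf_conj, ht]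
  have h1 := Tr.card_mul_relIndex (zpowers_le.2 hc)
  rw [Nat.card_zpowers, ho, h4] at h1
  obtain ⟨g, hg, -⟩ := Tr.thompson_transfer hG hP (M := zpowers (c * t * c⁻¹)) (by omega)
    (Tr.sq_of_orderOf_two hs)
  have h2 : g * s * g⁻¹ = c * t * c⁻¹ := by
    obtain ⟨m, hm⟩ := (isOfFinOrder_of_finite _).mem_powers_iff_mem_zpowers.2 hg
    rcases Tr.pow_eq_one_or_self_of_sq (Tr.sq_of_orderOf_two ho) m with e | e
    · exfalso
      apply Tr.ne_one_of_orderOf_two hs
      have : g * s * g⁻¹ = 1 := hm.symm.trans e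
      simpa using this
    · exact hm.symm.trans e
  exact (isConj_iff.2 ⟨g, h2⟩).trans (isConj_iff.2 ⟨c, rfl⟩).symm

theorem two_le_deg (hG : commutator G = ⊤) {χ : IrrCharacter G} (h : χ ≠ irrOne G) :
    ∃ n : ℕ, 2 ≤ n ∧ χ.1 1 = n := by
  obtain ⟨n, hn⟩ := exists_nat_of_isChar (isChar_irr χ)
  refine ⟨n, ?_, hn⟩
  have h0 : n ≠ 0 := by
    rintro rfl
    exact irr_apply_one_ne_zero χ (by simpa using hn)
  have h1 : n ≠ 1 := by
    rintro rfl
    have := card_linear_irr (G := G)
    rw [hG, index_top, Nat.card_eq_one_iff_unique] at this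
    exact h (congrArg Subtype.val (this.1.elim ⟨χ, by simpa using hn⟩ ⟨irrOne G, rfl⟩))
  omega

theorem lemK : LemKStmt.{u} := by
  intro H _ _ P hP h4 hH a ha
  classical
  letI := Fintype.ofFinite H
  have hS : SylowIn 2 (P : Subgroup H) ⊤ := SylowIn.top P
  have hK : IsKleinFour (P : Subgroup H) :=
    isKleinFour_of h4 fun x => Subtype.ext (by simpa [sq] using hP.2 x x.2)
  have hone : ∀ s t : H, orderOf s = 2 → orderOf t = 2 → IsConj s t := fun s t hs ht =>
    isConj_of_klein hS h4 (index_ne_two_of_perfect hH) hs ht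
  obtain ⟨M, hM⟩ := exists_isPModular 2
  haveI := hM.2.1
  haveI := charP_res hM
  obtain ⟨e, δ, he, h1, hδ, hB, hv⟩ := klein_block (M := M) hS hK hone
  have ha2 : 2 ∣ orderOf a := by rw [ha]
  have hθ : ∀ g, kb (principalBlock M H) g a = if Even (orderOf g) then 4 else 0 := by
    intro g
    split_ifs with hg
    · rw [kb_eq_one_add he h1 hB]
      have : ∀ i, (e i).1 g * conj ((e i).1 a) = 1 := fun i => by
        rw [hv i g (even_iff_two_dvd.1 hg), hv i a ha2, map_intCast]
        rcases hδ i with h | h <;> simp [h]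
      simp only [this, Finset.sum_const, Finset.card_univ, Fintype.card_fin]
      norm_num
    · exact kb_eq_zero_of_dvd 2 (idem_principal_mem_SG (M := M) 2)
        (fun h => hg (even_iff_two_dvd.2 h)) ha2
  have key := sum_conj_mul_eq (isClass_kb (principalBlock M H) a) a a
  choose n hn2 hn using fun i => two_le_deg hH (h1 i)
  have hR : ∑ χ : IrrCharacter H, classInner (fun g => kb (principalBlock M H) g a) χ *
      (χ.1 a * χ.1 a / χ.1 1) = ((1 + ∑ i, (δ i : ℝ) / n i : ℝ) : ℂ) := by
    simp only [inner_kb, ite_mul, zero_mul]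
    rw [← Finset.sum_filter]
    have : Finset.univ.filter (· ∈ principalBlock M H) =
        insert (irrOne H) (Finset.univ.image e) := by
      ext χ
      simp [hB, eq_comm]
    rw [this, Finset.sum_insert (by simpa using h1), Finset.sum_image fun i _ j _ h => he h]
    push_cast
    congr 1
    · simp
    · refine Finset.sum_congr rfl fun i _ => ?_
      rw [hv i a ha2, hn i, map_intCast]
      rcases hδ i with h | h <;> simp [h, neg_div]
  set E := Nat.card {u : H // orderOf u = 2 ∧ Even (orderOf (a * u))} with hE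
  set I := Nat.card {u : H // orderOf u = 2} with hI
  have hiff : ∀ x, IsConj a x ↔ orderOf x = 2 := fun x =>
    ⟨fun h => (orderOf_eq_of_isConj h).symm.trans ha, hone a x ha⟩
  have hI' : (centralizer ({a} : Set H)).index = I := by
    rw [← Block.card_filter_isConj a, hI, Nat.card_eq_fintype_card, Fintype.card_subtype]
    congr 1
    ext x
    simp only [Finset.mem_filter, Finset.mem_univ, true_and, hiff]
  have hL : ∑ g, kb (principalBlock M H) (g * a * g⁻¹ * a) a =
      Nat.card (centralizer ({a} : Set H)) * (4 * E : ℂ) := by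
    rw [Block.sum_conj_eq a fun x => kb (principalBlock M H) (x * a) a, nsmul_eq_mul]
    congr 1
    have : ∀ x, (if IsConj a x then kb (principalBlock M H) (x * a) a else 0) =
        if orderOf x = 2 ∧ Even (orderOf (a * x)) then 4 else 0 := fun x => by
      have e1 : orderOf (x * a) = orderOf (a * x) := by
        rw [← Tr.orderOf_conj a (x * a)]; congr 1; group
      rw [hθ, e1]
      by_cases h2 : orderOf x = 2 <;> simp [hiff, h2, -isConj_iff]
    simp only [this]
    rw [← Finset.sum_filter, Finset.sum_const, hE, Nat.card_eq_fintype_card, Fintype.card_subtype,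
      nsmul_eq_mul, mul_comm]
  rw [hL, hR, ← (centralizer ({a} : Set H)).card_mul_index, hI'] at key
  have hc : (Nat.card (centralizer ({a} : Set H)) : ℂ) ≠ 0 := Nat.cast_ne_zero.2 Nat.card_pos.ne'
  have key2 : (4 * E : ℝ) = I * (1 + ∑ i, (δ i : ℝ) / n i) := by
    apply Complex.ofReal_injective
    apply mul_left_cancel₀ hc
    push_cast at key ⊢
    rw [key]; ring
  have hb : ∑ i, (δ i : ℝ) / n i ≤ 3 / 2 := by
    calc ∑ i, (δ i : ℝ) / n i ≤ ∑ _i : Fin 3, (1 / 2 : ℝ) := Finset.sum_le_sum fun i _ => by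
          have h2 : (2 : ℝ) ≤ n i := by exact_mod_cast hn2 i
          rw [div_le_div_iff₀ (by linarith) (by norm_num)]
          rcases hδ i with h | h <;> simp only [h] <;> push_cast <;> linarith
      _ = 3 / 2 := by simp; norm_num
  have hI0 : (0 : ℝ) < I := by
    haveI : Nonempty {u : H // orderOf u = 2} := ⟨⟨a, ha⟩⟩
    exact_mod_cast Nat.card_pos
  have : (3 * E : ℝ) < 2 * I := by nlinarith
  exact_mod_cast this

end Cfsg.Agent.SC
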