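import Cfsg.Agent.Lib.SC.Cnt1
import Cfsg.Agent.Lib.SC.LemK
import Cfsg.Agent.Lib.SF.Fam

/-! The counting argument for a Sylow 2-subgroup of type `L₃(4)`. -/

set_option autoImplicit false
set_option linter.unusedSectionVars false

namespace Cfsg.Agent.SC

open Subgroup Cfsg.Agent.FT Cfsg.Agent.SF.GP
open Cfsg.Agent.Tr (SylowIn)

universe u

variable {G : Type u} [Group G] [Finite G]

/-- the conjugates of `A \ B` -/
def cls (A B : Subgroup G) (x : G) : Prop := ∃ y ∈ A, y ∉ B ∧ IsConj y x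

theorem cls.conj {A B : Subgroup G} {x : G} (h : cls A B x) (g : G) : cls A B (g * x * g⁻¹) :=
  let ⟨y, h1, h2, h3⟩ := h; ⟨y, h1, h2, h3.trans (isConj_iff.2 ⟨g, rfl⟩)⟩

theorem cls_conj {A B : Subgroup G} {x g : G} : cls A B (g * x * g⁻¹) ↔ cls A B x :=
  ⟨fun h => by simpa [mul_assoc] using h.conj g⁻¹, fun h => h.conj g⟩

theorem cls.sq {A B : Subgroup G} {x : G} (h : cls A B x) (hA : ∀ y ∈ A, y * y = 1) :
    x * x = 1 ∧ x ≠ 1 := by
  obtain ⟨y, h1, h2, h3⟩ := h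
  obtain ⟨g, rfl⟩ := isConj_iff.1 h3
  exact ⟨Tr.conj_mul_self (hA y h1) g, fun e => h2 (by
    rw [show y = 1 by simpa using e]; exact one_mem _)⟩

/-- the finite set of a predicate -/
noncomputable def fs (p : G → Prop) : Finset G := (Set.toFinite {x | p x}).toFinset

theorem mem_fs {p : G → Prop} {x : G} : x ∈ fs p ↔ p x := Set.Finite.mem_toFinset _

theorem card_fs_conj {p q : G → Prop} (g : G) (h : ∀ x, p x ↔ q (g * x * g⁻¹)) :
    (fs p).card = (fs q).card :=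
  Finset.card_equiv (MulAut.conj g).toEquiv fun x => by rw [mem_fs, mem_fs]; exact h x

theorem card_fs_sub {H : Subgroup G} {p : G → Prop} {q : H → Prop} (h : ∀ x, p x → x ∈ H)
    (h' : ∀ x : H, q x ↔ p x) : Nat.card {x // q x} = (fs p).card := by
  rw [← Nat.card_eq_card_toFinset_subtype]
  exact Nat.card_congr ⟨fun x => ⟨x.1, mem_fs.2 ((h' _).1 x.2)⟩,
    fun x => ⟨⟨x.1, h _ (mem_fs.1 x.2)⟩, (h' _).2 (mem_fs.1 x.2)⟩, fun _ => rfl, fun _ => rfl⟩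
where Nat.card_eq_card_toFinset_subtype : Nat.card {x // x ∈ fs p} = (fs p).card :=
  Nat.card_eq_finsetCard _

/-- the number of elements of a class commuting with `z` -/
noncomputable def cc (A B : Subgroup G) (z : G) : ℕ := (fs fun u => cls A B u ∧ Commute u z).card

/-- the number of conjugates `u` of `Z#` commuting with `z` such that `a u` has odd order -/
noncomputable def mm (Z : Subgroup G) (a z : G) : ℕ :=
  (fs fun u => (cls Z ⊥ u ∧ Commute u z) ∧ Odd (orderOf (a * u))).card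

theorem cc_conj (A B : Subgroup G) (z g : G) : cc A B (g * z * g⁻¹) = cc A B z :=
  (card_fs_conj g fun _ => by rw [cls_conj, Tr.commute_conj_iff]).symm

theorem mm_conj (Z : Subgroup G) (a z g : G) : mm Z (g * a * g⁻¹) (g * z * g⁻¹) = mm Z a z :=
  (card_fs_conj g fun x => by
    rw [cls_conj, Tr.commute_conj_iff,
      show g * a * g⁻¹ * (g * x * g⁻¹) = g * (a * x) * g⁻¹ by group, Tr.orderOf_conj]).symm

theorem two_part {z x : G} (hz : z * z = 1) (hc : Commute z x) {k : ℕ} (hk : Odd k)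
    (hx : orderOf x ∣ k) : (z * x) ^ k = z := by
  obtain ⟨j, rfl⟩ := hk
  rw [hc.mul_pow, orderOf_dvd_iff_pow_eq_one.1 hx, mul_one, pow_succ, pow_mul, sq, hz, one_pow,
    one_mul]

namespace Cfg

variable {S Z T₀ T₁ : Subgroup G} {e : G} (h : Cfg S Z T₀ T₁ e)
include h

theorem al_mem {x : G} (hx : cls Z ⊥ x) (hS : x ∈ S) : x ∈ Z := by
  obtain ⟨y, h1, -, h3⟩ := hx
  obtain ⟨g, rfl⟩ := isConj_iff.1 h3
  exact h.scZ h1 hS

theorem be_mem {x : G} (hx : cls T₀ Z x) (hS : x ∈ S) : x ∈ T₀ ∧ x ∉ Z := by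
  obtain ⟨y, h1, h2, h3⟩ := hx
  obtain ⟨g, rfl⟩ := isConj_iff.1 h3
  exact h.out0 h1 h2 hS

theorem pair {x y : G} (hx : x * x = 1) (hy : y * y = 1) (hc : Commute x y) :
    ∃ g : G, g * x * g⁻¹ ∈ S ∧ g * y * g⁻¹ ∈ S := by
  obtain ⟨g, -, hg⟩ := h.syl.exists_cj_le (pgroup_pair (pgroup_invol hx) (pgroup_invol hy) hc) le_top
  exact ⟨g, Tr.cj_le_iff.1 hg x (mem_sup_left (mem_zpowers x)),
    Tr.cj_le_iff.1 hg y (mem_sup_right (mem_zpowers y))⟩

theorem mul_al {z u : G} (hz : cls T₀ Z z) (hu : cls Z ⊥ u) (hc : Commute u z) :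
    cls T₀ Z (z * u) := by
  obtain ⟨g, h1, h2⟩ := h.pair (hz.sq h.sq0).1 (hu.sq fun _ => h.sqZ).1 hc.symm
  have h3 := h.be_mem (hz.conj g) h1
  have h4 := h.al_mem (hu.conj g) h2
  rw [← cls_conj (g := g), show g * (z * u) * g⁻¹ = g * z * g⁻¹ * (g * u * g⁻¹) by group]
  exact ⟨_, mul_mem h3.1 (h.Z0 h4), fun e => h3.2 ((mul_mem_cancel_right h4).1 e), IsConj.refl _⟩

theorem not_comm {y v : G} (hy : cls T₀ Z y) (hv : cls T₁ Z v) : ¬ Commute y v := fun hc => by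
  obtain ⟨g, h1, h2⟩ := h.pair (hy.sq h.sq0).1 (hv.sq h.sq1).1 hc
  have h3 := h.be_mem (hy.conj g) h1
  have h4 := h.symm.be_mem (hv.conj g) h2
  exact h.nc _ h3.1 h3.2 _ h4.1 h4.2 (Tr.commute_conj_iff.2 hc)

theorem tri {x : G} (hx : x * x = 1) (x1 : x ≠ 1) : cls Z ⊥ x ∨ cls T₀ Z x ∨ cls T₁ Z x := by
  obtain ⟨g, hg, -⟩ := h.pair hx hx (Commute.refl x)
  have h1 := Tr.conj_mul_self hx g
  have h2 : g * x * g⁻¹ ≠ 1 := by simpa using x1
  rw [← cls_conj (g := g), ← cls_conj (g := g) (A := T₀), ← cls_conj (g := g) (A := T₁)]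
  generalize g * x * g⁻¹ = x at hg h1 h2
  by_cases hZ : x ∈ Z
  · exact Or.inl ⟨x, hZ, h2, IsConj.refl _⟩
  obtain ⟨y, hy, v, hv, rfl⟩ := h.dec x hg
  by_cases hy' : y ∈ Z
  · exact Or.inr (Or.inr ⟨_, mul_mem (h.Z1 hy') hv, hZ, IsConj.refl _⟩)
  by_cases hv' : v ∈ Z
  · exact Or.inr (Or.inl ⟨_, mul_mem hy (h.Z0 hv'), hZ, IsConj.refl _⟩)
  refine absurd ?_ (h.nc y hy hy' v hv hv')
  rw [Commute, SemiconjBy, ← Tr.inv_eq_of_mul_self h1, mul_inv_rev,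
    Tr.inv_eq_of_mul_self (h.sq0 y hy), Tr.inv_eq_of_mul_self (h.sq1 v hv)]

theorem inv_al {y v : G} (hy : cls T₀ Z y) (hv : cls T₁ Z v) :
    ∃ z, cls Z ⊥ z ∧ Commute z y ∧ Commute v z ∧ z ∈ zpowers (y * v) := by
  have y2 := (hy.sq h.sq0).1
  have v2 := (hv.sq h.sq1).1
  obtain ⟨m, -, h1, h2, h3⟩ := Tr.exists_central_of_even y2 v2
    (Tr.even_orderOf_mul_of_not_isConj y2 v2 fun hc => by
      obtain ⟨g, rfl⟩ := isConj_iff.1 hc
      exact h.not_comm (hy.conj g) hv (Commute.refl _))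
  refine ⟨_, ?_, h2, h3.symm, pow_mem (mem_zpowers _) m⟩
  rcases h.tri (Tr.mul_self_of_orderOf_two h1) (Tr.ne_one_of_orderOf_two h1) with e | e | e
  · exact e
  · exact absurd h3 (h.not_comm e hv)
  · exact absurd h2.symm (h.not_comm hy e)

theorem be_map {X : Subgroup G} (hX : S ≤ X) (he : e ∈ X) {N : Subgroup X} [N.Normal]
    (hN : Odd #|N|) (hn : ((S.subgroupOf X).map (QuotientGroup.mk' N)).Normal) {x : X}
    (hx : cls T₀ Z x) : QuotientGroup.mk' N x ∈ (T₀.subgroupOf X).map (QuotientGroup.mk' N) ∧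
      QuotientGroup.mk' N x ∉ (Z.subgroupOf X).map (QuotientGroup.mk' N) := by
  have h1 := h.subgroupOf hX he
  obtain ⟨g, hg, h2⟩ := (h.syl.mono hX le_top).exists_conj_mem x.2 (k := 1)
    (by rw [pow_one, sq, (hx.sq h.sq0).1])
  have h3 := h.be_mem (hx.conj g) h2
  have h4 : ⟨g, hg⟩ * x * ⟨g, hg⟩⁻¹ ∈ S.subgroupOf X := h2
  have h5 := (h1.map hN).out0 (g := (QuotientGroup.mk' N ⟨g, hg⟩)⁻¹)
    ((h1.mem_map hN h1.le0 h4).2 h3.1) (fun e => h3.2 ((h1.mem_map hN h1.ZS h4).1 e))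
    (hn.conj_mem _ (mem_map_of_mem _ h4) _)
  simpa only [map_mul, map_inv, mul_assoc, inv_mul_cancel_left, inv_inv, inv_mul_cancel,
    mul_one] using h5

theorem third (he : e ∈ 𝐂(Z)) {a y v w : G} (ha : a ∈ Z) (a1 : a ≠ 1) (hy : cls T₀ Z y)
    (hv : cls T₁ Z v) (hw : cls T₁ Z w) (cy : Commute y a) (cv : Commute v a) (cw : Commute w a)
    (h1 : a ∈ zpowers (y * v)) (h2 : a ∈ zpowers (y * w)) :
    e * v * e⁻¹ ≠ w ∧ e * (e * v * e⁻¹) * e⁻¹ ≠ w := by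
  have hX : S ≤ 𝐂[a] := fun x hx => mem_centralizer_singleton_iff.2 (h.cZ ha hx).symm
  have he' : e ∈ 𝐂[a] := mem_centralizer_singleton_iff.2 (mem_centralizer_iff.1 he a ha).symm
  have hN : Odd #|oddCore 𝐂[a]| := Nat.coprime_two_right.1 (Fit.coprime_card_pPrimeCore 2 _)
  have : (oddCore 𝐂[a]).Normal := inferInstanceAs (pPrimeCore 2 𝐂[a]).Normal
  have k1 := h.subgroupOf hX he'
  have k2 := k1.map hN
  let f := QuotientGroup.mk' (oddCore 𝐂[a])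
  let a' : 𝐂[a] := ⟨a, hX (h.ZS ha)⟩
  have ha' : f a' ∈ (Z.subgroupOf 𝐂[a]).map f := mem_map_of_mem _ ha
  have a1' : f a' ≠ 1 := fun e1 => a1 (congrArg Subtype.val
    (k1.inj hN (x := a') (h.ZS ha) (one_mem _) (e1.trans (map_one _).symm)))
  have hn := k2.normal (Fit.pPrimeCore_quotient_pPrimeCore 2 _) ha' a1' (mem_center_iff.2 fun g => by
    obtain ⟨g, rfl⟩ := QuotientGroup.mk'_surjective _ g
    rw [← map_mul, ← map_mul]
    exact congrArg f (Subtype.ext (mem_centralizer_singleton_iff.1 g.2)))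
  let y' : 𝐂[a] := ⟨y, mem_centralizer_singleton_iff.2 cy⟩
  let v' : 𝐂[a] := ⟨v, mem_centralizer_singleton_iff.2 cv⟩
  let w' : 𝐂[a] := ⟨w, mem_centralizer_singleton_iff.2 cw⟩
  have key : ∀ v : 𝐂[a], a ∈ zpowers (y * v) → f a' ∈ zpowers (f y' * f v) := by
    rintro v ⟨m, hm⟩
    exact ⟨m, by
      rw [← map_mul]
      exact (map_zpow f _ m).symm.trans (congrArg f (Subtype.ext hm))⟩
  have b0 := h.be_map hX he' hN hn (x := y') hy
  have b1 := h.symm.be_map hX he' hN hn (x := v') hv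
  have b2 := h.symm.be_map hX he' hN hn (x := w') hw
  have := k2.third_alg ha' a1' b0.1 b0.2 b1.1 b1.2 b2.1 b2.2 (key v' h1) (key w' h2)
  simp only [← map_inv, ← map_mul] at this
  exact ⟨fun e1 => this.1 (congrArg f (Subtype.ext e1)),
    fun e1 => this.2 (congrArg f (Subtype.ext e1))⟩

theorem third_card (he : e ∈ 𝐂(Z)) {a y : G} (ha : a ∈ Z) (a1 : a ≠ 1) (hy : cls T₀ Z y)
    (cy : Commute y a) :
    3 * (fs fun v => (cls T₁ Z v ∧ Commute v a) ∧ a ∈ zpowers (y * v)).card ≤ cc T₁ Z a := by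
  classical
  set A := fs fun v => (cls T₁ Z v ∧ Commute v a) ∧ a ∈ zpowers (y * v)
  let c : G → G := fun x => e * x * e⁻¹
  have ci : Function.Injective c := (MulAut.conj e).injective
  have ea : e * a * e⁻¹ = a := by rw [← mem_centralizer_iff.1 he a ha, mul_inv_cancel_right]
  have hc : ∀ v, cls T₁ Z v ∧ Commute v a → cls T₁ Z (c v) ∧ Commute (c v) a := fun v hv =>
    ⟨hv.1.conj e, ea ▸ Tr.commute_conj_iff.2 hv.2⟩
  have key : ∀ v ∈ A, ∀ w ∈ A, c v ≠ w ∧ c (c v) ≠ w := fun v hv w hw => by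
    rw [mem_fs] at hv hw
    exact h.third he ha a1 hy hv.1.1 hw.1.1 cy hv.1.2 hw.1.2 hv.2 hw.2
  have h1 : A ∪ (A.image c ∪ (A.image c).image c) ⊆ fs fun u => cls T₁ Z u ∧ Commute u a := by
    intro x hx
    simp only [Finset.mem_union, Finset.mem_image] at hx
    rcases hx with hx | ⟨x, hx, rfl⟩ | ⟨_, ⟨x, hx, rfl⟩, rfl⟩
    · exact mem_fs.2 (mem_fs.1 hx).1
    · exact mem_fs.2 (hc _ (mem_fs.1 hx).1)
    · exact mem_fs.2 (hc _ (hc _ (mem_fs.1 hx).1))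
  have h2 := Finset.card_le_card h1
  rw [Finset.card_union_of_disjoint, Finset.card_union_of_disjoint,
    Finset.card_image_of_injective (A.image c) ci, Finset.card_image_of_injective _ ci] at h2
  · unfold cc; omega
  · rw [Finset.disjoint_image ci, Finset.disjoint_left]
    intro x hx hx'
    obtain ⟨v, hv, rfl⟩ := Finset.mem_image.1 hx'
    exact (key v hv _ hx).1 rfl
  · rw [Finset.disjoint_left]
    intro x hx hx'
    simp only [Finset.mem_union, Finset.mem_image] at hx'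
    rcases hx' with ⟨v, hv, rfl⟩ | ⟨_, ⟨v, hv, rfl⟩, rfl⟩
    · exact (key v hv _ hx).1 rfl
    · exact (key v hv _ hx).2 rfl

theorem upper (he : e ∈ 𝐂(Z)) {a y : G} (ha : a ∈ Z) (a1 : a ≠ 1)
    (hZ : ∀ b ∈ Z, b ≠ 1 → IsConj b a) (hy : cls T₀ Z y) :
    3 * (fs (cls T₁ Z)).card ≤ cc Z ⊥ y * cc T₁ Z a := by
  classical
  have h1 : fs (cls T₁ Z) ⊆ (fs fun z => cls Z ⊥ z ∧ Commute z y).biUnion
      fun z => fs fun v => (cls T₁ Z v ∧ Commute v z) ∧ z ∈ zpowers (y * v) := fun v hv => by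
    obtain ⟨z, z1, z2, z3, z4⟩ := h.inv_al hy (mem_fs.1 hv)
    exact Finset.mem_biUnion.2 ⟨z, mem_fs.2 ⟨z1, z2⟩, mem_fs.2 ⟨⟨mem_fs.1 hv, z3⟩, z4⟩⟩
  refine (Nat.mul_le_mul_left 3 ((Finset.card_le_card h1).trans Finset.card_biUnion_le)).trans ?_
  rw [Finset.mul_sum, cc, ← smul_eq_mul]
  refine Finset.sum_le_card_nsmul _ _ _ fun z hz => ?_
  obtain ⟨⟨b, hb, b1, hbz⟩, hzy⟩ := mem_fs.1 hz
  obtain ⟨g, rfl⟩ := isConj_iff.1 (hbz.symm.trans (hZ b hb b1))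
  rw [card_fs_conj (q := fun v => (cls T₁ Z v ∧ Commute v (g * z * g⁻¹)) ∧
    g * z * g⁻¹ ∈ zpowers (g * y * g⁻¹ * v)) g fun x => by
      rw [cls_conj, Tr.commute_conj_iff,
        show g * y * g⁻¹ * (g * x * g⁻¹) = g * (y * x) * g⁻¹ by group, ← Tr.cj_zpowers,
        Tr.conj_mem_cj]]
  exact h.third_card he ha a1 (hy.conj g) (Tr.commute_conj_iff.2 hzy.symm)

theorem lower {a : G} (ha : a ∈ Z) {i : ℕ}
    (hK : ∀ z, cls T₀ Z z → Commute z a → i < 3 * mm Z a z) :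
    i * cc T₀ Z a < 3 * (fs (cls T₀ Z)).card := by
  classical
  have h1 : ((fs fun z => cls T₀ Z z ∧ Commute z a).sigma fun z =>
      fs fun u => (cls Z ⊥ u ∧ Commute u z) ∧ Odd (orderOf (a * u))).card ≤
      (fs (cls T₀ Z)).card := by
    refine Finset.card_le_card_of_injOn (fun p => p.1 * p.2) (fun p hp => ?_) ?_
    · obtain ⟨h1, h2⟩ := Finset.mem_sigma.1 (Finset.mem_coe.1 hp)
      rw [mem_fs] at h1 h2
      exact Finset.mem_coe.2 (mem_fs.2 (h.mul_al h1.1 h2.1.1 h2.1.2))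
    · rintro ⟨z, u⟩ hp ⟨z', u'⟩ hp' (e1 : z * u = z' * u')
      obtain ⟨h1, h2⟩ := Finset.mem_sigma.1 (Finset.mem_coe.1 hp)
      obtain ⟨h3, h4⟩ := Finset.mem_sigma.1 (Finset.mem_coe.1 hp')
      simp only [mem_fs] at h1 h2 h3 h4
      have e2 : z * (a * u) = z' * (a * u') := by
        rw [← mul_assoc, h1.2.eq, mul_assoc, e1, ← mul_assoc, ← h3.2.eq, mul_assoc]
      obtain rfl : z = z' := by
        rw [← two_part (h1.1.sq h.sq0).1 (h1.2.mul_right h2.1.2.symm) (h2.2.mul h4.2)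
          (dvd_mul_right _ _), e2, two_part (h3.1.sq h.sq0).1 (h3.2.mul_right h4.1.2.symm)
          (h2.2.mul h4.2) (dvd_mul_left _ _)]
      rw [mul_left_cancel e1]
  rw [Finset.card_sigma] at h1
  refine lt_of_lt_of_le ?_ (Nat.mul_le_mul_left 3 h1)
  rw [Finset.mul_sum, mul_comm, cc, ← smul_eq_mul, ← Finset.sum_const]
  obtain ⟨y, hy, hy'⟩ := h.ex0
  refine Finset.sum_lt_sum_of_nonempty
    ⟨y, mem_fs.2 ⟨⟨y, hy, hy', IsConj.refl _⟩, (h.cZ ha (h.le0 hy)).symm⟩⟩ fun z hz => ?_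
  exact hK z (mem_fs.1 hz).1 (mem_fs.1 hz).2

theorem lemK_at {y a : G} {H : Subgroup G} (hZ : Z ≤ H) (hH : H ≤ 𝐂[y]) (hn : 𝐂[y] ≤ 𝐍(H))
    (hp : ⁅H, H⁆ = H) (ho : Odd (Z.relIndex H)) (ha : cls Z ⊥ a) (hay : Commute a y) :
    cc Z ⊥ y < 3 * mm Z a y := by
  classical
  have hZ2 : IsPGroup 2 Z := h.syl.isPGroup.to_le h.ZS
  have hS : SylowIn 2 Z H := ⟨hZ, hZ2, Nat.two_dvd_ne_zero.2 (Nat.odd_iff.1 ho)⟩
  have key : ∀ u, cls Z ⊥ u ∧ Commute u y ↔ u ∈ H ∧ orderOf u = 2 := fun u => by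
    refine ⟨fun ⟨h1, h2⟩ => ?_, fun ⟨h1, h2⟩ => ⟨?_, mem_centralizer_singleton_iff.1 (hH h1)⟩⟩
    · have h3 := h1.sq fun _ => h.sqZ
      refine ⟨?_, Tr.orderOf_eq_two h3.1 h3.2⟩
      obtain ⟨P, hP, hZP⟩ := Tr.exists_sylowIn_ge hZ2 (hZ.trans hH)
      obtain ⟨c, hc, h4⟩ := hP.exists_conj_mem (mem_centralizer_singleton_iff.2 h2) (k := 1)
        (by rw [pow_one, sq, h3.1])
      obtain ⟨g, -, hg⟩ := h.syl.exists_cj_le hP.isPGroup le_top
      rw [Tr.cj_le_iff] at hg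
      have h5 : g ∈ 𝐍(Z) := Tr.mem_normalizer_of_forall fun z hz => h.scZ hz (hg z (hZP hz))
      exact (memJ_norm (hn hc)).1 (hZ ((memJ_norm h5).1
        (h.al_mem ((h1.conj c).conj g) (hg _ h4))))
    · obtain ⟨c, -, h3⟩ := hS.exists_conj_mem h1 (k := 1) (by simpa using Tr.sq_of_orderOf_two h2)
      exact cls_conj.1 ⟨_, h3, by simpa using Tr.ne_one_of_orderOf_two h2, IsConj.refl _⟩
  have haH := (key a).1 ⟨ha, hay⟩
  have hK := lemK H hS.toSylow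
    ⟨abelianP.2 fun x hx y hy => Subtype.ext (comm_of_sq (fun _ => h.sqZ) hx hy),
      fun x hx => Subtype.ext (by rw [sq]; exact h.sqZ hx)⟩
    ((Fit.card_subgroupOf_of_le hZ).trans h.c4)
    (map_injective H.subtype_injective (by
      rw [map_subtype_commutator, hp, ← MonoidHom.range_eq_map, range_subtype]))
    ⟨a, haH.1⟩ ((orderOf_coe _).symm.trans haH.2)
  rw [card_fs_sub (p := fun u => (cls Z ⊥ u ∧ Commute u y) ∧ ¬ Odd (orderOf (a * u)))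
    (fun x hx => ((key x).1 hx.1).1) (fun x => by
      rw [key, Nat.not_odd_iff_even, ← orderOf_coe, ← orderOf_coe (_ * x)]
      simp only [x.2, true_and, coe_mul]),
    card_fs_sub (p := fun u => cls Z ⊥ u ∧ Commute u y) (fun x hx => ((key x).1 hx).1)
      (fun x => by rw [key, ← orderOf_coe]; simp only [x.2, true_and])] at hK
  have h1 := Finset.card_filter_add_card_filter_not (s := fs fun u => cls Z ⊥ u ∧ Commute u y)
    fun u => Odd (orderOf (a * u))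
  have h2 : ∀ (p : G → Prop) [DecidablePred p], (fs fun u => cls Z ⊥ u ∧ Commute u y).filter p =
      fs fun u => (cls Z ⊥ u ∧ Commute u y) ∧ p u := fun p _ => by
    ext x; simp only [Finset.mem_filter, mem_fs]
  rw [h2, h2] at h1
  unfold cc mm
  omega

theorem false_of (he : e ∈ 𝐂(Z)) (hZ : ∀ a ∈ Z, a ≠ 1 → ∀ b ∈ Z, b ≠ 1 → IsConj a b)
    (hH : ∀ y ∈ T₁, y ∉ Z → ∃ H : Subgroup G, Z ≤ H ∧ H ≤ 𝐂[y] ∧ 𝐂[y] ≤ 𝐍(H) ∧
      ⁅H, H⁆ = H ∧ Odd (Z.relIndex H)) {y : G} (hy : cls T₀ Z y)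
    (hm : ∀ z, cls T₁ Z z → cc Z ⊥ y ≤ cc Z ⊥ z) : False := by
  obtain ⟨a, ha, a1, -⟩ := TwoGrp.kleinFour_exists_ne h.four 1
  refine (h.upper he ha a1 (fun b hb b1 => hZ b hb b1 a ha a1) hy).not_gt
    (h.symm.lower ha fun z hz hc => (hm z hz).trans_lt ?_)
  obtain ⟨v, hv, hv', h1⟩ := hz
  obtain ⟨g, rfl⟩ := isConj_iff.1 h1.symm
  obtain ⟨H, k1, k2, k3, k4, k5⟩ := hH _ hv hv'
  rw [← cc_conj _ _ _ g, ← mm_conj _ _ _ g]
  exact h.lemK_at k1 k2 k3 k4 k5 (cls.conj ⟨a, ha, a1, IsConj.refl _⟩ g)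
    (Tr.commute_conj_iff.2 hc.symm)

end Cfg

theorem count : CountStmt.{u} := by
  intro G _ _ S Z T₀ T₁ a0 a1 c0 c1 hinf c4 hsup sc0 sc1 nc hZ ⟨e, eS, he, fpf⟩ hH
  have ex : ∀ T : Subgroup G, #|T| = 16 → ∃ y ∈ T, y ∉ Z := fun T hT => by
    by_contra hc
    push Not at hc
    have := card_le_of_le (show T ≤ Z from hc)
    omega
  have h : Cfg (S : Subgroup G) Z T₀ T₁ e :=
    { syl := SylowIn.top S
      sq0 := fun x hx => by rw [← sq]; exact a0.2 x hx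
      sq1 := fun x hx => by rw [← sq]; exact a1.2 x hx
      inf := fun x => by rw [← hinf]; rfl
      dec := fun x hx => by
        obtain ⟨y, hy, v, hv, e⟩ := (Tr.mem_sup_of_le_normalizer' (norms_of_conj_mem
          fun v hv y hy => sc0.2 y hy v (mul_mem (mul_mem (sc1.1 hv) (sc0.1 hy))
            (inv_mem (sc1.1 hv))))).1 (hsup ▸ hx)
        exact ⟨y, hy, v, hv, e.symm⟩
      sc0 := sc0, sc1 := sc1, nc := nc, c4 := c4
      cS := by
        obtain ⟨k, hk⟩ := card_dvd_of_le sc0.1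
        obtain ⟨v, hv, hv'⟩ := ex T₁ c1
        have : #|T₀| ≠ #|(S : Subgroup G)| := fun e1 => hv' (hinf ▸
          ⟨(eq_of_le_of_card_ge sc0.1 e1.ge).ge (sc1.1 hv), hv⟩)
        have h0 : 0 < #|(S : Subgroup G)| := Nat.card_pos
        rw [c0] at hk this
        omega
      ex0 := ex T₀ c0, ex1 := ex T₁ c1, eS := eS, fpf := fpf }
  obtain ⟨y, hy, hy'⟩ := h.ex0
  obtain ⟨w, hw, hm⟩ := (fs fun x => cls T₀ Z x ∨ cls T₁ Z x).exists_min_image (cc Z ⊥)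
    ⟨y, mem_fs.2 (Or.inl ⟨y, hy, hy', IsConj.refl _⟩)⟩
  rcases mem_fs.1 hw with hw | hw
  · exact h.false_of he hZ (fun y hy => hH y (Or.inr hy)) hw fun z hz =>
      hm z (mem_fs.2 (Or.inr hz))
  · exact h.symm.false_of he hZ (fun y hy => hH y (Or.inl hy)) hw fun z hz =>
      hm z (mem_fs.2 (Or.inl hz))

end Cfsg.Agent.SC
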