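import Cfsg.Agent.Lib.SC.QX8
import Cfsg.Agent.Lib.SC.Cnt
import Cfsg.Agent.Lib.BS.Bender

/-! Theorem Q from S1174 and the weak form of Lyons' theorem. -/

namespace Cfsg.Agent.SC.QX

universe u

theorem q_of' (hS : SF.S1174Stmt.{u}) (hL : LyonsStmt.{u}) : QStmt.{u} :=
  q_of BS.bsc hS hL count

end Cfsg.Agent.SC.QX
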