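import Cfsg.Agent.Lib.SC.Red3

/-! Row RED of `docs/SC_PLAN.md`: steps 6–8 and the statement S1173. -/

set_option autoImplicit false
set_option linter.unusedSectionVars false
set_option linter.unusedVariables false

namespace Cfsg.Agent.SC.Red

open Subgroup Cfsg.Agent.FT Cfsg.Agent.SF Cfsg.Agent.SF.GP

universe u

namespace Cfg

variable {G : Type u} [Group G] [Finite G] {F : Set G} {T : Subgroup G} (c : Cfg F T)
  (he : ∀ t ∈ T, t ∈ res 𝐂(T) ∧ t * t = 1)
include c he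

theorem T_le_L : T ≤ res 𝐂(T) := fun t ht => (he t ht).1

theorem T_cent : T ≤ 𝐂(T) := (c.T_le_L he).trans (res_le _)

theorem abelem : Abelem 2 T := exponent2_abelem fun x hx => by rw [sq, (he x hx).2]

theorem comm_le {H : Subgroup G} (hH : H ≠ ⊤) (hL : res 𝐂(T) ≤ H) :
    ⁅NN F H, res 𝐂(T)⁆ ≤ 𝐎(H) :=
  c.ind H hH T _ (c.mx.mono ((c.T_le_L he).trans hL) le_top) hL (res_perf _) (res_le _)

theorem fac {H : Subgroup G} (hH : H ≠ ⊤) (hL : res 𝐂(T) ≤ H) : H ≤ (H ⊓ 𝐍(T)) ⊔ 𝐎(H) := by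
  intro h hh
  have hTH := (c.T_le_L he).trans hL
  have h1 := Tr.cj_le_of_mem hTH hh
  obtain ⟨d, hd, h2⟩ := lift_cent (odd_core H) (Tr.isPGroup_cj h c.mx.two) c.mx.two
    (h1.trans (pcore_norm _ _)) (hTH.trans (pcore_norm _ _))
    ((commgSS (le_NN (c.mx.cj_top c.fam h).sub h1) (c.T_le_L he)).trans (c.comm_le he hH hL))
  rw [← Tr.cj_mul] at h2
  have h3 := c.mx.cj_top c.fam (d * h)
  have h4 : d * h ∈ 𝐍(T) := Tr.mem_normalizer_of_cj_le fun x hx => c.mx.max _ le_top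
    (isPGroup_sup c.mx.two h3.two (cents_norm h2)) le_sup_left x (h3.sub x hx) (mem_sup_right hx)
  have := mul_mem (mem_sup_right (S := H ⊓ 𝐍(T)) (inv_mem hd))
    (mem_sup_left (mem_inf.2 ⟨mul_mem (pcore_sub _ _ hd) hh, h4⟩))
  rwa [inv_mul_cancel_left] at this

theorem cent1_ne {a : G} (ha : a ∈ T) (h1 : a ≠ 1) : 𝐂[a] ≠ ⊤ := fun e =>
  h1 (cycle_eq1.1 (c.two_bot (pgroup_invol (he a ha).2)
    (cents_norm (by rw [cent_cycle]; exact e.ge))))

theorem L_le {a : G} (ha : a ∈ T) : res 𝐂(T) ≤ 𝐂[a] := (res_le _).trans (cent_le_cent1 ha)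

theorem not_cent : ¬ 𝐍(T) ≤ 𝐂(T) := by
  intro h
  have key : ∀ x ∈ T, ∀ g, g * x * g⁻¹ ∈ T → g * x * g⁻¹ = x := fun x hx g hg => by
    have h1 : T ≤ 𝐂[x] := (c.T_cent he).trans (cent_le_cent1 hx)
    have h2 : cj g⁻¹ T ≤ 𝐂[x] := by
      rw [← Tr.le_cj_iff_cj_inv_le, ← cent1J]
      exact (c.T_cent he).trans (cent_le_cent1 hg)
    obtain ⟨k, hk, e⟩ := (c.mx.mono h1 le_top).conj c.fam ((c.mx.cj_top c.fam g⁻¹).mono h2 le_top)
    have h3 : g * k ∈ 𝐂[x] := cent_le_cent1 hx (h (Tr.cj_eq_iff.1 (by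
      rw [Tr.cj_mul, ← e, Tr.cj_cj_inv])))
    exact cent1_conj.1 (by simpa using mul_mem h3 (inv_mem hk))
  obtain ⟨a, ha, ha1⟩ := trivgPn.1 c.T_ne
  have haF := c.mx.sub a ha
  have hz := ZStar.zstar_center (core_top_eq.symm.trans c.hO) (t := a)
    ⟨Tr.orderOf_eq_two (he a ha).2 ha1, fun g hg => by
      obtain ⟨T', h1, -, h2⟩ := exists_mx c.fam (X := ⊤) le_top
        (pgroup_pair (c.fam.two a haF) (c.fam.two _ (c.fam.conj a haF g)) hg.eq)
      obtain ⟨k, -, rfl⟩ := c.mx.conj c.fam h1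
      have h3 := key a ha k⁻¹ (by
        simpa using Tr.mem_cj.1 (h2 a haF (mem_sup_left (mem_zpowers _))))
      have h4 := key a ha (k⁻¹ * g) (by
        simpa [mul_assoc] using
          Tr.mem_cj.1 (h2 _ (c.fam.conj a haF g) (mem_sup_right (mem_zpowers _))))
      rw [← h3] at h4
      calc _ = k * (k⁻¹ * g * (k⁻¹ * a * k⁻¹⁻¹) * (k⁻¹ * g)⁻¹) * k⁻¹ := by rw [h3]; group
        _ = _ := by rw [h4]; group⟩
  exact c.cent1_ne he ha ha1 (eq_top_iff.2 fun x _ => mem_cent1.2 (mem_center_iff.1 hz x))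

theorem card_T : #|T| = 4 ∨ 8 ≤ #|T| := by
  obtain ⟨n, hn⟩ := card_pgroup c.mx.two
  match n, hn with
  | 0, hn => exact absurd (trivg_card1.2 hn) c.T_ne
  | 1, hn =>
    exact absurd (cents_prime_of_coprime (hn ▸ Nat.prime_two) le_rfl (by simp [hn])) (c.not_cent he)
  | 2, hn => exact Or.inl hn
  | n + 3, hn =>
    right
    rw [hn, pow_add]
    exact Nat.le_mul_of_pos_left _ (by positivity)

theorem functor : IsFunctor T fun a => 𝐎(𝐂[a]) where
  odd a _ _ := odd_core _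
  cent a _ _ := D_le a
  inv a ha _ := ((c.T_le_L he).trans (c.L_le he ha)).trans (norm_D a)
  bal a ha ha1 b hb hb1 := by
    have hTb := (c.T_le_L he).trans (c.L_le he hb)
    have hX : Odd #|𝐎(𝐂[a]) ⊓ 𝐂[b]| := odd_of_le inf_le_left (odd_core _)
    have hn : T ≤ 𝐍(𝐎(𝐂[a]) ⊓ 𝐂[b]) :=
      normsI (((c.T_le_L he).trans (c.L_le he ha)).trans (norm_D a)) (normsG hTb)
    refine le_of_comm_cent hX c.mx.two hn ?_ ?_
    · rw [← commGid2 hX c.mx.two hn]
      exact (commgSS ((commgS _ (le_NN c.mx.sub hTb)).trans (commg_subr.2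
        (inf_le_right.trans (c.fam.NN_nrm _).nz))) (c.T_le_L he)).trans
        (c.comm_le he (c.cent1_ne he hb hb1) (c.L_le he hb))
    · exact ((inf_le_inf_right _ inf_le_left).trans (inf_core_le (cent_le_cent1 ha))).trans
        (olem (Nrm.refl _) inf_le_left (c.fac he (c.cent1_ne he hb hb1) (c.L_le he hb))
          ((pcore_sub _ _).trans (cent_le_cent1 hb))
          (inf_le_right.trans ((cent_norm T).trans (pcore_char _ _))) (odd_core _))

theorem sc_J : ∃ S : Sylow 2 (closure F),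
    IsStronglyClosed (T.subgroupOf (closure F)) (S : Subgroup (closure F)) :=
  (c.mx.mono c.T_le le_top).subtype.sc (c.fam.comap _ (closure F).subtype_injective)

theorem ben (hE : BenEndStmt.{u}) (h : ∃ H : Subgroup (closure F), IsStronglyEmbedded H) :
    False := by
  obtain ⟨S, hS⟩ := c.mx.sc c.fam
  have := c.fam.normal
  have := c.simple
  exact c.ne (hE G S (closure F) T _ c.cent h c.T_le (c.abelem he)
    (by have := c.card_T he; omega) hS (res_perf _) (res_le _))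

theorem case8 (h74 : S1174Stmt.{u}) (hE : BenEndStmt.{u}) (h8 : 8 ≤ #|T|) : False := by
  obtain ⟨W, hW, -, hW'⟩ := SF.sft G T _ (c.abelem he) h8 (c.functor he)
  obtain ⟨V, hV⟩ : ∃ V, V = ⨆ a : {a : G // a ∈ T ∧ a ≠ 1}, 𝐎(𝐂[(a : G)]) := ⟨_, rfl⟩
  have h1 : ∀ a ∈ T, a ≠ 1 → 𝐎(𝐂[a]) ≤ V := fun a ha ha1 =>
    hV ▸ le_iSup (fun a : {a : G // a ∈ T ∧ a ≠ 1} => 𝐎(𝐂[(a : G)])) ⟨a, ha, ha1⟩
  have h2 : Odd #|V| := odd_of_le (hV ▸ iSup_le fun a => (hW' a a.2.1 a.2.2).ge.trans inf_le_left) hW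
  have h3 : 𝐍(T) ≤ 𝐍(V) := fun g hg => Tr.mem_normalizer_of_cj_le (by
    rw [Tr.cj_le_iff_le_cj_inv]
    nth_rw 1 [hV]
    exact iSup_le fun a x hx => Tr.mem_cj_inv.2 (h1 _ ((memJ_norm hg).2 a.2.1)
      (by simpa using a.2.2) (D_conj g hx)))
  have hLN : res 𝐂(T) ≤ 𝐍(T) := (res_le _).trans (cent_sub T)
  have h4 : ¬ closure F ≤ V ⊔ 𝐍(T) := fun h => by
    rw [c.odd_bot h2 (c.norm_of (h.trans (sup_le (normG V) h3)) (hLN.trans h3)), bot_sup_eq] at h
    exact c.T_ne (c.two_bot c.mx.two (c.norm_of h hLN))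
  obtain ⟨S, hS⟩ := c.sc_J he
  have := c.simple
  refine c.ben he hE (h74 _ S _ (fun e => c.T_ne ?_) hS fun e => h4 ?_)
  · rwa [subgroupOf_eq_bot, disjoint_iff, inf_eq_left.2 c.T_le] at e
  · refine subgroupOf_eq_top.1 (top_le_iff.1 (e.ge.trans (iSup_le fun t x hx => ?_)))
    have ht1 : ((t : closure F) : G) ≠ 1 := fun e' =>
      Tr.ne_one_of_orderOf_two t.2.2 (Subtype.ext e')
    exact (c.fac he (c.cent1_ne he t.2.1 ht1) (c.L_le he t.2.1)).trans
      (sup_le (le_sup_of_le_right inf_le_right) (le_sup_of_le_left (h1 _ t.2.1 ht1)))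
      (mem_cent1.2 (congrArg Subtype.val (mem_cent1.1 hx)))

theorem case4 (hQ : QStmt.{u}) (hE : BenEndStmt.{u}) (h4 : #|T| = 4) : False := by
  obtain ⟨S, hS⟩ := c.sc_J he
  have := c.simple
  have := c.fam.normal
  refine (hQ _ S _ (abelem_of_map (closure F).subtype_injective ?_) ?_ hS).elim (fun e => ?_)
    (c.ben he hE)
  · rw [subgroupOf_map_subtype]
    exact abelemS inf_le_left (c.abelem he)
  · rw [Nat.card_congr (subgroupOfEquivOfLe c.T_le).toEquiv, h4]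
  have hs : IsSylowIn 2 T (closure F) := by
    rw [← Sylow_subgroupOf le_rfl c.T_le, subgroupOf_self, ← e]
    exact syl_top S
  obtain ⟨L, hL⟩ : ∃ L, L = res 𝐂(T) := ⟨_, rfl⟩
  have hTL : T ≤ L := hL ▸ c.T_le_L he
  have hLC : L ≤ 𝐂(T) := hL ▸ res_le _
  have hNL : 𝐍(T) ≤ 𝐍(L) := hL ▸ norm_resC T
  have hN : 𝐍(T) ≤ 𝐍(𝐎(L ⊓ closure F)) :=
    (normsI hNL (norms_of_normal _)).trans (pcore_char _ _)
  have hLN := (hLC.trans (cent_sub T)).trans hN
  have h1 := Sylow_subl (le_inf hTL c.T_le) inf_le_right hs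
  obtain ⟨K, hK⟩ := SchurZassenhaus_split' (Sylow_pHall h1) (inf_le_left.trans (hLC.trans (cent_sub T)))
  have h2 : K ≤ 𝐎(L ⊓ closure F) := le_core (by
    rw [← hK.index_left, ← Nat.not_even_iff_odd, even_iff_two_dvd]
    exact h1.not_dvd) (hK.dprod (hK.right_le.trans (inf_le_left.trans hLC))).nrm_right
  have h3 : ⁅L ⊓ closure F, L⁆ ≤ 𝐎(L ⊓ closure F) :=
    (commSg _ (hK.sup.ge.trans (sup_le_sup_left h2 T))).trans (commMG_le (hTL.trans hLN)
      ((commG1P.2 (centsC.1 hLC)).le.trans bot_le) (commg_subl.2 hLN) (normG _))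
  have h5 : ⁅L, closure F ⊓ 𝐍(T)⁆ ≤ L ⊓ closure F :=
    le_inf (commg_subl.2 (inf_le_right.trans hNL))
      ((commgS _ inf_le_left).trans (commg_subr.2 (norms_of_normal _)))
  have hLL : ⁅L, L⁆ = L := hL ▸ res_perf _
  have h5' : ⁅closure F ⊓ 𝐍(T), L⁆ ≤ L ⊓ closure F := (commGC _ _).le.trans h5
  have h6 := three_subgroup_mod (A := L) (B := closure F ⊓ 𝐍(T)) (C := L) hLN
    (inf_le_right.trans hN) hLN ((commSg _ h5).trans h3) ((commSg _ h5').trans h3)
  rw [hLL] at h6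
  have h7 : closure F ⊓ 𝐍(T) ≤ 𝐂(T) := by
    rw [centsC, ← commG1P, eq_bot_iff]
    exact fun x hx => mem_bot.2 (eq_one_of_odd (odd_core _) c.mx.two (h6 (commSg _ hTL hx))
      (commg_subl.2 inf_le_right hx))
  refine c.not_cent he fun g hg => ?_
  obtain ⟨j, hj, l, hl, rfl⟩ := (mem_join_norm (norms_of_normal _)).1 (c.gen.ge (mem_top g))
  exact mul_mem (h7 ⟨hj, by simpa using mul_mem hg (inv_mem (cent_sub T (res_le _ hl)))⟩)
    (res_le _ hl)

end Cfg

theorem simpleCase (hB : BScStmt.{u}) (h74 : S1174Stmt.{u}) (hQ : QStmt.{u})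
    (hE : BenEndStmt.{u}) : SimpleCase.{u} := fun G _ _ F T c =>
  have he := c.elem hB h74
  (c.card_T he).elim (c.case4 he hQ hE) (c.case8 he h74 hE)

theorem map_iInf_derived {G : Type*} [Group G] [Finite G] (C : Subgroup G) :
    (⨅ n : ℕ, derivedSeries C n).map C.subtype = res C := by
  refine le_antisymm ?_ ?_
  · obtain ⟨_, ⟨n, rfl⟩, h⟩ := (wellFounded_lt (α := Subgroup C)).has_min
      (Set.range (derivedSeries C)) ⟨_, 0, rfl⟩
    have h1 : ⁅derivedSeries C n, derivedSeries C n⁆ = derivedSeries C n := by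
      by_contra hne
      exact h _ ⟨n + 1, rfl⟩ (lt_of_le_of_ne (der_sub _) hne)
    exact (map_mono (iInf_le _ n)).trans (le_res (map_subtype_le _) (perf_map _ h1))
  · rw [← inf_eq_left.2 (res_le C), ← subgroupOf_map_subtype]
    refine map_mono (le_iInf fun n => ?_)
    induction n with
    | zero => exact le_top
    | succ n ih => exact (perf_subgroupOf (res_le C) (res_perf C)).ge.trans (dergS ih)

theorem s1173_of (hB : BScStmt.{u}) (h74 : S1174Stmt.{u}) (hQ : QStmt.{u}) (hE : BenEndStmt.{u})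
    {G : Type u} [Group G] [Finite G] (hO : oddCore G = ⊥) (S : Sylow 2 G) (T : Subgroup G)
    (hT : IsStronglyClosed T (S : Subgroup G)) :
    ((⨅ n : ℕ, derivedSeries ↥(centralizer (T : Set G)) n).map
      (centralizer (T : Set G)).subtype).Normal := by
  rw [map_iInf_derived]
  have h1 := reduce (simpleCase hB h74 hQ hE) _ G rfl _ _ rfl T _ (fam_cl hT) (mx_cl hT)
    (res_perf _) (res_le _)
  rw [core_top_eq, hO, le_bot_iff, commG1P, centsC] at h1
  have := (fam_cl hT).normal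
  rw [le_antisymm (le_res h1 (res_perf _)) (le_res ((res_le _).trans
    (centS fun t ht => subset_closure (mem_cl ht))) (res_perf _)), ← norm_eq_top_iff, eq_top_iff]
  exact (norms_of_normal ⊤).trans (norm_resC _)

end Cfsg.Agent.SC.Red
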