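import Cfsg.Agent.Lib.SC.Lyons
import Cfsg.Agent.Lib.SC.QX9
import Cfsg.Agent.Lib.SC.Red4
import Cfsg.Agent.Lib.SC.Ben2

/-! Theorem Q and the statement S1173 from `S1174Stmt`. -/

namespace Cfsg.Agent.SC

open Subgroup

universe u

theorem thmQ (h : SF.S1174Stmt.{u}) : QStmt.{u} := QX.q_of' h lyons

theorem s1173 (h : SF.S1174Stmt.{u}) {G : Type u} [Group G] [Finite G] (hO : oddCore G = ⊥)
    (S : Sylow 2 G) (T : Subgroup G) (hT : IsStronglyClosed T (S : Subgroup G)) :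
    ((⨅ n : ℕ, derivedSeries ↥(centralizer (T : Set G)) n).map
      (centralizer (T : Set G)).subtype).Normal :=
  Red.s1173_of BS.bsc h (thmQ h) (Ben.benEnd BS.bender) hO S T hT

end Cfsg.Agent.SC
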