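import Cfsg.Agent.Lib.SC.ArChk

noncomputable section

namespace Cfsg.Agent.SC.Ar

set_option maxRecDepth 100000

def zt0 : Ty := ⟨[1, 4, 4, 4, 2, 9, 3, 12], [-1, -4, -3], [-75, 0, -25], 165⟩
def zt1 : Ty := ⟨[1, 4, 4, 4, 2, 4, 2, 8], [-1, -4, -2], [-200, 0, -100], 90⟩
def zt2 : Ty := ⟨[1, 4, 4, 4, 2, 1, 1, 4], [-1, -4, -1], [-225, 0, -225], 79⟩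
def zt3 : Ty := ⟨[4, 12, 12, 8, 4, 36, 12, 36], [-4, -12, -12], [-12, -4, -4], 177⟩
def zt4 : Ty := ⟨[4, 12, 12, 8, 4, 16, 8, 24], [-4, -12, -8], [-288, -144, -144], 102⟩
def zt5 : Ty := ⟨[4, 12, 12, 8, 4, 4, 4, 12], [-4, -12, -4], [-484, -484, -484], 27⟩
def zt6 : Ty := ⟨[4, 12, 12, 8, 4, 0, 0, 0], [-4, -12, 0], [0, -1024, -1024], 80⟩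
def zt7 : Ty := ⟨[4, 8, 8, 4, 0, 16, 8, 16], [-4, -8, -8], [-32, -32, -16], 114⟩
def zt8 : Ty := ⟨[4, 8, 8, 4, 0, 4, 4, 8], [-4, -8, -4], [-196, -392, -196], 39⟩
def zt9 : Ty := ⟨[4, 8, 8, 4, 0, 0, 0, 0], [-4, -8, 0], [0, -1152, -576], 28⟩
def zt10 : Ty := ⟨[4, 4, 12, 0, -4, 4, 4, 4], [-4, -4, -4], [-36, -108, -36], 51⟩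
def zt11 : Ty := ⟨[4, 4, 12, 0, -4, 4, 4, 4], [-4, -4, -4], [-36, -108, -36], 51⟩
def zt12 : Ty := ⟨[2, 4, 4, 0, 2, 8, 4, 8], [-2, -4, -4], [-16, -16, -8], 114⟩
def zt13 : Ty := ⟨[2, 4, 4, 0, 2, 2, 2, 4], [-2, -4, -2], [-98, -196, -98], 39⟩
def zt14 : Ty := ⟨[2, 4, 4, 0, 2, 0, 0, 0], [-2, -4, 0], [0, -576, -288], 28⟩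
def zt15 : Ty := ⟨[4, 4, 4, 0, 0, 16, 8, 8], [-4, -4, -8], [-32, -48, -16], 126⟩
def zt16 : Ty := ⟨[4, 4, 4, 0, 0, 4, 4, 4], [-4, -4, -4], [-36, -108, -36], 51⟩
def zt17 : Ty := ⟨[4, 4, 4, 0, 0, 0, 0, 0], [-4, -4, 0], [0, -768, -256], 40⟩
def zt18 : Ty := ⟨[4, 4, 4, 0, 0, 4, -4, -4], [-4, -4, 4], [676, -2028, -676], 29⟩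
def zt19 : Ty := ⟨[4, 0, 8, 0, -4, 4, 4, 0], [-4, 0, -4], [-4, -16, -4], 63⟩
def zt20 : Ty := ⟨[4, 0, 8, 0, -4, 0, 0, 0], [-4, 0, 0], [0, -256, -64], 52⟩
def zt21 : Ty := ⟨[4, 4, 12, -8, 4, 4, 4, 4], [-4, -4, -4], [-36, -108, -36], 51⟩
def zt22 : Ty := ⟨[4, 0, 8, -4, 0, 4, 4, 0], [-4, 0, -4], [-4, -16, -4], 63⟩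
def zt23 : Ty := ⟨[4, 0, 8, -4, 0, 0, 0, 0], [-4, 0, 0], [0, -256, -64], 52⟩
def zt24 : Ty := ⟨[4, 0, 8, -4, 0, 4, 4, 0], [-4, 0, -4], [-4, -16, -4], 63⟩
def zt25 : Ty := ⟨[4, 0, 8, -4, 0, 0, 0, 0], [-4, 0, 0], [0, -256, -64], 52⟩
def zt26 : Ty := ⟨[1, 0, 0, 0, 0, 4, 2, 0], [-1, 0, -2], [-72, -144, -36], 138⟩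
def zt27 : Ty := ⟨[1, 0, 0, 0, 0, 1, 1, 0], [-1, 0, -1], [-1, -4, -1], 63⟩
def zt28 : Ty := ⟨[1, 0, 0, 0, 0, 0, 0, 0], [-1, 0, 0], [0, -64, -16], 52⟩
def zt29 : Ty := ⟨[1, 0, 0, 0, 0, 1, -1, 0], [-1, 0, 1], [81, -324, -81], 41⟩
def zt30 : Ty := ⟨[4, -4, 4, 0, 0, 4, 4, -4], [-4, 4, -4], [-100, -500, -100], 75⟩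
def zt31 : Ty := ⟨[4, -4, 4, 0, 0, 4, -4, 4], [-4, 4, 4], [100, -500, -100], 53⟩
def zt32 : Ty := ⟨[4, -8, 8, 4, 0, 0, 0, 0], [-4, 8, 0], [0, -384, -64], 12⟩
def zt33 : Ty := ⟨[4, -8, 8, 4, 0, 4, -4, 8], [-4, 8, 4], [4, -24, -4], 65⟩
def zt34 : Ty := ⟨[2, -4, 4, 0, 2, 0, 0, 0], [-2, 4, 0], [0, -192, -32], 12⟩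
def zt35 : Ty := ⟨[2, -4, 4, 0, 2, 2, -2, 4], [-2, 4, 2], [2, -12, -2], 65⟩
def zt36 : Ty := ⟨[0, 0, 16, 0, 0, 4, 0, 8], [0, -8, -4], [-36, 72, 0], 51⟩
def zt37 : Ty := ⟨[0, 0, 4, 4, 2, 9, 0, 12], [0, -4, -3], [-3, 4, 0], 177⟩
def zt38 : Ty := ⟨[0, 0, 4, 4, 2, 4, 0, 8], [0, -4, -2], [-72, 144, 0], 102⟩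
def zt39 : Ty := ⟨[0, 0, 4, 4, 2, 1, 0, 4], [0, -4, -1], [-121, 484, 0], 27⟩
def zt40 : Ty := ⟨[0, 0, 12, 8, 4, 36, 0, 36], [0, -12, -12], [-108, 108, 0], 189⟩
def zt41 : Ty := ⟨[0, 0, 12, 8, 4, 16, 0, 24], [0, -12, -8], [-32, 48, 0], 114⟩
def zt42 : Ty := ⟨[0, 0, 12, 8, 4, 4, 0, 12], [0, -12, -4], [-196, 588, 0], 39⟩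
def zt43 : Ty := ⟨[0, 0, 12, 8, 4, 0, 0, 0], [0, -12, 0], [0, 1728, 0], 28⟩
def zt44 : Ty := ⟨[0, 0, 16, 0, 0, 4, 0, 8], [0, -8, -4], [-36, 72, 0], 51⟩
def zt45 : Ty := ⟨[0, 0, 8, 4, 0, 16, 0, 16], [0, -8, -8], [-32, 32, 0], 126⟩
def zt46 : Ty := ⟨[0, 0, 8, 4, 0, 4, 0, 8], [0, -8, -4], [-36, 72, 0], 51⟩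
def zt47 : Ty := ⟨[0, 0, 8, 4, 0, 0, 0, 0], [0, -8, 0], [0, 512, 0], 40⟩
def zt48 : Ty := ⟨[0, 0, 8, 4, 0, 4, 0, -8], [0, -8, 4], [676, 1352, 0], 29⟩
def zt49 : Ty := ⟨[0, 0, 12, 0, -4, 4, 0, 4], [0, -4, -4], [-4, 4, 0], 63⟩
def zt50 : Ty := ⟨[0, 0, 12, 0, -4, 0, 0, 0], [0, -4, 0], [0, 64, 0], 52⟩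
def zt51 : Ty := ⟨[0, 0, 12, 0, -4, 4, 0, 4], [0, -4, -4], [-4, 4, 0], 63⟩
def zt52 : Ty := ⟨[0, 0, 12, 0, -4, 0, 0, 0], [0, -4, 0], [0, 64, 0], 52⟩
def zt53 : Ty := ⟨[0, 0, 4, 0, 2, 8, 0, 8], [0, -4, -4], [-16, 16, 0], 126⟩
def zt54 : Ty := ⟨[0, 0, 4, 0, 2, 2, 0, 4], [0, -4, -2], [-18, 36, 0], 51⟩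
def zt55 : Ty := ⟨[0, 0, 4, 0, 2, 0, 0, 0], [0, -4, 0], [0, 256, 0], 40⟩
def zt56 : Ty := ⟨[0, 0, 4, 0, 2, 2, 0, -4], [0, -4, 2], [338, 676, 0], 29⟩
def zt57 : Ty := ⟨[0, 0, 4, 0, 0, 16, 0, 8], [0, -4, -8], [-288, 144, 0], 138⟩
def zt58 : Ty := ⟨[0, 0, 4, 0, 0, 4, 0, 4], [0, -4, -4], [-4, 4, 0], 63⟩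
def zt59 : Ty := ⟨[0, 0, 4, 0, 0, 0, 0, 0], [0, -4, 0], [0, 64, 0], 52⟩
def zt60 : Ty := ⟨[0, 0, 4, 0, 0, 4, 0, -4], [0, -4, 4], [324, 324, 0], 41⟩
def zt61 : Ty := ⟨[0, 0, 8, 0, -4, 4, 0, 0], [0, 0, -4], [-100, 0, 0], 75⟩
def zt62 : Ty := ⟨[0, 0, 8, 0, -4, 4, 0, 0], [0, 0, 4], [100, 0, 0], 53⟩
def zt63 : Ty := ⟨[0, 0, 12, -8, 4, 4, 0, 4], [0, -4, -4], [-4, 4, 0], 63⟩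
def zt64 : Ty := ⟨[0, 0, 12, -8, 4, 0, 0, 0], [0, -4, 0], [0, 64, 0], 52⟩
def zt65 : Ty := ⟨[0, 0, 8, -4, 0, 4, 0, 0], [0, 0, -4], [-100, 0, 0], 75⟩
def zt66 : Ty := ⟨[0, 0, 8, -4, 0, 4, 0, 0], [0, 0, 4], [100, 0, 0], 53⟩
def zt67 : Ty := ⟨[0, 0, 12, 0, -4, 0, 0, 0], [0, 4, 0], [0, -64, 0], 12⟩
def zt68 : Ty := ⟨[0, 0, 12, 0, -4, 4, 0, 4], [0, 4, 4], [4, -4, 0], 65⟩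
def zt69 : Ty := ⟨[0, 0, 8, -4, 0, 4, 0, 0], [0, 0, -4], [-100, 0, 0], 75⟩
def zt70 : Ty := ⟨[0, 0, 8, -4, 0, 4, 0, 0], [0, 0, 4], [100, 0, 0], 53⟩
def zt71 : Ty := ⟨[0, 0, 12, 0, -4, 0, 0, 0], [0, 4, 0], [0, -64, 0], 12⟩
def zt72 : Ty := ⟨[0, 0, 12, 0, -4, 4, 0, 4], [0, 4, 4], [4, -4, 0], 65⟩
def zt73 : Ty := ⟨[0, 0, 12, -8, 4, 0, 0, 0], [0, 4, 0], [0, -64, 0], 12⟩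
def zt74 : Ty := ⟨[0, 0, 12, -8, 4, 4, 0, 4], [0, 4, 4], [4, -4, 0], 65⟩
def zt75 : Ty := ⟨[0, 0, 16, 0, 0, 4, 0, 8], [0, 8, 4], [36, -72, 0], 77⟩
def zt76 : Ty := ⟨[0, 0, 0, 0, 0, 4, 0, 0], [0, 0, -2], [-200, 0, 0], 150⟩
def zt77 : Ty := ⟨[0, 0, 0, 0, 0, 1, 0, 0], [0, 0, -1], [-25, 0, 0], 75⟩
def zt78 : Ty := ⟨[0, 0, 0, 0, 0, 1, 0, 0], [0, 0, 1], [25, 0, 0], 53⟩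
def zt79 : Ty := ⟨[0, 0, 0, 0, 0, 4, 0, 0], [0, 0, 2], [200, 0, 0], 42⟩
def zt80 : Ty := ⟨[0, 0, 4, 0, 0, 4, 0, -4], [0, 4, -4], [-324, -324, 0], 87⟩
def zt81 : Ty := ⟨[0, 0, 4, 0, 0, 0, 0, 0], [0, 4, 0], [0, -64, 0], 12⟩
def zt82 : Ty := ⟨[0, 0, 4, 0, 0, 4, 0, 4], [0, 4, 4], [4, -4, 0], 65⟩
def zt83 : Ty := ⟨[0, 0, 4, 0, 0, 16, 0, 8], [0, 4, 8], [288, -144, 0], 54⟩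
def zt84 : Ty := ⟨[0, 0, 16, 0, 0, 4, 0, 8], [0, 8, 4], [36, -72, 0], 77⟩
def zt85 : Ty := ⟨[0, 0, 8, 4, 0, 4, 0, -8], [0, 8, -4], [-676, -1352, 0], 99⟩
def zt86 : Ty := ⟨[0, 0, 8, 4, 0, 0, 0, 0], [0, 8, 0], [0, -512, 0], 24⟩
def zt87 : Ty := ⟨[0, 0, 8, 4, 0, 4, 0, 8], [0, 8, 4], [36, -72, 0], 77⟩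
def zt88 : Ty := ⟨[0, 0, 8, 4, 0, 16, 0, 16], [0, 8, 8], [32, -32, 0], 66⟩
def zt89 : Ty := ⟨[0, 0, 4, 0, 2, 2, 0, -4], [0, 4, -2], [-338, -676, 0], 99⟩
def zt90 : Ty := ⟨[0, 0, 4, 0, 2, 0, 0, 0], [0, 4, 0], [0, -256, 0], 24⟩
def zt91 : Ty := ⟨[0, 0, 4, 0, 2, 2, 0, 4], [0, 4, 2], [18, -36, 0], 77⟩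
def zt92 : Ty := ⟨[0, 0, 4, 0, 2, 8, 0, 8], [0, 4, 4], [16, -16, 0], 66⟩
def zt93 : Ty := ⟨[0, 0, 12, 8, 4, 0, 0, 0], [0, 12, 0], [0, -1728, 0], 36⟩
def zt94 : Ty := ⟨[0, 0, 12, 8, 4, 4, 0, 12], [0, 12, 4], [196, -588, 0], 89⟩
def zt95 : Ty := ⟨[0, 0, 12, 8, 4, 16, 0, 24], [0, 12, 8], [32, -48, 0], 78⟩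
def zt96 : Ty := ⟨[0, 0, 12, 8, 4, 36, 0, 36], [0, 12, 12], [108, -108, 0], 67⟩
def zt97 : Ty := ⟨[0, 0, 4, 4, 2, 1, 0, 4], [0, 4, 1], [121, -484, 0], 101⟩
def zt98 : Ty := ⟨[0, 0, 4, 4, 2, 4, 0, 8], [0, 4, 2], [72, -144, 0], 90⟩
def zt99 : Ty := ⟨[0, 0, 4, 4, 2, 9, 0, 12], [0, 4, 3], [3, -4, 0], 79⟩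
def zt100 : Ty := ⟨[4, -8, 8, 4, 0, 4, -4, 8], [4, -8, -4], [-4, 24, 4], 63⟩
def zt101 : Ty := ⟨[4, -8, 8, 4, 0, 0, 0, 0], [4, -8, 0], [0, 384, 64], 52⟩
def zt102 : Ty := ⟨[2, -4, 4, 0, 2, 2, -2, 4], [2, -4, -2], [-2, 12, 2], 63⟩
def zt103 : Ty := ⟨[2, -4, 4, 0, 2, 0, 0, 0], [2, -4, 0], [0, 192, 32], 52⟩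
def zt104 : Ty := ⟨[4, -4, 4, 0, 0, 4, -4, 4], [4, -4, -4], [-100, 500, 100], 75⟩
def zt105 : Ty := ⟨[4, -4, 4, 0, 0, 4, 4, -4], [4, -4, 4], [100, 500, 100], 53⟩
def zt106 : Ty := ⟨[4, 0, 8, 0, -4, 0, 0, 0], [4, 0, 0], [0, 256, 64], 12⟩
def zt107 : Ty := ⟨[4, 0, 8, 0, -4, 4, 4, 0], [4, 0, 4], [4, 16, 4], 65⟩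
def zt108 : Ty := ⟨[4, 0, 8, -4, 0, 0, 0, 0], [4, 0, 0], [0, 256, 64], 12⟩
def zt109 : Ty := ⟨[4, 0, 8, -4, 0, 4, 4, 0], [4, 0, 4], [4, 16, 4], 65⟩
def zt110 : Ty := ⟨[4, 4, 12, 0, -4, 4, 4, 4], [4, 4, 4], [36, 108, 36], 77⟩
def zt111 : Ty := ⟨[4, 0, 8, -4, 0, 0, 0, 0], [4, 0, 0], [0, 256, 64], 12⟩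
def zt112 : Ty := ⟨[4, 0, 8, -4, 0, 4, 4, 0], [4, 0, 4], [4, 16, 4], 65⟩
def zt113 : Ty := ⟨[4, 4, 12, 0, -4, 4, 4, 4], [4, 4, 4], [36, 108, 36], 77⟩
def zt114 : Ty := ⟨[4, 4, 12, -8, 4, 4, 4, 4], [4, 4, 4], [36, 108, 36], 77⟩
def zt115 : Ty := ⟨[1, 0, 0, 0, 0, 1, -1, 0], [1, 0, -1], [-81, 324, 81], 87⟩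
def zt116 : Ty := ⟨[1, 0, 0, 0, 0, 0, 0, 0], [1, 0, 0], [0, 64, 16], 12⟩
def zt117 : Ty := ⟨[1, 0, 0, 0, 0, 1, 1, 0], [1, 0, 1], [1, 4, 1], 65⟩
def zt118 : Ty := ⟨[1, 0, 0, 0, 0, 4, 2, 0], [1, 0, 2], [72, 144, 36], 54⟩
def zt119 : Ty := ⟨[4, 4, 4, 0, 0, 4, -4, -4], [4, 4, -4], [-676, 2028, 676], 99⟩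
def zt120 : Ty := ⟨[4, 4, 4, 0, 0, 0, 0, 0], [4, 4, 0], [0, 768, 256], 24⟩
def zt121 : Ty := ⟨[4, 4, 4, 0, 0, 4, 4, 4], [4, 4, 4], [36, 108, 36], 77⟩
def zt122 : Ty := ⟨[4, 4, 4, 0, 0, 16, 8, 8], [4, 4, 8], [32, 48, 16], 66⟩
def zt123 : Ty := ⟨[4, 8, 8, 4, 0, 0, 0, 0], [4, 8, 0], [0, 1152, 576], 36⟩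
def zt124 : Ty := ⟨[4, 8, 8, 4, 0, 4, 4, 8], [4, 8, 4], [196, 392, 196], 89⟩
def zt125 : Ty := ⟨[4, 8, 8, 4, 0, 16, 8, 16], [4, 8, 8], [32, 32, 16], 78⟩
def zt126 : Ty := ⟨[2, 4, 4, 0, 2, 0, 0, 0], [2, 4, 0], [0, 576, 288], 36⟩
def zt127 : Ty := ⟨[2, 4, 4, 0, 2, 2, 2, 4], [2, 4, 2], [98, 196, 98], 89⟩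
def zt128 : Ty := ⟨[2, 4, 4, 0, 2, 8, 4, 8], [2, 4, 4], [16, 16, 8], 78⟩
def zt129 : Ty := ⟨[4, 12, 12, 8, 4, 0, 0, 0], [4, 12, 0], [0, 1024, 1024], 48⟩
def zt130 : Ty := ⟨[4, 12, 12, 8, 4, 4, 4, 12], [4, 12, 4], [484, 484, 484], 101⟩
def zt131 : Ty := ⟨[4, 12, 12, 8, 4, 16, 8, 24], [4, 12, 8], [288, 144, 144], 90⟩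
def zt132 : Ty := ⟨[4, 12, 12, 8, 4, 36, 12, 36], [4, 12, 12], [12, 4, 4], 79⟩
def zt133 : Ty := ⟨[1, 4, 4, 4, 2, 1, 1, 4], [1, 4, 1], [225, 0, 225], 113⟩
def zt134 : Ty := ⟨[1, 4, 4, 4, 2, 4, 2, 8], [1, 4, 2], [200, 0, 100], 102⟩
def zt135 : Ty := ⟨[1, 4, 4, 4, 2, 9, 3, 12], [1, 4, 3], [75, 0, 25], 91⟩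

def ztypes : List Ty := [zt0, zt1, zt2, zt3, zt4, zt5, zt6, zt7, zt8, zt9, zt10, zt11, zt12, zt13, zt14, zt15, zt16, zt17, zt18, zt19, zt20, zt21, zt22, zt23, zt24, zt25, zt26, zt27, zt28, zt29, zt30, zt31, zt32, zt33, zt34, zt35, zt36, zt37, zt38, zt39, zt40, zt41, zt42, zt43, zt44, zt45, zt46, zt47, zt48, zt49, zt50, zt51, zt52, zt53, zt54, zt55, zt56, zt57, zt58, zt59, zt60, zt61, zt62, zt63, zt64, zt65, zt66, zt67, zt68, zt69, zt70, zt71, zt72, zt73, zt74, zt75, zt76, zt77, zt78, zt79, zt80, zt81, zt82, zt83, zt84, zt85, zt86, zt87, zt88, zt89, zt90, zt91, zt92, zt93, zt94, zt95, zt96,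 zt97, zt98, zt99, zt100, zt101, zt102, zt103, zt104, zt105, zt106, zt107, zt108, zt109, zt110, zt111, zt112, zt113, zt114, zt115, zt116, zt117, zt118, zt119, zt120, zt121, zt122, zt123, zt124, zt125, zt126, zt127, zt128, zt129, zt130, zt131, zt132, zt133, zt134, zt135]

def zrows : List (List Int) := [[-1, -1, -1, -1, -1, -3], [-1, -1, -1, -1, -1, -2], [-1, -1, -1, -1, -1, -1], [-1, -1, -1, -1, 0, -3], [-1, -1, -1, -1, 0, -2], [-1, -1, -1, -1, 0, -1], [-1, -1, -1, -1, 0, 0], [-1, -1, -1, 0, 0, -2], [-1, -1, -1, 0, 0, -1], [-1, -1, -1, 0, 0, 0], [-1, -1, -1, 0, 1, -1], [-1, -1, -1, 1, 0, -1],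 [-1, -1, 0, 0, -1, -2], [-1, -1, 0, 0, -1, -1], [-1, -1, 0, 0, -1, 0], [-1, -1, 0, 0, 0, -2], [-1, -1, 0, 0, 0, -1], [-1, -1, 0, 0, 0, 0], [-1, -1, 0, 0, 0, 1], [-1, -1, 0, 0, 1, -1], [-1, -1, 0, 0, 1, 0], [-1, -1, 0, 1, -1, -1], [-1, -1, 0, 1, 0, -1], [-1, -1, 0, 1, 0, 0], [-1, -1, 1, 0, 0, -1], [-1, -1, 1, 0, 0, 0], [-1, 0, 0, 0, 0, -2], [-1, 0, 0, 0, 0, -1], [-1, 0, 0, 0, 0, 0], [-1, 0, 0, 0, 0, 1], [-1, 0, 0, 0, 1, -1], [-1, 0, 0, 0, 1, 1], [-1, 0, 0, 1, 1, 0], [-1, 0, 0, 1, 1, 1], [-1, 0, 1, 1, 0, 0], [-1, 0, 1, 1, 0, 1], [0, -2, 0, 0, 0, -1], [0, -1, -1, -1, -1, -3], [0, -1, -1, -1,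 -1, -2], [0, -1, -1, -1, -1, -1], [0, -1, -1, -1, 0, -3], [0, -1, -1, -1, 0, -2], [0, -1, -1, -1, 0, -1], [0, -1, -1, -1, 0, 0], [0, -1, -1, -1, 1, -1], [0, -1, -1, 0, 0, -2], [0, -1, -1, 0, 0, -1], [0, -1, -1, 0, 0, 0], [0, -1, -1, 0, 0, 1], [0, -1, -1, 0, 1, -1], [0, -1, -1, 0, 1, 0], [0, -1, -1, 1, 0, -1], [0, -1, -1, 1, 0, 0], [0, -1, 0, 0, -1, -2], [0, -1, 0, 0, -1, -1], [0, -1, 0, 0, -1, 0], [0, -1, 0, 0, -1, 1], [0, -1, 0, 0, 0, -2], [0, -1, 0, 0, 0, -1], [0, -1, 0, 0, 0, 0], [0, -1, 0, 0, 0, 1], [0, -1, 0, 0, 1, -1], [0, -1, 0, 0, 1, 1], [0, -1, 0, 1, -1, -1], [0, -1, 0, 1, -1, 0],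 [0, -1, 0, 1, 0, -1], [0, -1, 0, 1, 0, 1], [0, -1, 0, 1, 1, 0], [0, -1, 0, 1, 1, 1], [0, -1, 1, 0, 0, -1], [0, -1, 1, 0, 0, 1], [0, -1, 1, 0, 1, 0], [0, -1, 1, 0, 1, 1], [0, -1, 1, 1, 0, 0], [0, -1, 1, 1, 0, 1], [0, -1, 1, 1, 1, 1], [0, 0, 0, 0, 0, -2], [0, 0, 0, 0, 0, -1], [0, 0, 0, 0, 0, 1], [0, 0, 0, 0, 0, 2], [0, 0, 0, 0, 1, -1], [0, 0, 0, 0, 1, 0], [0, 0, 0, 0, 1, 1], [0, 0, 0, 0, 1, 2], [0, 0, 0, 0, 2, 1], [0, 0, 0, 1, 1, -1], [0, 0, 0, 1, 1, 0], [0, 0, 0, 1, 1, 1], [0, 0, 0, 1, 1, 2], [0, 0, 1, 1, 0, -1], [0, 0, 1, 1, 0, 0], [0, 0, 1, 1, 0, 1], [0, 0, 1, 1, 0, 2], [0, 0, 1, 1, 1, 0],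 [0, 0, 1, 1, 1, 1], [0, 0, 1, 1, 1, 2], [0, 0, 1, 1, 1, 3], [0, 1, 1, 1, 1, 1], [0, 1, 1, 1, 1, 2], [0, 1, 1, 1, 1, 3], [1, -1, -1, 0, 0, -1], [1, -1, -1, 0, 0, 0], [1, -1, 0, 0, -1, -1], [1, -1, 0, 0, -1, 0], [1, -1, 0, 0, 0, -1], [1, -1, 0, 0, 0, 1], [1, -1, 0, 0, 1, 0], [1, -1, 0, 0, 1, 1], [1, -1, 0, 1, 0, 0], [1, -1, 0, 1, 0, 1], [1, -1, 0, 1, 1, 1], [1, -1, 1, 0, 0, 0], [1, -1, 1, 0, 0, 1], [1, -1, 1, 0, 1, 1], [1, -1, 1, 1, 0, 1], [1, 0, 0, 0, 0, -1], [1, 0, 0, 0, 0, 0], [1, 0, 0, 0, 0, 1], [1, 0, 0, 0, 0, 2], [1, 0, 0, 0, 1, -1], [1, 0, 0, 0, 1, 0], [1, 0, 0, 0, 1, 1], [1, 0, 0, 0,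 1, 2], [1, 0, 0, 1, 1, 0], [1, 0, 0, 1, 1, 1], [1, 0, 0, 1, 1, 2], [1, 0, 1, 1, 0, 0], [1, 0, 1, 1, 0, 1], [1, 0, 1, 1, 0, 2], [1, 0, 1, 1, 1, 0], [1, 0, 1, 1, 1, 1], [1, 0, 1, 1, 1, 2], [1, 0, 1, 1, 1, 3], [1, 1, 1, 1, 1, 1], [1, 1, 1, 1, 1, 2], [1, 1, 1, 1, 1, 3]]

def zR : Rhs := ⟨[4, 4, 20, 4, 2, 15, 3, 16], [-1, 0, -1], [-1, -4, -1], 2⟩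

def zh0 : List Cell := [⟨zt2, 0, 0, 0, 15⟩, ⟨zt6, 0, 0, 0, 0⟩, ⟨zt9, 0, 0, 0, 0⟩, ⟨zt14, 0, 0, 0, 0⟩, ⟨zt22, 0, 0, 0, 3⟩, ⟨zt24, 0, 0, 0, 3⟩, ⟨zt26, 0, 0, 0, 3⟩, ⟨zt27, 0, 0, 0, 15⟩, ⟨zt28, 0, 0, 0, 0⟩, ⟨zt29, 0, 0, 0, 15⟩, ⟨zt30, 0, 0, 0, 3⟩, ⟨zt36, 0, 0, 0, 3⟩, ⟨zt37, 0, 0, 0, 1⟩, ⟨zt38, 0, 0, 0, 3⟩, ⟨zt39, 0, 0, 0, 15⟩, ⟨zt42, 0, 0, 0, 3⟩, ⟨zt43, 0, 0, 0, 0⟩, ⟨zt44, 0, 0, 0, 3⟩, ⟨zt46, 0, 0, 0, 3⟩, ⟨zt47, 0, 0, 0, 0⟩, ⟨zt48, 0, 0, 0, 3⟩, ⟨zt49, 0, 0, 0, 3⟩, ⟨zt50, 0, 0, 0, 0⟩, ⟨zt51, 0, 0, 0, 3⟩, ⟨zt52, 0, 0, 0, 0⟩, ⟨zt53, 0, 0, 0, 1⟩, ⟨zt54, 0, 0, 0, 7⟩, ⟨zt55, 0, 0, 0, 0⟩, ⟨zt56, 0,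 0, 0, 7⟩, ⟨zt58, 0, 0, 0, 3⟩, ⟨zt59, 0, 0, 0, 0⟩, ⟨zt60, 0, 0, 0, 3⟩, ⟨zt61, 0, 0, 0, 3⟩, ⟨zt62, 0, 0, 0, 3⟩, ⟨zt63, 0, 0, 0, 3⟩, ⟨zt64, 0, 0, 0, 0⟩, ⟨zt65, 0, 0, 0, 3⟩, ⟨zt66, 0, 0, 0, 3⟩, ⟨zt67, 0, 0, 0, 0⟩, ⟨zt68, 0, 0, 0, 3⟩, ⟨zt69, 0, 0, 0, 3⟩, ⟨zt70, 0, 0, 0, 3⟩, ⟨zt71, 0, 0, 0, 0⟩, ⟨zt72, 0, 0, 0, 3⟩, ⟨zt73, 0, 0, 0, 0⟩, ⟨zt74, 0, 0, 0, 3⟩, ⟨zt75, 0, 0, 0, 3⟩, ⟨zt76, 0, 0, 0, 3⟩, ⟨zt77, 0, 0, 0, 15⟩, ⟨zt78, 0, 0, 0, 15⟩, ⟨zt79, 0, 0, 0, 3⟩, ⟨zt80, 0, 0, 0, 3⟩, ⟨zt81, 0, 0, 0, 0⟩, ⟨zt82, 0, 0, 0, 3⟩, ⟨zt84, 0, 0, 0, 3⟩, ⟨zt85, 0, 0, 0, 3⟩, ⟨zt86, 0, 0, 0, 0⟩, ⟨zt87, 0, 0, 0, 3⟩, ⟨zt89,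 0, 0, 0, 7⟩, ⟨zt90, 0, 0, 0, 0⟩, ⟨zt91, 0, 0, 0, 7⟩, ⟨zt92, 0, 0, 0, 1⟩, ⟨zt93, 0, 0, 0, 0⟩, ⟨zt94, 0, 0, 0, 3⟩, ⟨zt97, 0, 0, 0, 15⟩, ⟨zt98, 0, 0, 0, 3⟩, ⟨zt99, 0, 0, 0, 1⟩, ⟨zt101, 0, 0, 0, 0⟩, ⟨zt103, 0, 0, 0, 0⟩, ⟨zt105, 0, 0, 0, 3⟩, ⟨zt106, 0, 0, 0, 0⟩, ⟨zt109, 0, 0, 0, 3⟩, ⟨zt112, 0, 0, 0, 3⟩, ⟨zt115, 0, 0, 0, 15⟩, ⟨zt116, 0, 0, 0, 0⟩, ⟨zt117, 0, 0, 0, 15⟩, ⟨zt119, 0, 0, 0, 3⟩, ⟨zt120, 0, 0, 0, 0⟩, ⟨zt123, 0, 0, 0, 0⟩, ⟨zt126, 0, 0, 0, 0⟩, ⟨zt129, 0, 0, 0, 0⟩]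

def zh1 : List Cell := [⟨zt1, 0, 0, 1, 3⟩, ⟨zt2, 0, 0, 0, 3⟩, ⟨zt26, 0, 0, 0, 3⟩, ⟨zt27, 0, 0, 0, 3⟩, ⟨zt28, 0, 0, 0, 3⟩, ⟨zt36, 0, 0, 0, 3⟩, ⟨zt37, 0, 0, 0, 1⟩, ⟨zt38, 0, 0, 0, 3⟩, ⟨zt39, 0, 0, 0, 15⟩, ⟨zt42, 0, 0, 0, 3⟩, ⟨zt43, 0, 0, 0, 0⟩, ⟨zt44, 0, 0, 0, 3⟩, ⟨zt46, 0, 0, 0, 3⟩, ⟨zt47, 0, 0, 0, 0⟩, ⟨zt48, 0, 0, 0, 3⟩, ⟨zt49, 0, 0, 0, 3⟩, ⟨zt50, 0, 0, 0, 0⟩, ⟨zt51, 0, 0, 0, 3⟩, ⟨zt52, 0, 0, 0, 0⟩, ⟨zt53, 0, 0, 0, 1⟩, ⟨zt54, 0, 0, 0, 7⟩, ⟨zt55, 0, 0, 0, 0⟩, ⟨zt56, 0, 0, 0, 7⟩, ⟨zt58, 0, 0, 0, 3⟩, ⟨zt59, 0, 0, 0, 0⟩, ⟨zt60, 0, 0, 0, 3⟩, ⟨zt61, 0, 0, 0, 3⟩, ⟨zt62, 0, 0, 0, 3⟩, ⟨zt63, 0, 0,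 0, 3⟩, ⟨zt64, 0, 0, 0, 0⟩, ⟨zt65, 0, 0, 0, 3⟩, ⟨zt66, 0, 0, 0, 3⟩, ⟨zt67, 0, 0, 0, 0⟩, ⟨zt68, 0, 0, 0, 3⟩, ⟨zt69, 0, 0, 0, 3⟩, ⟨zt70, 0, 0, 0, 3⟩, ⟨zt71, 0, 0, 0, 0⟩, ⟨zt72, 0, 0, 0, 3⟩, ⟨zt73, 0, 0, 0, 0⟩, ⟨zt74, 0, 0, 0, 3⟩, ⟨zt75, 0, 0, 0, 3⟩, ⟨zt76, 0, 0, 0, 3⟩, ⟨zt77, 0, 0, 0, 15⟩, ⟨zt78, 0, 0, 0, 15⟩, ⟨zt79, 0, 0, 0, 3⟩, ⟨zt80, 0, 0, 0, 3⟩, ⟨zt81, 0, 0, 0, 0⟩, ⟨zt82, 0, 0, 0, 3⟩, ⟨zt84, 0, 0, 0, 3⟩, ⟨zt85, 0, 0, 0, 3⟩, ⟨zt86, 0, 0, 0, 0⟩, ⟨zt87, 0, 0, 0, 3⟩, ⟨zt89, 0, 0, 0, 7⟩, ⟨zt90, 0, 0, 0, 0⟩, ⟨zt91, 0, 0, 0, 7⟩, ⟨zt92, 0, 0, 0, 1⟩, ⟨zt93, 0, 0, 0, 0⟩, ⟨zt94, 0, 0, 0, 3⟩, ⟨zt97,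 0, 0, 0, 15⟩, ⟨zt98, 0, 0, 0, 3⟩, ⟨zt99, 0, 0, 0, 1⟩, ⟨zt103, 0, 0, 0, 1⟩, ⟨zt117, 0, 0, 0, 3⟩, ⟨zt126, 0, 0, 0, 1⟩]

def zh2 : List Cell := [⟨zt116, 0, 0, 1, 3⟩, ⟨zt1, 0, 0, 1, 3⟩, ⟨zt2, 0, 0, 0, 3⟩, ⟨zt26, 0, 0, 0, 3⟩, ⟨zt27, 0, 0, 0, 3⟩, ⟨zt28, 0, 0, 0, 3⟩, ⟨zt36, 0, 0, 0, 3⟩, ⟨zt37, 0, 0, 0, 1⟩, ⟨zt38, 0, 0, 0, 3⟩, ⟨zt39, 0, 0, 0, 15⟩, ⟨zt42, 0, 0, 0, 3⟩, ⟨zt43, 0, 0, 0, 0⟩, ⟨zt44, 0, 0, 0, 3⟩, ⟨zt46, 0, 0, 0, 3⟩, ⟨zt47, 0, 0, 0, 0⟩, ⟨zt48, 0, 0, 0, 3⟩, ⟨zt49, 0, 0, 0, 3⟩, ⟨zt50, 0, 0, 0, 0⟩, ⟨zt51, 0, 0, 0, 3⟩, ⟨zt52, 0, 0, 0, 0⟩, ⟨zt53, 0, 0, 0, 1⟩, ⟨zt54, 0, 0, 0, 7⟩, ⟨zt55, 0, 0, 0,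 0⟩, ⟨zt56, 0, 0, 0, 7⟩, ⟨zt58, 0, 0, 0, 3⟩, ⟨zt59, 0, 0, 0, 0⟩, ⟨zt60, 0, 0, 0, 3⟩, ⟨zt61, 0, 0, 0, 3⟩, ⟨zt62, 0, 0, 0, 3⟩, ⟨zt63, 0, 0, 0, 3⟩, ⟨zt64, 0, 0, 0, 0⟩, ⟨zt65, 0, 0, 0, 3⟩, ⟨zt66, 0, 0, 0, 3⟩, ⟨zt67, 0, 0, 0, 0⟩, ⟨zt68, 0, 0, 0, 3⟩, ⟨zt69, 0, 0, 0, 3⟩, ⟨zt70, 0, 0, 0, 3⟩, ⟨zt71, 0, 0, 0, 0⟩, ⟨zt72, 0, 0, 0, 3⟩, ⟨zt73, 0, 0, 0, 0⟩, ⟨zt74, 0, 0, 0, 3⟩, ⟨zt75, 0, 0, 0, 3⟩, ⟨zt76, 0, 0, 0, 3⟩, ⟨zt77, 0, 0, 0, 15⟩, ⟨zt78, 0, 0, 0, 15⟩, ⟨zt79, 0, 0, 0, 3⟩, ⟨zt80, 0, 0, 0, 3⟩, ⟨zt81, 0, 0, 0, 0⟩, ⟨zt82, 0, 0, 0, 3⟩, ⟨zt84, 0, 0, 0, 3⟩, ⟨zt85, 0, 0, 0, 3⟩, ⟨zt86, 0, 0, 0, 0⟩, ⟨zt87, 0,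 0, 0, 3⟩, ⟨zt89, 0, 0, 0, 7⟩, ⟨zt90, 0, 0, 0, 0⟩, ⟨zt91, 0, 0, 0, 7⟩, ⟨zt92, 0, 0, 0, 1⟩, ⟨zt93, 0, 0, 0, 0⟩, ⟨zt94, 0, 0, 0, 3⟩, ⟨zt97, 0, 0, 0, 15⟩, ⟨zt98, 0, 0, 0, 3⟩, ⟨zt99, 0, 0, 0, 1⟩, ⟨zt103, 0, 0, 0, 1⟩, ⟨zt117, 0, 0, 0, 3⟩, ⟨zt126, 0, 0, 0, 1⟩]

def zh3 : List Cell := [⟨zt117, 0, 0, 0, 1⟩, ⟨zt29, 0, 0, 1, 3⟩, ⟨zt1, 0, 0, 1, 3⟩, ⟨zt2, 0, 0, 0, 3⟩, ⟨zt14, 0, 0, 0, 1⟩, ⟨zt26, 0, 0, 0, 3⟩, ⟨zt27, 0, 0, 0, 3⟩, ⟨zt28, 0, 0, 0, 3⟩, ⟨zt36, 0, 0, 0, 3⟩, ⟨zt37, 0, 0, 0, 1⟩, ⟨zt38, 0, 0, 0, 3⟩, ⟨zt39, 0, 0, 0, 15⟩, ⟨zt42, 0, 0, 0, 3⟩, ⟨zt43, 0, 0, 0, 0⟩, ⟨zt44, 0, 0, 0, 3⟩, ⟨zt46, 0, 0, 0, 3⟩,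 ⟨zt47, 0, 0, 0, 0⟩, ⟨zt48, 0, 0, 0, 3⟩, ⟨zt49, 0, 0, 0, 3⟩, ⟨zt50, 0, 0, 0, 0⟩, ⟨zt51, 0, 0, 0, 3⟩, ⟨zt52, 0, 0, 0, 0⟩, ⟨zt53, 0, 0, 0, 1⟩, ⟨zt54, 0, 0, 0, 7⟩, ⟨zt55, 0, 0, 0, 0⟩, ⟨zt56, 0, 0, 0, 7⟩, ⟨zt58, 0, 0, 0, 3⟩, ⟨zt59, 0, 0, 0, 0⟩, ⟨zt60, 0, 0, 0, 3⟩, ⟨zt61, 0, 0, 0, 3⟩, ⟨zt62, 0, 0, 0, 3⟩, ⟨zt63, 0, 0, 0, 3⟩, ⟨zt64, 0, 0, 0, 0⟩, ⟨zt65, 0, 0, 0, 3⟩, ⟨zt66, 0, 0, 0, 3⟩, ⟨zt67, 0, 0, 0, 0⟩, ⟨zt68, 0, 0, 0, 3⟩, ⟨zt69, 0, 0, 0, 3⟩, ⟨zt70, 0, 0, 0, 3⟩, ⟨zt71, 0, 0, 0, 0⟩, ⟨zt72, 0, 0, 0, 3⟩, ⟨zt73, 0, 0, 0, 0⟩, ⟨zt74, 0, 0, 0, 3⟩, ⟨zt75, 0, 0, 0, 3⟩, ⟨zt76, 0, 0, 0, 3⟩, ⟨zt77, 0, 0, 0,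 15⟩, ⟨zt78, 0, 0, 0, 15⟩, ⟨zt79, 0, 0, 0, 3⟩, ⟨zt80, 0, 0, 0, 3⟩, ⟨zt81, 0, 0, 0, 0⟩, ⟨zt82, 0, 0, 0, 3⟩, ⟨zt84, 0, 0, 0, 3⟩, ⟨zt85, 0, 0, 0, 3⟩, ⟨zt86, 0, 0, 0, 0⟩, ⟨zt87, 0, 0, 0, 3⟩, ⟨zt89, 0, 0, 0, 7⟩, ⟨zt90, 0, 0, 0, 0⟩, ⟨zt91, 0, 0, 0, 7⟩, ⟨zt92, 0, 0, 0, 1⟩, ⟨zt93, 0, 0, 0, 0⟩, ⟨zt94, 0, 0, 0, 3⟩, ⟨zt97, 0, 0, 0, 15⟩, ⟨zt98, 0, 0, 0, 3⟩, ⟨zt99, 0, 0, 0, 1⟩, ⟨zt103, 0, 0, 0, 1⟩, ⟨zt116, 0, 0, 0, 3⟩, ⟨zt126, 0, 0, 0, 1⟩]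

def zh4 : List Cell := [⟨zt117, 0, 0, 2, 3⟩, ⟨zt29, 0, 0, 1, 3⟩, ⟨zt1, 0, 0, 1, 3⟩, ⟨zt2, 0, 0, 0, 3⟩, ⟨zt14, 0, 0, 0, 1⟩, ⟨zt26, 0, 0, 0, 3⟩, ⟨zt27, 0, 0, 0, 3⟩, ⟨zt28, 0, 0, 0, 3⟩, ⟨zt36, 0, 0, 0, 3⟩, ⟨zt37, 0, 0, 0, 1⟩, ⟨zt38, 0, 0, 0, 3⟩, ⟨zt39, 0, 0, 0, 15⟩, ⟨zt42, 0, 0, 0, 3⟩, ⟨zt43, 0, 0, 0, 0⟩, ⟨zt44, 0, 0, 0, 3⟩, ⟨zt46, 0, 0, 0, 3⟩, ⟨zt47, 0, 0, 0, 0⟩, ⟨zt48, 0, 0, 0, 3⟩, ⟨zt49, 0, 0, 0, 3⟩, ⟨zt50, 0, 0, 0, 0⟩, ⟨zt51, 0, 0, 0, 3⟩, ⟨zt52, 0, 0, 0, 0⟩, ⟨zt53, 0, 0, 0, 1⟩, ⟨zt54, 0, 0, 0, 7⟩, ⟨zt55, 0, 0, 0, 0⟩, ⟨zt56, 0, 0, 0, 7⟩, ⟨zt58, 0, 0, 0, 3⟩, ⟨zt59, 0, 0, 0, 0⟩, ⟨zt60, 0, 0,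 0, 3⟩, ⟨zt61, 0, 0, 0, 3⟩, ⟨zt62, 0, 0, 0, 3⟩, ⟨zt63, 0, 0, 0, 3⟩, ⟨zt64, 0, 0, 0, 0⟩, ⟨zt65, 0, 0, 0, 3⟩, ⟨zt66, 0, 0, 0, 3⟩, ⟨zt67, 0, 0, 0, 0⟩, ⟨zt68, 0, 0, 0, 3⟩, ⟨zt69, 0, 0, 0, 3⟩, ⟨zt70, 0, 0, 0, 3⟩, ⟨zt71, 0, 0, 0, 0⟩, ⟨zt72, 0, 0, 0, 3⟩, ⟨zt73, 0, 0, 0, 0⟩, ⟨zt74, 0, 0, 0, 3⟩, ⟨zt75, 0, 0, 0, 3⟩, ⟨zt76, 0, 0, 0, 3⟩, ⟨zt77, 0, 0, 0, 15⟩, ⟨zt78, 0, 0, 0, 15⟩, ⟨zt79, 0, 0, 0, 3⟩, ⟨zt80, 0, 0, 0, 3⟩, ⟨zt81, 0, 0, 0, 0⟩, ⟨zt82, 0, 0, 0, 3⟩, ⟨zt84, 0, 0, 0, 3⟩, ⟨zt85, 0, 0, 0, 3⟩, ⟨zt86, 0, 0, 0, 0⟩, ⟨zt87, 0, 0, 0, 3⟩, ⟨zt89, 0, 0, 0, 7⟩, ⟨zt90, 0, 0, 0, 0⟩, ⟨zt91, 0, 0, 0, 7⟩, ⟨zt92,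 0, 0, 0, 1⟩, ⟨zt93, 0, 0, 0, 0⟩, ⟨zt94, 0, 0, 0, 3⟩, ⟨zt97, 0, 0, 0, 15⟩, ⟨zt98, 0, 0, 0, 3⟩, ⟨zt99, 0, 0, 0, 1⟩, ⟨zt103, 0, 0, 0, 1⟩, ⟨zt116, 0, 0, 0, 3⟩, ⟨zt126, 0, 0, 0, 1⟩]

def zh5 : List Cell := [⟨zt115, 0, 0, 1, 3⟩, ⟨zt1, 0, 0, 1, 3⟩, ⟨zt2, 0, 0, 0, 3⟩, ⟨zt14, 0, 0, 0, 1⟩, ⟨zt26, 0, 0, 0, 3⟩, ⟨zt27, 0, 0, 0, 3⟩, ⟨zt28, 0, 0, 0, 3⟩, ⟨zt29, 0, 0, 0, 3⟩, ⟨zt36, 0, 0, 0, 3⟩, ⟨zt37, 0, 0, 0, 1⟩, ⟨zt38, 0, 0, 0, 3⟩, ⟨zt39, 0, 0, 0, 15⟩, ⟨zt42, 0, 0, 0, 3⟩, ⟨zt43, 0, 0, 0, 0⟩, ⟨zt44, 0, 0, 0, 3⟩, ⟨zt46, 0, 0, 0, 3⟩, ⟨zt47, 0, 0, 0, 0⟩, ⟨zt48, 0, 0, 0, 3⟩, ⟨zt49, 0, 0, 0, 3⟩, ⟨zt50, 0, 0, 0,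 0⟩, ⟨zt51, 0, 0, 0, 3⟩, ⟨zt52, 0, 0, 0, 0⟩, ⟨zt53, 0, 0, 0, 1⟩, ⟨zt54, 0, 0, 0, 7⟩, ⟨zt55, 0, 0, 0, 0⟩, ⟨zt56, 0, 0, 0, 7⟩, ⟨zt58, 0, 0, 0, 3⟩, ⟨zt59, 0, 0, 0, 0⟩, ⟨zt60, 0, 0, 0, 3⟩, ⟨zt61, 0, 0, 0, 3⟩, ⟨zt62, 0, 0, 0, 3⟩, ⟨zt63, 0, 0, 0, 3⟩, ⟨zt64, 0, 0, 0, 0⟩, ⟨zt65, 0, 0, 0, 3⟩, ⟨zt66, 0, 0, 0, 3⟩, ⟨zt67, 0, 0, 0, 0⟩, ⟨zt68, 0, 0, 0, 3⟩, ⟨zt69, 0, 0, 0, 3⟩, ⟨zt70, 0, 0, 0, 3⟩, ⟨zt71, 0, 0, 0, 0⟩, ⟨zt72, 0, 0, 0, 3⟩, ⟨zt73, 0, 0, 0, 0⟩, ⟨zt74, 0, 0, 0, 3⟩, ⟨zt75, 0, 0, 0, 3⟩, ⟨zt76, 0, 0, 0, 3⟩, ⟨zt77, 0, 0, 0, 15⟩, ⟨zt78, 0, 0, 0, 15⟩, ⟨zt79, 0, 0, 0, 3⟩, ⟨zt80, 0, 0, 0, 3⟩, ⟨zt81, 0,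 0, 0, 0⟩, ⟨zt82, 0, 0, 0, 3⟩, ⟨zt84, 0, 0, 0, 3⟩, ⟨zt85, 0, 0, 0, 3⟩, ⟨zt86, 0, 0, 0, 0⟩, ⟨zt87, 0, 0, 0, 3⟩, ⟨zt89, 0, 0, 0, 7⟩, ⟨zt90, 0, 0, 0, 0⟩, ⟨zt91, 0, 0, 0, 7⟩, ⟨zt92, 0, 0, 0, 1⟩, ⟨zt93, 0, 0, 0, 0⟩, ⟨zt94, 0, 0, 0, 3⟩, ⟨zt97, 0, 0, 0, 15⟩, ⟨zt98, 0, 0, 0, 3⟩, ⟨zt99, 0, 0, 0, 1⟩, ⟨zt103, 0, 0, 0, 1⟩, ⟨zt116, 0, 0, 0, 3⟩, ⟨zt117, 0, 0, 0, 3⟩, ⟨zt126, 0, 0, 0, 1⟩]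

def zh6 : List Cell := [⟨zt13, 0, 0, 1, 2⟩, ⟨zt1, 0, 0, 0, 2⟩, ⟨zt2, 0, 0, 0, 2⟩, ⟨zt14, 0, 0, 0, 1⟩, ⟨zt27, 0, 0, 0, 2⟩, ⟨zt28, 0, 0, 0, 2⟩, ⟨zt29, 0, 0, 0, 2⟩, ⟨zt37, 0, 0, 0, 1⟩, ⟨zt38, 0, 0, 0, 3⟩, ⟨zt39, 0, 0, 0, 15⟩, ⟨zt42, 0, 0, 0, 3⟩, ⟨zt43, 0, 0, 0, 0⟩, ⟨zt47, 0, 0, 0, 0⟩, ⟨zt48, 0, 0, 0, 3⟩, ⟨zt53, 0, 0, 0, 1⟩, ⟨zt54, 0, 0, 0, 7⟩, ⟨zt55, 0, 0, 0, 0⟩, ⟨zt56, 0, 0, 0, 7⟩, ⟨zt58, 0, 0, 0, 3⟩, ⟨zt59, 0, 0, 0, 0⟩, ⟨zt60, 0, 0, 0, 3⟩, ⟨zt63, 0, 0, 0, 3⟩, ⟨zt64, 0, 0, 0, 0⟩, ⟨zt65, 0, 0, 0, 3⟩, ⟨zt69, 0, 0, 0, 3⟩, ⟨zt73, 0, 0, 0, 0⟩, ⟨zt74, 0, 0, 0, 3⟩, ⟨zt75, 0, 0, 0, 3⟩, ⟨zt76, 0, 0,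 0, 3⟩, ⟨zt77, 0, 0, 0, 15⟩, ⟨zt78, 0, 0, 0, 15⟩, ⟨zt79, 0, 0, 0, 3⟩, ⟨zt80, 0, 0, 0, 3⟩, ⟨zt81, 0, 0, 0, 0⟩, ⟨zt82, 0, 0, 0, 3⟩, ⟨zt84, 0, 0, 0, 3⟩, ⟨zt85, 0, 0, 0, 3⟩, ⟨zt86, 0, 0, 0, 0⟩, ⟨zt87, 0, 0, 0, 3⟩, ⟨zt89, 0, 0, 0, 7⟩, ⟨zt90, 0, 0, 0, 0⟩, ⟨zt91, 0, 0, 0, 7⟩, ⟨zt93, 0, 0, 0, 0⟩, ⟨zt94, 0, 0, 0, 3⟩, ⟨zt97, 0, 0, 0, 15⟩, ⟨zt98, 0, 0, 0, 3⟩, ⟨zt115, 0, 0, 0, 2⟩, ⟨zt116, 0, 0, 0, 2⟩, ⟨zt126, 0, 0, 0, 1⟩]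

def zh7 : List Cell := [⟨zt46, 0, 0, 1, 3⟩, ⟨zt13, 0, 0, 1, 2⟩, ⟨zt1, 0, 0, 0, 2⟩, ⟨zt2, 0, 0, 0, 2⟩, ⟨zt14, 0, 0, 0, 1⟩, ⟨zt27, 0, 0, 0, 2⟩, ⟨zt28, 0, 0, 0, 2⟩, ⟨zt29, 0, 0, 0, 2⟩, ⟨zt37, 0, 0, 0, 1⟩, ⟨zt38, 0, 0, 0, 3⟩, ⟨zt39, 0, 0, 0, 15⟩, ⟨zt42, 0, 0, 0, 3⟩, ⟨zt43, 0, 0, 0, 0⟩, ⟨zt47, 0, 0, 0, 0⟩, ⟨zt48, 0, 0, 0, 3⟩, ⟨zt53, 0, 0, 0, 1⟩, ⟨zt54, 0, 0, 0, 7⟩, ⟨zt55, 0, 0, 0, 0⟩, ⟨zt56, 0, 0, 0, 7⟩, ⟨zt58, 0, 0, 0, 3⟩, ⟨zt59, 0, 0, 0, 0⟩, ⟨zt60, 0, 0, 0, 3⟩, ⟨zt63, 0, 0, 0, 3⟩, ⟨zt64, 0, 0, 0, 0⟩, ⟨zt65, 0, 0, 0, 3⟩, ⟨zt69, 0, 0, 0, 3⟩, ⟨zt73, 0, 0, 0, 0⟩, ⟨zt74, 0, 0, 0, 3⟩, ⟨zt75, 0, 0,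 0, 3⟩, ⟨zt76, 0, 0, 0, 3⟩, ⟨zt77, 0, 0, 0, 15⟩, ⟨zt78, 0, 0, 0, 15⟩, ⟨zt79, 0, 0, 0, 3⟩, ⟨zt80, 0, 0, 0, 3⟩, ⟨zt81, 0, 0, 0, 0⟩, ⟨zt82, 0, 0, 0, 3⟩, ⟨zt84, 0, 0, 0, 3⟩, ⟨zt85, 0, 0, 0, 3⟩, ⟨zt86, 0, 0, 0, 0⟩, ⟨zt87, 0, 0, 0, 3⟩, ⟨zt89, 0, 0, 0, 7⟩, ⟨zt90, 0, 0, 0, 0⟩, ⟨zt91, 0, 0, 0, 7⟩, ⟨zt93, 0, 0, 0, 0⟩, ⟨zt94, 0, 0, 0, 3⟩, ⟨zt97, 0, 0, 0, 15⟩, ⟨zt98, 0, 0, 0, 3⟩, ⟨zt115, 0, 0, 0, 2⟩, ⟨zt116, 0, 0, 0, 2⟩, ⟨zt126, 0, 0, 0, 1⟩]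

def zh8 : List Cell := [⟨zt62, 0, 0, 1, 3⟩, ⟨zt13, 0, 0, 1, 2⟩, ⟨zt1, 0, 0, 0, 2⟩, ⟨zt2, 0, 0, 0, 2⟩, ⟨zt14, 0, 0, 0, 1⟩, ⟨zt27, 0, 0, 0, 2⟩, ⟨zt28, 0, 0, 0, 2⟩, ⟨zt29, 0, 0, 0, 2⟩, ⟨zt37, 0, 0, 0, 1⟩, ⟨zt38, 0, 0, 0, 3⟩, ⟨zt39, 0, 0, 0, 15⟩, ⟨zt42, 0, 0, 0, 3⟩, ⟨zt43, 0, 0, 0, 0⟩, ⟨zt46, 0, 0, 0, 3⟩, ⟨zt47, 0, 0, 0, 0⟩, ⟨zt48, 0, 0, 0, 3⟩, ⟨zt53, 0, 0, 0, 1⟩, ⟨zt54, 0, 0, 0, 7⟩, ⟨zt55, 0, 0, 0, 0⟩, ⟨zt56, 0, 0, 0, 7⟩, ⟨zt58, 0, 0, 0, 3⟩, ⟨zt59, 0, 0, 0, 0⟩, ⟨zt60, 0, 0, 0, 3⟩, ⟨zt63, 0, 0, 0, 3⟩, ⟨zt64, 0, 0, 0, 0⟩, ⟨zt65, 0, 0, 0, 3⟩, ⟨zt66, 0, 0, 0, 3⟩, ⟨zt69, 0, 0, 0, 3⟩, ⟨zt70, 0, 0,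 0, 3⟩, ⟨zt73, 0, 0, 0, 0⟩, ⟨zt74, 0, 0, 0, 3⟩, ⟨zt75, 0, 0, 0, 3⟩, ⟨zt76, 0, 0, 0, 3⟩, ⟨zt77, 0, 0, 0, 15⟩, ⟨zt78, 0, 0, 0, 15⟩, ⟨zt79, 0, 0, 0, 3⟩, ⟨zt80, 0, 0, 0, 3⟩, ⟨zt81, 0, 0, 0, 0⟩, ⟨zt82, 0, 0, 0, 3⟩, ⟨zt84, 0, 0, 0, 3⟩, ⟨zt85, 0, 0, 0, 3⟩, ⟨zt86, 0, 0, 0, 0⟩, ⟨zt87, 0, 0, 0, 3⟩, ⟨zt89, 0, 0, 0, 7⟩, ⟨zt90, 0, 0, 0, 0⟩, ⟨zt91, 0, 0, 0, 7⟩, ⟨zt93, 0, 0, 0, 0⟩, ⟨zt94, 0, 0, 0, 3⟩, ⟨zt97, 0, 0, 0, 15⟩, ⟨zt98, 0, 0, 0, 3⟩, ⟨zt115, 0, 0, 0, 2⟩, ⟨zt116, 0, 0, 0, 2⟩, ⟨zt126, 0, 0, 0, 1⟩]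

def zh9 : List Cell := [⟨zt117, 0, 0, 1, 1⟩, ⟨zt13, 0, 0, 1, 1⟩, ⟨zt1, 0, 0, 0, 1⟩, ⟨zt2, 0, 0, 0, 1⟩, ⟨zt28, 0, 0, 0, 1⟩, ⟨zt29, 0, 0, 0, 1⟩, ⟨zt37, 0, 0, 0, 1⟩, ⟨zt38, 0, 0, 0, 3⟩, ⟨zt39, 0, 0, 0, 15⟩, ⟨zt42, 0, 0, 0, 3⟩, ⟨zt43, 0, 0, 0, 0⟩, ⟨zt46, 0, 0, 0, 3⟩, ⟨zt47, 0, 0, 0, 0⟩, ⟨zt48, 0, 0, 0, 3⟩, ⟨zt53, 0, 0, 0, 1⟩, ⟨zt54, 0, 0, 0, 7⟩, ⟨zt55, 0, 0, 0, 0⟩, ⟨zt56, 0, 0, 0, 7⟩, ⟨zt58, 0, 0, 0, 3⟩, ⟨zt59, 0, 0, 0, 0⟩, ⟨zt60, 0, 0, 0, 3⟩, ⟨zt62, 0, 0, 0, 3⟩, ⟨zt63, 0, 0, 0, 3⟩, ⟨zt64, 0, 0, 0, 0⟩, ⟨zt65, 0, 0, 0, 3⟩, ⟨zt66, 0, 0, 0, 3⟩, ⟨zt69, 0, 0, 0, 3⟩, ⟨zt70, 0, 0, 0, 3⟩, ⟨zt73, 0, 0,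 0, 0⟩, ⟨zt74, 0, 0, 0, 3⟩, ⟨zt75, 0, 0, 0, 3⟩, ⟨zt76, 0, 0, 0, 3⟩, ⟨zt77, 0, 0, 0, 15⟩, ⟨zt78, 0, 0, 0, 15⟩, ⟨zt79, 0, 0, 0, 3⟩, ⟨zt80, 0, 0, 0, 3⟩, ⟨zt81, 0, 0, 0, 0⟩, ⟨zt82, 0, 0, 0, 3⟩, ⟨zt85, 0, 0, 0, 3⟩, ⟨zt86, 0, 0, 0, 0⟩, ⟨zt89, 0, 0, 0, 7⟩, ⟨zt90, 0, 0, 0, 0⟩, ⟨zt91, 0, 0, 0, 7⟩, ⟨zt92, 0, 0, 0, 1⟩, ⟨zt93, 0, 0, 0, 0⟩, ⟨zt94, 0, 0, 0, 3⟩, ⟨zt97, 0, 0, 0, 15⟩, ⟨zt98, 0, 0, 0, 3⟩, ⟨zt99, 0, 0, 0, 1⟩, ⟨zt115, 0, 0, 0, 1⟩]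

def zh10 : List Cell := [⟨zt58, 0, 0, 0, 1⟩, ⟨zt87, 0, 0, 1, 2⟩, ⟨zt117, 0, 0, 1, 1⟩, ⟨zt13, 0, 0, 1, 1⟩, ⟨zt1, 0, 0, 0, 1⟩, ⟨zt2, 0, 0, 0, 1⟩, ⟨zt28, 0, 0, 0, 1⟩, ⟨zt29, 0, 0, 0, 1⟩, ⟨zt38, 0, 0, 0, 2⟩, ⟨zt39, 0, 0, 0, 2⟩, ⟨zt46, 0, 0, 0, 1⟩, ⟨zt47, 0, 0, 0, 1⟩, ⟨zt48, 0, 0, 0, 1⟩, ⟨zt54, 0, 0, 0, 2⟩, ⟨zt55, 0, 0, 0, 2⟩, ⟨zt56, 0, 0, 0, 2⟩, ⟨zt59, 0, 0, 0, 2⟩, ⟨zt76, 0, 0, 0, 2⟩, ⟨zt77, 0, 0, 0, 8⟩, ⟨zt78, 0, 0, 0, 8⟩, ⟨zt80, 0, 0, 0, 2⟩, ⟨zt85, 0, 0, 0, 1⟩, ⟨zt86, 0, 0, 0, 1⟩, ⟨zt89, 0, 0, 0, 2⟩, ⟨zt90, 0, 0, 0, 2⟩, ⟨zt91, 0, 0, 0, 2⟩, ⟨zt97, 0, 0, 0, 2⟩, ⟨zt98, 0, 0, 0, 2⟩, ⟨zt115, 0,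 0, 0, 1⟩]

def zh11 : List Cell := [⟨zt77, 2, 0, 1, 1⟩, ⟨zt81, 1, 2, 1, 1⟩, ⟨zt78, 1, 0, 3, 3⟩, ⟨zt87, 6, 0, 1, 1⟩, ⟨zt13, 1, 2, 1, 1⟩, ⟨zt28, 0, 1, 1, 1⟩, ⟨zt58, 0, 0, 1, 1⟩, ⟨zt117, 0, 0, 1, 1⟩]

def zh12 : List Cell := [⟨zt77, 0, 2, 1, 1⟩, ⟨zt81, 1, 2, 1, 1⟩, ⟨zt78, 1, 0, 3, 3⟩, ⟨zt87, 6, 0, 1, 1⟩, ⟨zt13, 1, 2, 1, 1⟩, ⟨zt28, 0, 1, 1, 1⟩, ⟨zt58, 0, 0, 1, 1⟩, ⟨zt117, 0, 0, 1, 1⟩]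

def zh13 : List Cell := [⟨zt77, 14, 0, 0, 1⟩, ⟨zt77, 6, 14, 1, 3⟩, ⟨zt87, 20, 30, 1, 1⟩, ⟨zt58, 3, 0, 1, 1⟩, ⟨zt117, 2, 0, 1, 1⟩, ⟨zt78, 7, 0, 1, 1⟩, ⟨zt81, 1, 2, 1, 1⟩, ⟨zt13, 1, 2, 1, 1⟩, ⟨zt28, 0, 1, 1, 1⟩]

def zh14 : List Cell := [⟨zt77, 9, 14, 1, 1⟩, ⟨zt117, 2, 6, 1, 1⟩, ⟨zt58, 7, 0, 1, 1⟩, ⟨zt78, 15, 0, 1, 1⟩, ⟨zt77, 14, 0, 2, 2⟩, ⟨zt87, 20, 30, 1, 1⟩, ⟨zt81, 1, 2, 1, 1⟩, ⟨zt13, 1, 2, 1, 1⟩, ⟨zt28, 0, 1, 1, 1⟩]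

def zh15 : List Cell := [⟨zt77, 6, 9, 1, 1⟩, ⟨zt117, 2, 6, 1, 1⟩, ⟨zt58, 7, 0, 1, 1⟩, ⟨zt78, 15, 0, 1, 1⟩, ⟨zt77, 14, 0, 2, 2⟩, ⟨zt87, 20, 30, 1, 1⟩, ⟨zt81, 1, 2, 1, 1⟩, ⟨zt13, 1, 2, 1, 1⟩, ⟨zt28, 0, 1, 1, 1⟩]

def zh16 : List Cell := [⟨zt77, 2, 6, 1, 3⟩, ⟨zt77, 6, 0, 0, 2⟩, ⟨zt58, 1, 0, 1, 1⟩, ⟨zt78, 3, 0, 1, 1⟩, ⟨zt87, 14, 0, 1, 1⟩, ⟨zt81, 1, 2, 1, 1⟩, ⟨zt13, 1, 2, 1, 1⟩, ⟨zt28, 0, 1, 1, 1⟩, ⟨zt117, 0, 0, 1, 1⟩]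

def zh17 : List Cell := [⟨zt87, 0, 2, 1, 1⟩, ⟨zt13, 1, 2, 1, 1⟩, ⟨zt28, 0, 1, 1, 1⟩, ⟨zt81, 1, 0, 1, 1⟩, ⟨zt77, 0, 0, 3, 3⟩, ⟨zt78, 0, 0, 1, 1⟩, ⟨zt58, 0, 0, 1, 1⟩, ⟨zt117, 0, 0, 1, 1⟩]

def zh18 : List Cell := [⟨zt77, 6, 0, 2, 2⟩, ⟨zt58, 1, 0, 1, 1⟩, ⟨zt78, 3, 0, 2, 2⟩, ⟨zt87, 14, 0, 1, 1⟩, ⟨zt81, 1, 2, 1, 1⟩, ⟨zt13, 1, 2, 1, 1⟩, ⟨zt28, 0, 1, 1, 1⟩, ⟨zt117, 0, 0, 1, 1⟩]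

def zh19 : List Cell := [⟨zt77, 14, 0, 1, 1⟩, ⟨zt87, 20, 30, 1, 1⟩, ⟨zt77, 4, 6, 1, 1⟩, ⟨zt58, 3, 0, 1, 1⟩, ⟨zt117, 2, 0, 1, 1⟩, ⟨zt78, 7, 0, 2, 2⟩, ⟨zt81, 1, 2, 1, 1⟩, ⟨zt13, 1, 2, 1, 1⟩, ⟨zt28, 0, 1, 1, 1⟩]

def zh20 : List Cell := [⟨zt77, 6, 14, 1, 1⟩, ⟨zt87, 20, 30, 1, 1⟩, ⟨zt77, 4, 6, 1, 1⟩, ⟨zt58, 3, 0, 1, 1⟩, ⟨zt117, 2, 0, 1, 1⟩, ⟨zt78, 7, 0, 2, 2⟩, ⟨zt81, 1, 2, 1, 1⟩, ⟨zt13, 1, 2, 1, 1⟩, ⟨zt28, 0, 1, 1, 1⟩]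

def zh21 : List Cell := [⟨zt77, 2, 4, 1, 1⟩, ⟨zt58, 3, 0, 1, 1⟩, ⟨zt117, 2, 0, 1, 1⟩, ⟨zt78, 7, 0, 2, 2⟩, ⟨zt87, 14, 30, 1, 1⟩, ⟨zt77, 6, 0, 1, 1⟩, ⟨zt81, 1, 2, 1, 1⟩, ⟨zt13, 1, 2, 1, 1⟩, ⟨zt28, 0, 1, 1, 1⟩]

def zh22 : List Cell := [⟨zt78, 3, 7, 1, 2⟩, ⟨zt78, 7, 0, 0, 1⟩, ⟨zt87, 14, 30, 1, 1⟩, ⟨zt77, 6, 0, 1, 1⟩, ⟨zt77, 2, 6, 1, 1⟩, ⟨zt58, 1, 0, 1, 1⟩, ⟨zt81, 1, 2, 1, 1⟩, ⟨zt13, 1, 2, 1, 1⟩, ⟨zt28, 0, 1, 1, 1⟩, ⟨zt117, 0, 0, 1, 1⟩]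

def zh23 : List Cell := [⟨zt77, 2, 6, 2, 2⟩, ⟨zt77, 6, 0, 0, 1⟩, ⟨zt58, 1, 0, 1, 1⟩, ⟨zt78, 3, 0, 2, 2⟩, ⟨zt87, 14, 0, 1, 1⟩, ⟨zt81, 1, 2, 1, 1⟩, ⟨zt13, 1, 2, 1, 1⟩, ⟨zt28, 0, 1, 1, 1⟩, ⟨zt117, 0, 0, 1, 1⟩]

def zh24 : List Cell := [⟨zt77, 0, 2, 1, 2⟩, ⟨zt77, 2, 0, 0, 1⟩, ⟨zt81, 1, 2, 1, 1⟩, ⟨zt78, 1, 0, 2, 2⟩, ⟨zt87, 6, 0, 1, 1⟩, ⟨zt13, 1, 2, 1, 1⟩, ⟨zt28, 0, 1, 1, 1⟩, ⟨zt58, 0, 0, 1, 1⟩, ⟨zt117, 0, 0, 1, 1⟩]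

def zh25 : List Cell := [⟨zt87, 0, 2, 1, 1⟩, ⟨zt13, 1, 2, 1, 1⟩, ⟨zt28, 0, 1, 1, 1⟩, ⟨zt81, 1, 0, 1, 1⟩, ⟨zt78, 0, 0, 2, 2⟩, ⟨zt58, 0, 0, 1, 1⟩, ⟨zt77, 0, 0, 2, 2⟩, ⟨zt117, 0, 0, 1, 1⟩]

def zh26 : List Cell := [⟨zt82, 0, 0, 1, 2⟩, ⟨zt58, 0, 0, 0, 1⟩, ⟨zt87, 0, 0, 1, 2⟩, ⟨zt117, 0, 0, 1, 1⟩, ⟨zt13, 0, 0, 1, 1⟩, ⟨zt1, 0, 0, 0, 1⟩, ⟨zt2, 0, 0, 0, 1⟩, ⟨zt28, 0, 0, 0, 1⟩, ⟨zt29, 0, 0, 0, 1⟩, ⟨zt38, 0, 0, 0, 2⟩, ⟨zt39, 0, 0, 0, 2⟩, ⟨zt46, 0, 0, 0, 1⟩, ⟨zt47, 0, 0, 0, 1⟩, ⟨zt48, 0, 0, 0, 1⟩, ⟨zt54, 0, 0, 0, 2⟩, ⟨zt55, 0, 0, 0, 2⟩, ⟨zt56, 0, 0, 0, 2⟩, ⟨zt59, 0, 0, 0, 2⟩, ⟨zt62, 0, 0, 0, 1⟩, ⟨zt76,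 0, 0, 0, 2⟩, ⟨zt77, 0, 0, 0, 8⟩, ⟨zt78, 0, 0, 0, 8⟩, ⟨zt79, 0, 0, 0, 2⟩, ⟨zt80, 0, 0, 0, 2⟩, ⟨zt81, 0, 0, 0, 2⟩, ⟨zt85, 0, 0, 0, 1⟩, ⟨zt86, 0, 0, 0, 1⟩, ⟨zt89, 0, 0, 0, 2⟩, ⟨zt90, 0, 0, 0, 2⟩, ⟨zt91, 0, 0, 0, 2⟩, ⟨zt97, 0, 0, 0, 2⟩, ⟨zt98, 0, 0, 0, 2⟩, ⟨zt115, 0, 0, 0, 1⟩]

def zh27 : List Cell := [⟨zt116, 0, 0, 1, 1⟩, ⟨zt117, 0, 0, 1, 1⟩, ⟨zt13, 0, 0, 1, 1⟩, ⟨zt1, 0, 0, 0, 1⟩, ⟨zt2, 0, 0, 0, 1⟩, ⟨zt27, 0, 0, 0, 1⟩, ⟨zt28, 0, 0, 0, 1⟩, ⟨zt29, 0, 0, 0, 1⟩, ⟨zt36, 0, 0, 0, 3⟩, ⟨zt37, 0, 0, 0, 1⟩, ⟨zt38, 0, 0, 0, 3⟩, ⟨zt39, 0, 0, 0, 15⟩, ⟨zt42, 0, 0, 0, 3⟩, ⟨zt43, 0, 0, 0, 0⟩, ⟨zt44, 0, 0, 0,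 3⟩, ⟨zt46, 0, 0, 0, 3⟩, ⟨zt47, 0, 0, 0, 0⟩, ⟨zt48, 0, 0, 0, 3⟩, ⟨zt49, 0, 0, 0, 3⟩, ⟨zt51, 0, 0, 0, 3⟩, ⟨zt53, 0, 0, 0, 1⟩, ⟨zt54, 0, 0, 0, 7⟩, ⟨zt55, 0, 0, 0, 0⟩, ⟨zt56, 0, 0, 0, 7⟩, ⟨zt58, 0, 0, 0, 3⟩, ⟨zt59, 0, 0, 0, 0⟩, ⟨zt60, 0, 0, 0, 3⟩, ⟨zt62, 0, 0, 0, 3⟩, ⟨zt63, 0, 0, 0, 3⟩, ⟨zt64, 0, 0, 0, 0⟩, ⟨zt65, 0, 0, 0, 3⟩, ⟨zt66, 0, 0, 0, 3⟩, ⟨zt67, 0, 0, 0, 0⟩, ⟨zt68, 0, 0, 0, 3⟩, ⟨zt69, 0, 0, 0, 3⟩, ⟨zt70, 0, 0, 0, 3⟩, ⟨zt71, 0, 0, 0, 0⟩, ⟨zt72, 0, 0, 0, 3⟩, ⟨zt73, 0, 0, 0, 0⟩, ⟨zt74, 0, 0, 0, 3⟩, ⟨zt75, 0, 0, 0, 3⟩, ⟨zt76, 0, 0, 0, 3⟩, ⟨zt77, 0, 0, 0, 15⟩, ⟨zt78, 0, 0, 0, 15⟩, ⟨zt79, 0,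 0, 0, 3⟩, ⟨zt80, 0, 0, 0, 3⟩, ⟨zt81, 0, 0, 0, 0⟩, ⟨zt82, 0, 0, 0, 3⟩, ⟨zt84, 0, 0, 0, 3⟩, ⟨zt85, 0, 0, 0, 3⟩, ⟨zt86, 0, 0, 0, 0⟩, ⟨zt87, 0, 0, 0, 3⟩, ⟨zt89, 0, 0, 0, 7⟩, ⟨zt90, 0, 0, 0, 0⟩, ⟨zt91, 0, 0, 0, 7⟩, ⟨zt92, 0, 0, 0, 1⟩, ⟨zt93, 0, 0, 0, 0⟩, ⟨zt94, 0, 0, 0, 3⟩, ⟨zt97, 0, 0, 0, 15⟩, ⟨zt98, 0, 0, 0, 3⟩, ⟨zt99, 0, 0, 0, 1⟩, ⟨zt115, 0, 0, 0, 1⟩]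

def zh28 : List Cell := [⟨zt61, 0, 0, 1, 3⟩, ⟨zt117, 0, 0, 0, 1⟩, ⟨zt13, 0, 0, 1, 2⟩, ⟨zt1, 0, 0, 0, 2⟩, ⟨zt2, 0, 0, 0, 2⟩, ⟨zt14, 0, 0, 0, 1⟩, ⟨zt27, 0, 0, 0, 2⟩, ⟨zt28, 0, 0, 0, 2⟩, ⟨zt29, 0, 0, 0, 2⟩, ⟨zt36, 0, 0, 0, 3⟩, ⟨zt37, 0, 0, 0, 1⟩, ⟨zt38, 0, 0, 0, 3⟩, ⟨zt39, 0, 0, 0, 15⟩, ⟨zt42, 0, 0, 0, 3⟩, ⟨zt43, 0, 0, 0, 0⟩, ⟨zt44, 0, 0, 0, 3⟩, ⟨zt46, 0, 0, 0, 3⟩, ⟨zt47, 0, 0, 0, 0⟩, ⟨zt48, 0, 0, 0, 3⟩, ⟨zt49, 0, 0, 0, 3⟩, ⟨zt51, 0, 0, 0, 3⟩, ⟨zt53, 0, 0, 0, 1⟩, ⟨zt54, 0, 0, 0, 7⟩, ⟨zt55, 0, 0, 0, 0⟩, ⟨zt56, 0, 0, 0, 7⟩, ⟨zt58, 0, 0, 0, 3⟩, ⟨zt59, 0, 0, 0, 0⟩, ⟨zt60, 0, 0, 0, 3⟩, ⟨zt62, 0,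 0, 0, 3⟩, ⟨zt63, 0, 0, 0, 3⟩, ⟨zt64, 0, 0, 0, 0⟩, ⟨zt65, 0, 0, 0, 3⟩, ⟨zt66, 0, 0, 0, 3⟩, ⟨zt67, 0, 0, 0, 0⟩, ⟨zt68, 0, 0, 0, 3⟩, ⟨zt69, 0, 0, 0, 3⟩, ⟨zt70, 0, 0, 0, 3⟩, ⟨zt71, 0, 0, 0, 0⟩, ⟨zt72, 0, 0, 0, 3⟩, ⟨zt73, 0, 0, 0, 0⟩, ⟨zt74, 0, 0, 0, 3⟩, ⟨zt75, 0, 0, 0, 3⟩, ⟨zt76, 0, 0, 0, 3⟩, ⟨zt77, 0, 0, 0, 15⟩, ⟨zt78, 0, 0, 0, 15⟩, ⟨zt79, 0, 0, 0, 3⟩, ⟨zt80, 0, 0, 0, 3⟩, ⟨zt81, 0, 0, 0, 0⟩, ⟨zt82, 0, 0, 0, 3⟩, ⟨zt84, 0, 0, 0, 3⟩, ⟨zt85, 0, 0, 0, 3⟩, ⟨zt86, 0, 0, 0, 0⟩, ⟨zt87, 0, 0, 0, 3⟩, ⟨zt89, 0, 0, 0, 7⟩, ⟨zt90, 0, 0, 0, 0⟩, ⟨zt91, 0, 0, 0, 7⟩, ⟨zt92, 0, 0, 0, 1⟩, ⟨zt93, 0, 0, 0, 0⟩, ⟨zt94,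 0, 0, 0, 3⟩, ⟨zt97, 0, 0, 0, 15⟩, ⟨zt98, 0, 0, 0, 3⟩, ⟨zt99, 0, 0, 0, 1⟩, ⟨zt115, 0, 0, 0, 2⟩, ⟨zt116, 0, 0, 0, 2⟩, ⟨zt126, 0, 0, 0, 1⟩]

def zh29 : List Cell := [⟨zt0, 0, 0, 1, 1⟩, ⟨zt1, 0, 0, 0, 3⟩, ⟨zt2, 0, 0, 0, 15⟩, ⟨zt5, 0, 0, 0, 3⟩, ⟨zt6, 0, 0, 0, 0⟩, ⟨zt8, 0, 0, 0, 3⟩, ⟨zt9, 0, 0, 0, 0⟩, ⟨zt13, 0, 0, 0, 7⟩, ⟨zt14, 0, 0, 0, 0⟩, ⟨zt22, 0, 0, 0, 3⟩, ⟨zt24, 0, 0, 0, 3⟩, ⟨zt26, 0, 0, 0, 3⟩, ⟨zt27, 0, 0, 0, 15⟩, ⟨zt28, 0, 0, 0, 0⟩, ⟨zt29, 0, 0, 0, 15⟩, ⟨zt30, 0, 0, 0, 3⟩, ⟨zt36, 0, 0, 0, 3⟩, ⟨zt37, 0, 0, 0, 1⟩, ⟨zt38, 0, 0, 0, 3⟩, ⟨zt39, 0, 0, 0, 15⟩, ⟨zt42, 0, 0, 0, 3⟩, ⟨zt43, 0, 0, 0,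 0⟩, ⟨zt44, 0, 0, 0, 3⟩, ⟨zt46, 0, 0, 0, 3⟩, ⟨zt47, 0, 0, 0, 0⟩, ⟨zt48, 0, 0, 0, 3⟩, ⟨zt49, 0, 0, 0, 3⟩, ⟨zt50, 0, 0, 0, 0⟩, ⟨zt51, 0, 0, 0, 3⟩, ⟨zt52, 0, 0, 0, 0⟩, ⟨zt53, 0, 0, 0, 1⟩, ⟨zt54, 0, 0, 0, 7⟩, ⟨zt55, 0, 0, 0, 0⟩, ⟨zt56, 0, 0, 0, 7⟩, ⟨zt58, 0, 0, 0, 3⟩, ⟨zt59, 0, 0, 0, 0⟩, ⟨zt60, 0, 0, 0, 3⟩, ⟨zt61, 0, 0, 0, 3⟩, ⟨zt62, 0, 0, 0, 3⟩, ⟨zt63, 0, 0, 0, 3⟩, ⟨zt64, 0, 0, 0, 0⟩, ⟨zt65, 0, 0, 0, 3⟩, ⟨zt66, 0, 0, 0, 3⟩, ⟨zt67, 0, 0, 0, 0⟩, ⟨zt68, 0, 0, 0, 3⟩, ⟨zt69, 0, 0, 0, 3⟩, ⟨zt70, 0, 0, 0, 3⟩, ⟨zt71, 0, 0, 0, 0⟩, ⟨zt72, 0, 0, 0, 3⟩, ⟨zt73, 0, 0, 0, 0⟩, ⟨zt74, 0, 0, 0, 3⟩, ⟨zt75, 0, 0,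 0, 3⟩, ⟨zt76, 0, 0, 0, 3⟩, ⟨zt77, 0, 0, 0, 15⟩, ⟨zt78, 0, 0, 0, 15⟩, ⟨zt79, 0, 0, 0, 3⟩, ⟨zt80, 0, 0, 0, 3⟩, ⟨zt81, 0, 0, 0, 0⟩, ⟨zt82, 0, 0, 0, 3⟩, ⟨zt84, 0, 0, 0, 3⟩, ⟨zt85, 0, 0, 0, 3⟩, ⟨zt86, 0, 0, 0, 0⟩, ⟨zt87, 0, 0, 0, 3⟩, ⟨zt89, 0, 0, 0, 7⟩, ⟨zt90, 0, 0, 0, 0⟩, ⟨zt91, 0, 0, 0, 7⟩, ⟨zt92, 0, 0, 0, 1⟩, ⟨zt93, 0, 0, 0, 0⟩, ⟨zt94, 0, 0, 0, 3⟩, ⟨zt97, 0, 0, 0, 15⟩, ⟨zt98, 0, 0, 0, 3⟩, ⟨zt99, 0, 0, 0, 1⟩, ⟨zt101, 0, 0, 0, 0⟩, ⟨zt103, 0, 0, 0, 0⟩, ⟨zt105, 0, 0, 0, 3⟩, ⟨zt106, 0, 0, 0, 0⟩, ⟨zt109, 0, 0, 0, 3⟩, ⟨zt110, 0, 0, 0, 3⟩, ⟨zt112, 0, 0, 0, 3⟩, ⟨zt115, 0, 0, 0, 15⟩, ⟨zt116, 0, 0, 0,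 0⟩, ⟨zt117, 0, 0, 0, 15⟩, ⟨zt119, 0, 0, 0, 3⟩, ⟨zt120, 0, 0, 0, 0⟩, ⟨zt123, 0, 0, 0, 0⟩, ⟨zt124, 0, 0, 0, 3⟩, ⟨zt126, 0, 0, 0, 0⟩, ⟨zt127, 0, 0, 0, 7⟩, ⟨zt129, 0, 0, 0, 0⟩, ⟨zt133, 0, 0, 0, 15⟩]

def zh30 : List Cell := [⟨zt118, 0, 0, 1, 3⟩, ⟨zt0, 0, 0, 0, 1⟩, ⟨zt1, 0, 0, 0, 3⟩, ⟨zt2, 0, 0, 0, 15⟩, ⟨zt5, 0, 0, 0, 3⟩, ⟨zt6, 0, 0, 0, 0⟩, ⟨zt8, 0, 0, 0, 3⟩, ⟨zt9, 0, 0, 0, 0⟩, ⟨zt13, 0, 0, 0, 7⟩, ⟨zt14, 0, 0, 0, 0⟩, ⟨zt22, 0, 0, 0, 3⟩, ⟨zt24, 0, 0, 0, 3⟩, ⟨zt26, 0, 0, 0, 3⟩, ⟨zt27, 0, 0, 0, 15⟩, ⟨zt28, 0, 0, 0, 0⟩, ⟨zt29, 0, 0, 0, 15⟩, ⟨zt30, 0, 0, 0, 3⟩, ⟨zt36, 0, 0, 0, 3⟩, ⟨zt37, 0, 0, 0, 1⟩,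 ⟨zt38, 0, 0, 0, 3⟩, ⟨zt39, 0, 0, 0, 15⟩, ⟨zt42, 0, 0, 0, 3⟩, ⟨zt43, 0, 0, 0, 0⟩, ⟨zt44, 0, 0, 0, 3⟩, ⟨zt46, 0, 0, 0, 3⟩, ⟨zt47, 0, 0, 0, 0⟩, ⟨zt48, 0, 0, 0, 3⟩, ⟨zt49, 0, 0, 0, 3⟩, ⟨zt50, 0, 0, 0, 0⟩, ⟨zt51, 0, 0, 0, 3⟩, ⟨zt52, 0, 0, 0, 0⟩, ⟨zt53, 0, 0, 0, 1⟩, ⟨zt54, 0, 0, 0, 7⟩, ⟨zt55, 0, 0, 0, 0⟩, ⟨zt56, 0, 0, 0, 7⟩, ⟨zt58, 0, 0, 0, 3⟩, ⟨zt59, 0, 0, 0, 0⟩, ⟨zt60, 0, 0, 0, 3⟩, ⟨zt61, 0, 0, 0, 3⟩, ⟨zt62, 0, 0, 0, 3⟩, ⟨zt63, 0, 0, 0, 3⟩, ⟨zt64, 0, 0, 0, 0⟩, ⟨zt65, 0, 0, 0, 3⟩, ⟨zt66, 0, 0, 0, 3⟩, ⟨zt67, 0, 0, 0, 0⟩, ⟨zt68, 0, 0, 0, 3⟩, ⟨zt69, 0, 0, 0, 3⟩, ⟨zt70, 0, 0, 0, 3⟩, ⟨zt71, 0, 0, 0,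 0⟩, ⟨zt72, 0, 0, 0, 3⟩, ⟨zt73, 0, 0, 0, 0⟩, ⟨zt74, 0, 0, 0, 3⟩, ⟨zt75, 0, 0, 0, 3⟩, ⟨zt76, 0, 0, 0, 3⟩, ⟨zt77, 0, 0, 0, 15⟩, ⟨zt78, 0, 0, 0, 15⟩, ⟨zt79, 0, 0, 0, 3⟩, ⟨zt80, 0, 0, 0, 3⟩, ⟨zt81, 0, 0, 0, 0⟩, ⟨zt82, 0, 0, 0, 3⟩, ⟨zt84, 0, 0, 0, 3⟩, ⟨zt85, 0, 0, 0, 3⟩, ⟨zt86, 0, 0, 0, 0⟩, ⟨zt87, 0, 0, 0, 3⟩, ⟨zt89, 0, 0, 0, 7⟩, ⟨zt90, 0, 0, 0, 0⟩, ⟨zt91, 0, 0, 0, 7⟩, ⟨zt92, 0, 0, 0, 1⟩, ⟨zt93, 0, 0, 0, 0⟩, ⟨zt94, 0, 0, 0, 3⟩, ⟨zt97, 0, 0, 0, 15⟩, ⟨zt98, 0, 0, 0, 3⟩, ⟨zt99, 0, 0, 0, 1⟩, ⟨zt101, 0, 0, 0, 0⟩, ⟨zt103, 0, 0, 0, 0⟩, ⟨zt105, 0, 0, 0, 3⟩, ⟨zt106, 0, 0, 0, 0⟩, ⟨zt107, 0, 0, 0, 3⟩, ⟨zt108,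 0, 0, 0, 0⟩, ⟨zt109, 0, 0, 0, 3⟩, ⟨zt110, 0, 0, 0, 3⟩, ⟨zt111, 0, 0, 0, 0⟩, ⟨zt112, 0, 0, 0, 3⟩, ⟨zt115, 0, 0, 0, 15⟩, ⟨zt116, 0, 0, 0, 0⟩, ⟨zt117, 0, 0, 0, 15⟩, ⟨zt119, 0, 0, 0, 3⟩, ⟨zt120, 0, 0, 0, 0⟩, ⟨zt121, 0, 0, 0, 3⟩, ⟨zt123, 0, 0, 0, 0⟩, ⟨zt124, 0, 0, 0, 3⟩, ⟨zt126, 0, 0, 0, 0⟩, ⟨zt127, 0, 0, 0, 7⟩, ⟨zt129, 0, 0, 0, 0⟩, ⟨zt130, 0, 0, 0, 3⟩, ⟨zt133, 0, 0, 0, 15⟩]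

def zh31 : List Cell := [⟨zt135, 0, 0, 1, 1⟩, ⟨zt0, 0, 0, 0, 1⟩, ⟨zt1, 0, 0, 0, 3⟩, ⟨zt2, 0, 0, 0, 15⟩, ⟨zt5, 0, 0, 0, 3⟩, ⟨zt6, 0, 0, 0, 0⟩, ⟨zt8, 0, 0, 0, 3⟩, ⟨zt9, 0, 0, 0, 0⟩, ⟨zt12, 0, 0, 0, 1⟩, ⟨zt13, 0, 0, 0, 7⟩, ⟨zt14, 0, 0, 0, 0⟩, ⟨zt16, 0, 0, 0, 3⟩, ⟨zt22, 0, 0, 0, 3⟩, ⟨zt24, 0, 0, 0, 3⟩, ⟨zt26, 0, 0, 0, 3⟩, ⟨zt27, 0, 0, 0, 15⟩, ⟨zt28, 0, 0, 0, 0⟩, ⟨zt29, 0, 0, 0, 15⟩, ⟨zt30, 0, 0, 0, 3⟩, ⟨zt36, 0, 0, 0, 3⟩, ⟨zt37, 0, 0, 0, 1⟩, ⟨zt38, 0, 0, 0, 3⟩, ⟨zt39, 0, 0, 0, 15⟩, ⟨zt42, 0, 0, 0, 3⟩, ⟨zt43, 0, 0, 0, 0⟩, ⟨zt44, 0, 0, 0, 3⟩, ⟨zt46, 0, 0, 0, 3⟩, ⟨zt47, 0, 0, 0, 0⟩, ⟨zt48, 0, 0,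 0, 3⟩, ⟨zt49, 0, 0, 0, 3⟩, ⟨zt50, 0, 0, 0, 0⟩, ⟨zt51, 0, 0, 0, 3⟩, ⟨zt52, 0, 0, 0, 0⟩, ⟨zt53, 0, 0, 0, 1⟩, ⟨zt54, 0, 0, 0, 7⟩, ⟨zt55, 0, 0, 0, 0⟩, ⟨zt56, 0, 0, 0, 7⟩, ⟨zt58, 0, 0, 0, 3⟩, ⟨zt59, 0, 0, 0, 0⟩, ⟨zt60, 0, 0, 0, 3⟩, ⟨zt61, 0, 0, 0, 3⟩, ⟨zt62, 0, 0, 0, 3⟩, ⟨zt63, 0, 0, 0, 3⟩, ⟨zt64, 0, 0, 0, 0⟩, ⟨zt65, 0, 0, 0, 3⟩, ⟨zt66, 0, 0, 0, 3⟩, ⟨zt67, 0, 0, 0, 0⟩, ⟨zt68, 0, 0, 0, 3⟩, ⟨zt69, 0, 0, 0, 3⟩, ⟨zt70, 0, 0, 0, 3⟩, ⟨zt71, 0, 0, 0, 0⟩, ⟨zt72, 0, 0, 0, 3⟩, ⟨zt73, 0, 0, 0, 0⟩, ⟨zt74, 0, 0, 0, 3⟩, ⟨zt75, 0, 0, 0, 3⟩, ⟨zt76, 0, 0, 0, 3⟩, ⟨zt77, 0, 0, 0, 15⟩, ⟨zt78, 0, 0, 0, 15⟩, ⟨zt79,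 0, 0, 0, 3⟩, ⟨zt80, 0, 0, 0, 3⟩, ⟨zt81, 0, 0, 0, 0⟩, ⟨zt82, 0, 0, 0, 3⟩, ⟨zt84, 0, 0, 0, 3⟩, ⟨zt85, 0, 0, 0, 3⟩, ⟨zt86, 0, 0, 0, 0⟩, ⟨zt87, 0, 0, 0, 3⟩, ⟨zt89, 0, 0, 0, 7⟩, ⟨zt90, 0, 0, 0, 0⟩, ⟨zt91, 0, 0, 0, 7⟩, ⟨zt92, 0, 0, 0, 1⟩, ⟨zt93, 0, 0, 0, 0⟩, ⟨zt94, 0, 0, 0, 3⟩, ⟨zt97, 0, 0, 0, 15⟩, ⟨zt98, 0, 0, 0, 3⟩, ⟨zt99, 0, 0, 0, 1⟩, ⟨zt101, 0, 0, 0, 0⟩, ⟨zt103, 0, 0, 0, 0⟩, ⟨zt105, 0, 0, 0, 3⟩, ⟨zt106, 0, 0, 0, 0⟩, ⟨zt107, 0, 0, 0, 3⟩, ⟨zt108, 0, 0, 0, 0⟩, ⟨zt109, 0, 0, 0, 3⟩, ⟨zt110, 0, 0, 0, 3⟩, ⟨zt111, 0, 0, 0, 0⟩, ⟨zt112, 0, 0, 0, 3⟩, ⟨zt113, 0, 0, 0, 3⟩, ⟨zt114, 0, 0, 0, 3⟩, ⟨zt115, 0,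 0, 0, 15⟩, ⟨zt116, 0, 0, 0, 0⟩, ⟨zt117, 0, 0, 0, 15⟩, ⟨zt118, 0, 0, 0, 3⟩, ⟨zt119, 0, 0, 0, 3⟩, ⟨zt120, 0, 0, 0, 0⟩, ⟨zt121, 0, 0, 0, 3⟩, ⟨zt123, 0, 0, 0, 0⟩, ⟨zt124, 0, 0, 0, 3⟩, ⟨zt126, 0, 0, 0, 0⟩, ⟨zt127, 0, 0, 0, 7⟩, ⟨zt128, 0, 0, 0, 1⟩, ⟨zt129, 0, 0, 0, 0⟩, ⟨zt130, 0, 0, 0, 3⟩, ⟨zt133, 0, 0, 0, 15⟩]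

end Cfsg.Agent.SC.Ar
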