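import Mathlib

/-!
# A verified branch and bound checker for degree equations of a block

An item is a type `t` (integer feature vectors and a least degree `D0`) with a number `y`; its degree is
`D0 + 64 y`.  The checker refutes a system of linear equations in the features, the degrees and the
inverse degrees.
-/

noncomputable section

namespace Cfsg.Agent.SC.Ar

structure Ty where
  g : List Int
  e : List Int
  c : List Int
  d : Nat
deriving DecidableEq

/-- `hi = 0` and `cmax = 0` mean "no bound"; otherwise `y < hi`, `count ≤ cmax`. -/
structure Cell where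
  t : Ty
  lo : Nat
  hi : Nat
  cmin : Nat
  cmax : Nat
deriving DecidableEq

/-- The coordinate `q` of the inverse degree equations is only an inequality. -/
structure Rhs where
  g : List Int
  e : List Int
  c : List Int
  q : Nat

def dot : List Int → List Int → Int
  | a :: l, b :: m => Int.add (Int.mul a b) (dot l m)
  | _, _ => 0

def fN {α : Type} (n : Nat) (k : Nat → α) : α :=
  match n with
  | 0 => k 0
  | n + 1 => k (Nat.succ n)

def fI {α : Type} (n : Int) (k : Int → α) : α :=
  match n with
  | Int.ofNat n => fN n fun n => k (Int.ofNat n)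
  | Int.negSucc n => fN n fun n => k (Int.negSucc n)

@[simp] theorem fN_eq {α : Type} (n : Nat) (k : Nat → α) : fN n k = k n := by cases n <;> rfl
@[simp] theorem fI_eq {α : Type} (n : Int) (k : Int → α) : fI n k = k n := by
  cases n <;> simp [fI]

def imin (a b : Int) : Int := fI a fun a => fI b fun b => bif Int.ble' a b then a else b

def val (al be ga : Int) (d y : Nat) : Int :=
  fN (Nat.add d (Nat.mul 64 y)) fun D =>
    Int.add (Int.add al (Int.mul be (Int.ofNat D))) (Int.ediv ga (Int.ofNat D))

/-- Minimum of `val` over `lo ≤ y ≤ lo + n`. -/
def loop (al be ga : Int) (d lo : Nat) : Nat → Int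
  | 0 => val al be ga d lo
  | n + 1 => imin (val al be ga d (Nat.add lo (Nat.succ n))) (loop al be ga d lo n)

def fin (al be ga : Int) (d lo n : Nat) : Int :=
  bif Int.ble' ga 0 then imin (val al be ga d lo) (val al be ga d (Nat.add lo n))
  else loop al be ga d lo n

/-- Contribution of a cell with lower bound `phi`. -/
def contrib (c : Cell) (phi : Int) : Option Int :=
  bif Int.ble' 0 phi then some (Int.mul phi (Int.ofNat c.cmin))
  else bif Nat.beq c.cmax 0 then none else some (Int.mul phi (Int.ofNat c.cmax))

def cellBound (mu be ga : List Int) (c : Cell) : Option Int :=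
  fI (dot mu c.t.g) fun al => fI (dot be c.t.e) fun b => fI (dot ga c.t.c) fun g =>
    bif Nat.beq c.hi 0 then
      bif Int.ble' 0 b then
        fI (imin (fin al b g c.t.d c.lo 6)
          (Int.add al (Int.mul b (Int.ofNat (Nat.add c.t.d (Nat.mul 64 (Nat.add c.lo 6)))))))
          (contrib c)
      else none
    else fI (fin al b g c.t.d c.lo (Nat.sub c.hi (Nat.succ c.lo))) (contrib c)

/-- `acc` plus the sum of the bounds is positive. -/
def leaf (mu be ga : List Int) : List Cell → Int → Bool
  | [], acc => Int.ble' 1 acc
  | c :: cs, acc =>
    match cellBound mu be ga c with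
    | none => false
    | some v => fI (Int.add acc v) fun a => leaf mu be ga cs a

def decode {α : Type} : Nat → Nat → (List Int → Nat → α) → α
  | 0, x, k => k [] x
  | n + 1, x, k => fI (Int.subNatNat (Nat.mod x 281474976710656) 140737488355328) fun v =>
      fN (Nat.div x 281474976710656) fun x' => decode n x' fun l r => k (v :: l) r

def pick {α : Type} : List Cell → Nat → (Cell → List Cell → α) → α → α
  | [], _, _, z => z
  | c :: cs, 0, k, _ => k c cs
  | c :: cs, n + 1, k, z => pick cs n (fun a l => k a (c :: l)) z

def unit : Nat → List Int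
  | 0 => [1]
  | n + 1 => 0 :: unit n

/-- The slack, provided all coefficients are nonnegative. -/
def slack (mu : List Int) : List Cell → Int → Option Int
  | [], acc => some acc
  | c :: cs, acc => fI (dot mu c.t.g) fun a =>
      bif Int.ble' 0 a then fI (Int.sub acc (Int.mul a (Int.ofNat c.cmin))) fun z => slack mu cs z
      else none

def tight {α : Type} (mu : List Int) (sl : Int) : List Cell → (List Cell → α) → α
  | [], k => k []
  | c :: cs, k => fI (dot mu c.t.g) fun a =>
      bif Int.ble' a 0 then tight mu sl cs fun l => k (c :: l)
      else fN (Nat.add c.cmin (Int.toNat (Int.ediv sl a))) fun m =>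
        bif Nat.beq m 0 then tight mu sl cs k
        else bif (Nat.beq c.cmax 0 || Nat.ble m c.cmax) then
          tight mu sl cs fun l => k (⟨c.t, c.lo, c.hi, c.cmin, m⟩ :: l)
        else tight mu sl cs fun l => k (c :: l)

abbrev Out := Option (List (List Cell) × List Nat)

def both (a : Out) (f : List Nat → Out) : Out :=
  match a with
  | none => none
  | some (h, s) =>
    match f s with
    | none => none
    | some (h', s') => some (h ++ h', s')

def go (R : Rhs) : Nat → List Cell → List Nat → Out
  | 0, _, _ => none
  | _, _, [] => none
  | f + 1, cs, x :: s =>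
    fN (Nat.div x 4) fun z =>
    match Nat.mod x 4 with
    | 0 => decode R.g.length z fun mu z => decode R.e.length z fun be z => decode R.c.length z fun ga _ =>
        bif (Int.ble' 0 (dot ga (unit R.q)) &&
          leaf mu be ga cs (Int.neg (Int.add (Int.add (dot mu R.g) (dot be R.e)) (dot ga R.c))))
        then some ([], s) else none
    | 1 => fN (Nat.div z 1024) fun k => pick cs (Nat.mod z 1024) (fun c r =>
        both (bif Nat.beq k 0 then go R f r s else go R f (⟨c.t, c.lo, c.hi, c.cmin, k⟩ :: r) s)
          (go R f (⟨c.t, c.lo, c.hi, Nat.succ k, c.cmax⟩ :: r))) none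
    | 2 => fN (Nat.succ (Nat.div z 1024)) fun m => pick cs (Nat.mod z 1024) (fun c r =>
        both (go R f (⟨c.t, m, c.hi, c.cmin, c.cmax⟩ :: r) s)
          (bif Nat.beq c.cmax 1 then go R f (⟨c.t, c.lo, m, 1, 1⟩ :: r)
           else fN (Nat.pred c.cmax) fun q =>
             go R f (⟨c.t, c.lo, m, 1, c.cmax⟩ :: ⟨c.t, m, c.hi, 0, q⟩ :: r))) none
    | _ => bif Nat.beq z 100 then some ([cs], s) else
        match slack (unit z) cs (dot (unit z) R.g) with
        | none => none
        | some sl => fI sl fun sl => tight (unit z) sl cs fun l => go R f l s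

def done (a : Out) : Bool :=
  match a with
  | some ([], []) => true
  | _ => false

end Cfsg.Agent.SC.Ar
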