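import Cfsg.Agent.Lib.SC.ArSound
import Cfsg.Agent.Lib.SC.ArAT
import Cfsg.Agent.Lib.SC.ArAH0
import Cfsg.Agent.Lib.SC.ArAH1
import Cfsg.Agent.Lib.SC.ArAH2
import Cfsg.Agent.Lib.SC.ArAH3

/-!
# The degree equations of the principal block have no solution (automizer of order 15)
-/

namespace Cfsg.Agent.SC.Ar

open Finset

theorem z_false {m : Multiset Item} (hE : Eqs zR m) (hm : ∀ i ∈ m, i.1 ∈ ztypes) : False := by
  obtain ⟨x, hx', hx⟩ := go_sound hE _ _ _ _ _ ztop_ok (sat_init ztypes m hm)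
  simp only [List.mem_cons, List.not_mem_nil, or_false] at hx'
  rcases hx' with rfl | rfl | rfl | rfl | rfl | rfl | rfl | rfl | rfl | rfl | rfl | rfl | rfl | rfl | rfl | rfl | rfl | rfl | rfl | rfl | rfl | rfl | rfl | rfl | rfl | rfl | rfl | rfl | rfl | rfl | rfl | rfl
  exacts [done_sound hE zok0 hx, done_sound hE zok1 hx, done_sound hE zok2 hx, done_sound hE zok3 hx, done_sound hE zok4 hx, done_sound hE zok5 hx, done_sound hE zok6 hx, done_sound hE zok7 hx, done_sound hE zok8 hx, done_sound hE zok9 hx, done_sound hE zok10 hx, done_sound hE zok11 hx, done_sound hE zok12 hx, done_sound hE zok13 hx, done_sound hE zok14 hx, done_sound hE zok15 hx, done_sound hE zok16 hx, done_sound hE zok17 hx, done_sound hE zok18 hx, done_sound hE zok19 hx, done_sound hE zok20 hx, done_sound hE zok21 hx, done_sound hE zok22 hx, done_sound hE zok23 hx, done_sound hE zok24 hx, done_sound hE zok25 hx, done_sound hE zok26 hx, done_sound hE zok27 hx, done_sound hE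 zok28 hx, done_sound hE zok29 hx, done_sound hE zok30 hx, done_sound hE zok31 hx]

def key (b c d e : ℤ) : ℤ := ((b * 8 + c) * 8 + d) * 8 + e

/-- The size of the orbit for its least member, zero for the other members. -/
def wt (b c d e : ℤ) : ℤ :=
  if key b c d e ≤ key d b e c ∧ key b c d e ≤ key e d c b ∧ key b c d e ≤ key c e b d then
    (if key b c d e = key d b e c then 1 else if key b c d e = key e d c b then 2 else 4)
  else 0

def y0 (s t : ℤ) : ℤ := if t = 0 ∧ 1 ≤ s then 0 else max 1 (max (-t) ((t - s + 4) / 4))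

def mkTy (a b c d e t : ℤ) : Ty :=
  ⟨[wt b c d e * (a * a), wt b c d e * (a * (b + c + d + e)),
    wt b c d e * (b * b + c * c + d * d + e * e), wt b c d e * ((b + e) * (c + d)),
    wt b c d e * (b * e + c * d), wt b c d e * (t * t), wt b c d e * (t * a),
    wt b c d e * (t * (b + c + d + e))],
   [wt b c d e * a, wt b c d e * (b + c + d + e), wt b c d e * t],
   [wt b c d e * ((5 * t - 4 * (a + b + c + d + e)) ^ 2 * t),
    wt b c d e * ((5 * t - 4 * (a + b + c + d + e)) ^ 2 * (5 * a - (a + b + c + d + e))),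
    wt b c d e * ((5 * t - 4 * (a + b + c + d + e)) ^ 2 * a)],
   (64 * y0 (a + b + c + d + e) t - 11 * t + 12 * (a + b + c + d + e)).toNat⟩

def qf (a b c d e t : ℤ) : ℤ :=
  56 * a * a + 47 * (b * b + c * c + d * d + e * e) + (b + c + d + e) * (b + c + d + e) + 28 * t * t
    - 6 * a * (b + c + d + e) - 16 * a * t - 26 * t * (b + c + d + e)

def l5 : List ℤ := [-2, -1, 0, 1, 2]

def l7 : List ℤ := [-3, -2, -1, 0, 1, 2, 3]

theorem box_wt : (l5.all fun b => l5.all fun c => l5.all fun d => l5.all fun e =>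
    decide (wt b c d e + wt d b e c + wt e d c b + wt c e b d = 4)) = true := by decide +kernel

theorem box_ty : (l5.all fun b => l5.all fun c => l5.all fun d => l5.all fun e =>
    decide (wt b c d e = 0) || l5.all fun a => l7.all fun t =>
      decide (5 * t - 4 * (a + b + c + d + e) = 0) || (decide (188 < qf a b c d e t) ||
        (decide (mkTy a b c d e t ∈ ztypes) &&
          decide (0 < 64 * y0 (a + b + c + d + e) t - 11 * t + 12 * (a + b + c + d + e))))) = true := by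
  decide +kernel

theorem mem_l5 {x : ℤ} (h : x * x ≤ 5) : x ∈ l5 := by
  have h1 : -3 < x := by nlinarith
  have h2 : x < 3 := by nlinarith
  simp only [l5, List.mem_cons, List.not_mem_nil]
  omega

theorem mem_l7 {x : ℤ} (h : x * x ≤ 15) : x ∈ l7 := by
  have h1 : -4 < x := by nlinarith
  have h2 : x < 4 := by nlinarith
  simp only [l7, List.mem_cons, List.not_mem_nil]
  omega

theorem le_of_sq_le {q : ℤ} (h : q ^ 2 ≤ 188 * q) : q ≤ 188 := by nlinarith

theorem y0_le {s t y : ℤ} (h0 : 0 ≤ y) (h1 : 0 ≤ t + y) (h3 : 1 ≤ s - t + 4 * y)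
    (hW : 1 ≤ y ∨ t + y = 0) : y0 s t ≤ y := by
  unfold y0
  split_ifs with h
  · exact h0
  · omega

section

variable {ι : Type*} [Fintype ι] [DecidableEq ι]

theorem sum_wt {K : Type*} [Field K] [CharZero K] {b c d e : ι → ℤ} (σ : Equiv.Perm ι)
    (hb : ∀ i, b (σ i) = d i) (hc : ∀ i, c (σ i) = b i) (hd : ∀ i, d (σ i) = e i)
    (he : ∀ i, e (σ i) = c i)
    (h4 : ∀ i, wt (b i) (c i) (d i) (e i) + wt (d i) (b i) (e i) (c i) + wt (e i) (d i) (c i) (b i) +
      wt (c i) (e i) (b i) (d i) = 4)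
    (F : ι → K) (hF : ∀ i, F (σ i) = F i) :
    ∑ i, (wt (b i) (c i) (d i) (e i) : K) * F i = ∑ i, F i := by
  have h1 := (Equiv.sum_comp σ fun i => (wt (b i) (c i) (d i) (e i) : K) * F i).symm
  simp only [hb, hc, hd, he, hF] at h1
  have h2 := (Equiv.sum_comp σ fun i => (wt (d i) (b i) (e i) (c i) : K) * F i).symm
  simp only [hb, hc, hd, he, hF] at h2
  have h3 := (Equiv.sum_comp σ fun i => (wt (e i) (d i) (c i) (b i) : K) * F i).symm
  simp only [hb, hc, hd, he, hF] at h3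
  have h5 : ∑ i, (wt (b i) (c i) (d i) (e i) : K) * F i + ∑ i, (wt (d i) (b i) (e i) (c i) : K) * F i +
      ∑ i, (wt (e i) (d i) (c i) (b i) : K) * F i + ∑ i, (wt (c i) (e i) (b i) (d i) : K) * F i =
      4 * ∑ i, F i := by
    rw [← sum_add_distrib, ← sum_add_distrib, ← sum_add_distrib, mul_sum]
    refine sum_congr rfl fun i _ => ?_
    have := congrArg (Int.cast : ℤ → K) (h4 i)
    push_cast at this
    linear_combination this * F i
  have : (4 : K) ≠ 0 := by norm_num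
  apply mul_left_cancel₀ this
  linear_combination h5 + 3 * h1 + 2 * h2 + h3

set_option maxHeartbeats 1600000 in
theorem z15n (o : ι) (n : Fin 5 → ι → ℤ) (t y : ι → ℤ) (D : ι → ℕ) (σ : Equiv.Perm ι)
    (hσn : ∀ j i, n j (σ i) = n (3 * j) i) (hσt : ∀ i, t (σ i) = t i) (hσD : ∀ i, D (σ i) = D i)
    (ho0 : n 0 o = 1) (ho : ∀ j, j ≠ 0 → n j o = 0) (hot : t o = 1) (hoD : D o = 1)
    (hD : ∀ i, (D i : ℤ) = 64 * y i - 11 * t i + 12 * ∑ j, n j i)
    (h0 : ∀ i, 0 ≤ y i) (h1 : ∀ i, 0 ≤ t i + y i) (h3 : ∀ i, i ≠ o → 1 ≤ ∑ j, n j i - t i + 4 * y i)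
    (hW : ∀ i, i ≠ o → 1 ≤ y i ∨ t i + y i = 0) (hA : ∀ i, 5 * t i - 4 * ∑ j, n j i ≠ 0)
    (gnn : ∀ j k, ∑ i, n j i * n k i = if j = k then 5 else 1) (gnt : ∀ j, ∑ i, t i * n j i = 4)
    (gtt : ∑ i, t i * t i = 16) (en : ∀ j, ∑ i, n j i * D i = 0) (et : ∑ i, t i * D i = 0)
    (c1 : ∑ i, (((5 * t i - 4 * ∑ j, n j i) ^ 2 * t i : ℤ) : ℚ) / D i = 0)
    (c2 : ∑ i, (((5 * t i - 4 * ∑ j, n j i) ^ 2 * (5 * n 0 i - ∑ j, n j i) : ℤ) : ℚ) / D i = 0)
    (c3 : ∑ i, (((5 * t i - 4 * ∑ j, n j i) ^ 2 * n 0 i : ℤ) : ℚ) / D i ≤ 0) : False := by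
  simp only [Fin.sum_univ_five] at hD h3 hA c1 c2 c3
  have g00 := gnn 0 0; have g01 := gnn 0 1; have g02 := gnn 0 2; have g03 := gnn 0 3
  have g04 := gnn 0 4; have g11 := gnn 1 1; have g12 := gnn 1 2; have g13 := gnn 1 3
  have g14 := gnn 1 4; have g22 := gnn 2 2; have g23 := gnn 2 3; have g24 := gnn 2 4
  have g33 := gnn 3 3; have g34 := gnn 3 4; have g44 := gnn 4 4
  have t0 := gnt 0; have t1 := gnt 1; have t2 := gnt 2; have t3 := gnt 3; have t4 := gnt 4
  have e0 := en 0; have e1 := en 1; have e2 := en 2; have e3 := en 3; have e4 := en 4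
  have s0 : ∀ i, n 0 (σ i) = n 0 i := hσn 0
  have s1 : ∀ i, n 1 (σ i) = n 3 i := hσn 1
  have s2 : ∀ i, n 2 (σ i) = n 1 i := hσn 2
  have s3 : ∀ i, n 3 (σ i) = n 4 i := hσn 3
  have s4 : ∀ i, n 4 (σ i) = n 2 i := hσn 4
  have o1 := ho 1 (by decide); have o2 := ho 2 (by decide); have o3 := ho 3 (by decide)
  have o4 := ho 4 (by decide)
  simp only [if_true, Fin.reduceEq, if_false] at g00 g01 g02 g03 g04 g11 g12 g13 g14 g22 g23 g24 g33 g34 g44
  generalize n 0 = a at *
  generalize n 1 = b at *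
  generalize n 2 = c at *
  generalize n 3 = d at *
  generalize n 4 = e at *
  clear hσn gnn gnt en ho
  have le5 : ∀ (f : ι → ℤ) i, f i * f i ≤ ∑ i, f i * f i := fun f i =>
    single_le_sum (f := fun i => f i * f i) (fun _ _ => mul_self_nonneg _) (mem_univ i)
  have ma : ∀ i, a i ∈ l5 := fun i => mem_l5 (g00 ▸ le5 a i)
  have mb : ∀ i, b i ∈ l5 := fun i => mem_l5 (g11 ▸ le5 b i)
  have mc : ∀ i, c i ∈ l5 := fun i => mem_l5 (g22 ▸ le5 c i)
  have md : ∀ i, d i ∈ l5 := fun i => mem_l5 (g33 ▸ le5 d i)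
  have me : ∀ i, e i ∈ l5 := fun i => mem_l5 (g44 ▸ le5 e i)
  have le2 : ∀ (f : ι → ℤ) i, i ≠ o → f i * f i + f o * f o ≤ ∑ i, f i * f i := fun f i hi => by
    rw [← sum_pair (f := fun i => f i * f i) hi]
    exact sum_le_sum_of_subset_of_nonneg (subset_univ _) fun _ _ _ => mul_self_nonneg _
  have mt : ∀ i, i ≠ o → t i ∈ l7 := fun i hi => mem_l7 (by
    have := le2 t i hi
    rw [gtt, hot] at this
    omega)
  have cs : ∀ (v0 v1 v2 v3 v4 v5 : ℤ) i, i ≠ o →
      (v0 * a i + v1 * b i + v2 * c i + v3 * d i + v4 * e i + v5 * t i) ^ 2 + (v0 + v5) ^ 2 ≤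
        4 * (v0 ^ 2 + v1 ^ 2 + v2 ^ 2 + v3 ^ 2 + v4 ^ 2) + (v0 + v1 + v2 + v3 + v4) ^ 2 +
          8 * v5 * (v0 + v1 + v2 + v3 + v4) + 16 * v5 ^ 2 := by
    intro v0 v1 v2 v3 v4 v5 i hi
    have := le2 (fun i => v0 * a i + v1 * b i + v2 * c i + v3 * d i + v4 * e i + v5 * t i) i hi
    have h : ∀ i, (v0 * a i + v1 * b i + v2 * c i + v3 * d i + v4 * e i + v5 * t i) *
        (v0 * a i + v1 * b i + v2 * c i + v3 * d i + v4 * e i + v5 * t i) =
        v0 ^ 2 * (a i * a i) + v1 ^ 2 * (b i * b i) + v2 ^ 2 * (c i * c i) + v3 ^ 2 * (d i * d i) +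
        v4 ^ 2 * (e i * e i) + v5 ^ 2 * (t i * t i) + 2 * v0 * v1 * (a i * b i) +
        2 * v0 * v2 * (a i * c i) + 2 * v0 * v3 * (a i * d i) + 2 * v0 * v4 * (a i * e i) +
        2 * v1 * v2 * (b i * c i) + 2 * v1 * v3 * (b i * d i) + 2 * v1 * v4 * (b i * e i) +
        2 * v2 * v3 * (c i * d i) + 2 * v2 * v4 * (c i * e i) + 2 * v3 * v4 * (d i * e i) +
        2 * v5 * v0 * (t i * a i) + 2 * v5 * v1 * (t i * b i) + 2 * v5 * v2 * (t i * c i) +
        2 * v5 * v3 * (t i * d i) + 2 * v5 * v4 * (t i * e i) := fun i => by ring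
    rw [sum_congr rfl fun i _ => h i] at this
    simp only [sum_add_distrib, ← mul_sum, g00, g01, g02, g03, g04, g11, g12, g13, g14, g22, g23,
      g24, g33, g34, g44, t0, t1, t2, t3, t4, gtt, ho0, o1, o2, o3, o4, hot] at this
    linear_combination this
  have hq : ∀ i, i ≠ o → qf (a i) (b i) (c i) (d i) (e i) (t i) ≤ 188 := by
    intro i hi
    have := cs (56 * a i - 3 * (b i + c i + d i + e i) - 8 * t i)
      (-3 * a i + 47 * b i + (b i + c i + d i + e i) - 13 * t i)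
      (-3 * a i + 47 * c i + (b i + c i + d i + e i) - 13 * t i)
      (-3 * a i + 47 * d i + (b i + c i + d i + e i) - 13 * t i)
      (-3 * a i + 47 * e i + (b i + c i + d i + e i) - 13 * t i)
      (-8 * a i - 13 * (b i + c i + d i + e i) + 28 * t i) i hi
    have h : qf (a i) (b i) (c i) (d i) (e i) (t i) ^ 2 ≤
        188 * qf (a i) (b i) (c i) (d i) (e i) (t i) := by
      unfold qf
      linear_combination this
    exact le_of_sq_le h
  have h4 : ∀ i, wt (b i) (c i) (d i) (e i) + wt (d i) (b i) (e i) (c i) +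
      wt (e i) (d i) (c i) (b i) + wt (c i) (e i) (b i) (d i) = 4 := fun i => by
    have := box_wt
    simp only [List.all_eq_true, decide_eq_true_eq] at this
    exact this _ (mb i) _ (mc i) _ (md i) _ (me i)
  set s := univ.filter fun i => i ≠ o ∧ wt (b i) (c i) (d i) (e i) ≠ 0 with hs
  have hty : ∀ i ∈ s, mkTy (a i) (b i) (c i) (d i) (e i) (t i) ∈ ztypes ∧
      0 < 64 * y0 (a i + b i + c i + d i + e i) (t i) - 11 * t i +
        12 * (a i + b i + c i + d i + e i) := fun i hi => by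
    obtain ⟨hio, hw⟩ := (mem_filter.1 hi).2
    have := box_ty
    simp only [List.all_eq_true, Bool.or_eq_true, Bool.and_eq_true, decide_eq_true_eq] at this
    exact (((this _ (mb i) _ (mc i) _ (md i) _ (me i)).resolve_left hw _ (ma i) _
      (mt i hio)).resolve_left (hA i)).resolve_left (not_lt.2 (hq i hio))
  let it : ι → Item := fun i => (mkTy (a i) (b i) (c i) (d i) (e i) (t i),
    (y i - y0 (a i + b i + c i + d i + e i) (t i)).toNat)
  have hdeg : ∀ i ∈ s, deg (it i) = D i := fun i hi => by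
    have hio := (mem_filter.1 hi).2.1
    have a1 := (hty i hi).2
    have a2 := y0_le (h0 i) (h1 i) (h3 i hio) (hW i hio)
    have a3 := hD i
    simp only [deg, it, mkTy]
    omega
  have key : ∀ F : ι → ℚ, (∀ i, F (σ i) = F i) →
      ∑ i ∈ s, (wt (b i) (c i) (d i) (e i) : ℚ) * F i = ∑ i, F i - F o := by
    intro F hF
    rw [← sum_wt σ s1 s2 s3 s4 h4 F hF, ← add_sum_erase _ _ (mem_univ o), o1, o2, o3, o4,
      show wt 0 0 0 0 = 1 from rfl, Int.cast_one, one_mul, add_sub_cancel_left]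
    refine sum_subset (fun i hi => mem_erase.2 ⟨(mem_filter.1 hi).2.1, mem_univ _⟩) fun i hi h => ?_
    have : wt (b i) (c i) (d i) (e i) = 0 := by
      by_contra hw
      exact h (mem_filter.2 ⟨mem_univ _, (mem_erase.1 hi).1, hw⟩)
    rw [this, Int.cast_zero, zero_mul]
  have keyz : ∀ F : ι → ℤ, (∀ i, F (σ i) = F i) →
      ∑ i ∈ s, wt (b i) (c i) (d i) (e i) * F i = ∑ i, F i - F o := by
    intro F hF
    have := key (fun i => F i) fun i => by rw [hF]
    exact_mod_cast this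
  refine z_false (m := s.val.map it) ⟨?_, fun j => ?_, fun j => ?_, fun j hj => ?_, ?_⟩ ?_
  · intro x hx
    obtain ⟨i, hi, rfl⟩ := Multiset.mem_map.1 hx
    have := (hty i hi).2
    simp only [it, mkTy]
    omega
  · rw [Multiset.map_map]
    change ∑ i ∈ s, (it i).1.g.getD j 0 = _
    rcases j with _ | _ | _ | _ | _ | _ | _ | _ | j
    all_goals simp only [it, mkTy, zR, List.getD_cons_zero, List.getD_cons_succ, List.getD_nil]
    all_goals first
      | (rw [keyz _ fun i => by simp only [s0, s1, s2, s3, s4, hσt]; try ring]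
         simp only [mul_add, add_mul, sum_add_distrib, mul_comm (e _) (c _), mul_comm (e _) (d _),
           g00, g01, g02, g03, g04, g11, g12, g13, g14, g22, g23, g24, g33, g34, g44, t0, t1, t2, t3,
           t4, gtt, ho0, o1, o2, o3, o4, hot]
         norm_num)
      | simp
  · rw [Multiset.map_map]
    change ∑ i ∈ s, (it i).1.e.getD j 0 * (deg (it i) : ℤ) = _
    rw [sum_congr rfl fun i hi => by rw [hdeg i hi]]
    rcases j with _ | _ | _ | j
    all_goals simp only [it, mkTy, zR, List.getD_cons_zero, List.getD_cons_succ, List.getD_nil,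
      mul_assoc]
    all_goals first
      | (rw [keyz _ fun i => by simp only [s0, s1, s2, s3, s4, hσt, hσD]; try ring]
         simp only [add_mul, sum_add_distrib, e0, e1, e2, e3, e4, et, ho0, o1, o2, o3, o4, hot, hoD]
         norm_num)
      | simp
  · rw [Multiset.map_map]
    change ∑ i ∈ s, ((it i).1.c.getD j 0 : ℚ) / (deg (it i) : ℚ) = _
    rw [sum_congr rfl fun i hi => by rw [hdeg i hi]]
    rcases j with _ | _ | _ | j
    · simp only [it, mkTy, zR, List.getD_cons_zero, Int.cast_mul (wt _ _ _ _), mul_div_assoc]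
      rw [key _ fun i => by simp only [s0, s1, s2, s3, s4, hσt, hσD]; congr 2; ring, c1]
      simp [ho0, o1, o2, o3, o4, hot, hoD]
    · simp only [it, mkTy, zR, List.getD_cons_zero, List.getD_cons_succ, Int.cast_mul (wt _ _ _ _),
        mul_div_assoc]
      rw [key _ fun i => by simp only [s0, s1, s2, s3, s4, hσt, hσD]; congr 2; ring, c2]
      norm_num [ho0, o1, o2, o3, o4, hot, hoD]
    · exact absurd rfl hj
    · simp [it, mkTy, zR]
  · rw [Multiset.map_map]
    change ∑ i ∈ s, ((it i).1.c.getD 2 0 : ℚ) / (deg (it i) : ℚ) ≤ _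
    rw [sum_congr rfl fun i hi => by rw [hdeg i hi]]
    simp only [it, mkTy, zR, List.getD_cons_zero, List.getD_cons_succ, Int.cast_mul (wt _ _ _ _),
      mul_div_assoc]
    rw [key _ fun i => by simp only [s0, s1, s2, s3, s4, hσt, hσD]; congr 2; ring]
    norm_num [ho0, o1, o2, o3, o4, hot, hoD] at c3 ⊢
    exact c3
  · intro x hx
    obtain ⟨i, hi, rfl⟩ := Multiset.mem_map.1 hx
    exact (hty i hi).1

theorem z15 (o : ι) (d : Fin 5 → ι → ℤ) (A t : ι → ℤ) (D m₁ m₂ m₃ : ι → ℕ) (σ : Equiv.Perm ι)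
    (hσd : ∀ j i, d j (σ i) = d (3 * j) i) (hσt : ∀ i, t (σ i) = t i) (hσD : ∀ i, D (σ i) = D i)
    (ho0 : d 0 o = 1) (ho : ∀ j, j ≠ 0 → d j o = 0) (hot : t o = 1) (hoD : D o = 1)
    (hA : ∀ i, A i = ∑ j, d j i) (hA0 : ∀ i, A i ≠ 0)
    (hm₁ : ∀ i, 64 * (m₁ i : ℤ) = D i + 3 * A i + 60 * t i)
    (hm₂ : ∀ i, 64 * (m₂ i : ℤ) = D i + 3 * A i - 4 * t i) (hm₃ : ∀ i, 16 * (m₃ i : ℤ) = D i - A i)
    (h3 : ∀ i, i ≠ o → m₃ i ≠ 0) (hW : ∀ i, i ≠ o → m₂ i ≠ 0 ∨ m₁ i = 0)
    (gdd : ∀ j k, ∑ i, d j i * d k i = if j = k then 16 else 12) (gdt : ∀ j, ∑ i, t i * d j i = 0)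
    (gtt : ∑ i, t i * t i = 16) (ed : ∀ j, ∑ i, d j i * D i = 0) (et : ∑ i, t i * D i = 0)
    (c1 : ∑ i, ((A i ^ 2 * t i : ℤ) : ℚ) / D i = 0)
    (c2 : ∑ i, ((A i ^ 2 * (5 * d 0 i - A i) : ℤ) : ℚ) / D i = 0)
    (c3 : 0 ≤ ∑ i, ((A i ^ 2 * A i : ℤ) : ℚ) / D i) : False := by
  have hk : ∀ i, 4 * ((A i - t i) / 4) = A i - t i := fun i => by
    have := hm₂ i
    have := hm₃ i
    omega
  have hσA : ∀ i, A (σ i) = A i := fun i => by
    rw [hA, hA]
    simp only [hσd, Fin.sum_univ_five]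
    change d 0 i + d 3 i + d 1 i + d 4 i + d 2 i = _
    ring
  have hoA : A o = 1 := by
    rw [hA, Fin.sum_univ_five, ho0, ho 1 (by decide), ho 2 (by decide), ho 3 (by decide),
      ho 4 (by decide)]
    rfl
  have hs : ∀ i, ∑ j : Fin 5, (d j i - (A i - t i) / 4) = A i - 5 * ((A i - t i) / 4) := fun i => by
    rw [sum_sub_distrib, ← hA]
    simp
  have hA' : ∀ i, 5 * t i - 4 * ∑ j : Fin 5, (d j i - (A i - t i) / 4) = A i := fun i => by
    rw [hs]
    have := hk i
    omega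
  have gdA : ∀ j, ∑ i, d j i * A i = 64 := fun j => by
    simp only [hA, mul_sum]
    rw [sum_comm]
    simp only [gdd]
    revert j
    decide
  have gAA : ∑ i, A i * A i = 320 := by
    rw [sum_congr rfl fun i _ => show A i * A i = ∑ j, d j i * A i by rw [← sum_mul, ← hA], sum_comm]
    simp [gdA]
  have gtA : ∑ i, t i * A i = 0 := by
    simp only [hA, mul_sum]
    rw [sum_comm]
    simp [gdt]
  have eA : ∑ i, A i * D i = 0 := by
    simp only [hA, sum_mul]
    rw [sum_comm]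
    simp [ed]
  refine z15n o (fun j i => d j i - (A i - t i) / 4) t (fun i => m₂ i) D σ
    (fun j i => by simp only [hσd, hσA, hσt]) hσt hσD (by simp [ho0, hoA, hot])
    (fun j hj => by simp [ho j hj, hoA, hot]) hot hoD (fun i => ?_) (fun i => by positivity)
    (fun i => ?_) (fun i hi => ?_) (fun i hi => ?_) (fun i => by rw [hA']; exact hA0 i)
    (fun j k => ?_) (fun j => ?_) gtt (fun j => ?_) et (by simpa only [hA'] using c1) ?_ ?_
  · have := hm₂ i
    have := hk i
    rw [hs]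
    omega
  · have := hm₁ i
    have := hm₂ i
    omega
  · have := hm₂ i
    have := hm₃ i
    have := hk i
    have := h3 i hi
    rw [hs]
    omega
  · have := hm₁ i
    have := hm₂ i
    have := hW i hi
    omega
  · apply mul_left_cancel₀ (show (16 : ℤ) ≠ 0 by norm_num)
    rw [mul_sum, sum_congr rfl fun i _ => show
      16 * ((d j i - (A i - t i) / 4) * (d k i - (A i - t i) / 4)) =
        16 * (d j i * d k i) - 4 * (d j i * A i) - 4 * (d k i * A i) + 4 * (t i * d j i) +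
          4 * (t i * d k i) + A i * A i + t i * t i - 2 * (t i * A i) by
        linear_combination (4 * ((A i - t i) / 4) + (A i - t i) - 4 * d j i - 4 * d k i) * hk i]
    simp only [sum_add_distrib, sum_sub_distrib, ← mul_sum, gdd, gdA, gdt, gAA, gtt, gtA]
    split_ifs <;> rfl
  · apply mul_left_cancel₀ (show (4 : ℤ) ≠ 0 by norm_num)
    rw [mul_sum, sum_congr rfl fun i _ => show 4 * (t i * (d j i - (A i - t i) / 4)) =
        4 * (t i * d j i) - t i * A i + t i * t i by linear_combination (-t i) * hk i]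
    simp only [sum_add_distrib, sum_sub_distrib, ← mul_sum, gdt, gtt, gtA]
    rfl
  · apply mul_left_cancel₀ (show (4 : ℤ) ≠ 0 by norm_num)
    rw [mul_sum, sum_congr rfl fun i _ => show 4 * ((d j i - (A i - t i) / 4) * D i) =
        4 * (d j i * D i) - A i * D i + t i * D i by linear_combination (-(D i : ℤ)) * hk i]
    simp only [sum_add_distrib, sum_sub_distrib, ← mul_sum, ed, et, eA]
    rfl
  · rw [← c2]
    refine sum_congr rfl fun i _ => ?_
    rw [hA', hs]
    congr 2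
    ring
  · have : 20 * ∑ i, (((5 * t i - 4 * ∑ j : Fin 5, (d j i - (A i - t i) / 4)) ^ 2 *
        (d 0 i - (A i - t i) / 4) : ℤ) : ℚ) / D i =
        4 * ∑ i, ((A i ^ 2 * (5 * d 0 i - A i) : ℤ) : ℚ) / D i +
          5 * ∑ i, ((A i ^ 2 * t i : ℤ) : ℚ) / D i - ∑ i, ((A i ^ 2 * A i : ℤ) : ℚ) / D i := by
      rw [mul_sum, mul_sum, mul_sum, ← sum_add_distrib, ← sum_sub_distrib]
      refine sum_congr rfl fun i _ => ?_
      rw [hA']
      have := congrArg (Int.cast : ℤ → ℚ) (hk i)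
      generalize (A i - t i) / 4 = k at *
      push_cast at this ⊢
      linear_combination (-5 * (A i : ℚ) ^ 2 / D i) * this
    linarith

end

end Cfsg.Agent.SC.Ar
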