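import Cfsg.Agent.Lib.SC.ArChk

/-!
# Soundness of the branch and bound checker
-/

namespace Cfsg.Agent.SC.Ar

abbrev Item := Ty × ℕ

def deg (i : Item) : ℕ := i.1.d + 64 * i.2

def Fits (c : Cell) (i : Item) : Prop := i.1 = c.t ∧ c.lo ≤ i.2 ∧ (c.hi = 0 ∨ i.2 < c.hi)

def Sat : List Cell → Multiset Item → Prop
  | [], m => m = 0
  | c :: cs, m => ∃ m₁ m₂, m = m₁ + m₂ ∧ (∀ i ∈ m₁, Fits c i) ∧ c.cmin ≤ m₁.card ∧
      (c.cmax = 0 ∨ m₁.card ≤ c.cmax) ∧ Sat cs m₂

/-- The system of equations. -/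
structure Eqs (R : Rhs) (m : Multiset Item) : Prop where
  pos : ∀ i ∈ m, 0 < i.1.d
  g : ∀ j, (m.map fun i => i.1.g.getD j 0).sum = R.g.getD j 0
  e : ∀ j, (m.map fun i => i.1.e.getD j 0 * (deg i : ℤ)).sum = R.e.getD j 0
  c : ∀ j, j ≠ R.q → (m.map fun i => (i.1.c.getD j 0 : ℚ) / (deg i : ℚ)).sum = (R.c.getD j 0 : ℚ)
  cq : (m.map fun i => (i.1.c.getD R.q 0 : ℚ) / (deg i : ℚ)).sum ≤ (R.c.getD R.q 0 : ℚ)

theorem ble_iff (a b : ℤ) : Int.ble' a b = true ↔ a ≤ b := Int.ble'_eq_true a b ▸ Iff.rfl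

theorem dot_eq (mu l : List ℤ) :
    dot mu l = ∑ j ∈ Finset.range mu.length, mu.getD j 0 * l.getD j 0 := by
  induction mu generalizing l with
  | nil => simp [dot]
  | cons a mu ih =>
    cases l with
    | nil => simp [dot]
    | cons b l =>
      rw [List.length_cons, Finset.sum_range_succ', dot, ih]
      simp only [List.getD_cons_succ, List.getD_cons_zero]
      change a * b + _ = _
      ring

theorem dot_unit (mu : List ℤ) (q : ℕ) : dot mu (unit q) = mu.getD q 0 := by
  induction mu generalizing q with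
  | nil => simp [dot]
  | cons a mu ih =>
    cases q with
    | zero =>
      have : dot mu [] = 0 := by cases mu <;> rfl
      simp only [unit, dot, this, List.getD_cons_zero]
      change a * 1 + 0 = a
      ring
    | succ q =>
      simp only [unit, dot, ih, List.getD_cons_succ]
      change a * 0 + _ = _
      ring

theorem sum_comm' {α : Type*} {K : Type*} [AddCommMonoid K] (m : Multiset α) (s : Finset ℕ)
    (f : α → ℕ → K) : (m.map fun i => ∑ j ∈ s, f i j).sum = ∑ j ∈ s, (m.map fun i => f i j).sum := by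
  induction m using Multiset.induction_on with
  | empty => simp
  | cons a m ih => simp [ih, Finset.sum_add_distrib]

theorem Eqs.dotg {R : Rhs} {m : Multiset Item} (h : Eqs R m) (mu : List ℤ) :
    (m.map fun i => dot mu i.1.g).sum = dot mu R.g := by
  simp only [dot_eq, sum_comm', Multiset.sum_map_mul_left, h.g]

theorem Eqs.dote {R : Rhs} {m : Multiset Item} (h : Eqs R m) (mu : List ℤ) :
    (m.map fun i => dot mu i.1.e * (deg i : ℤ)).sum = dot mu R.e := by
  simp only [dot_eq, Finset.sum_mul, mul_assoc, sum_comm', Multiset.sum_map_mul_left, h.e]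

theorem Eqs.dotc {R : Rhs} {m : Multiset Item} (h : Eqs R m) (mu : List ℤ) (hq : 0 ≤ mu.getD R.q 0) :
    (m.map fun i => (dot mu i.1.c : ℚ) / (deg i : ℚ)).sum ≤ dot mu R.c := by
  simp only [dot_eq, Int.cast_sum, Int.cast_mul, Finset.sum_div, mul_div_assoc, sum_comm',
    Multiset.sum_map_mul_left]
  refine Finset.sum_le_sum fun j _ => ?_
  by_cases hj : j = R.q
  · subst hj
    exact mul_le_mul_of_nonneg_left h.cq (by exact_mod_cast hq)
  · rw [h.c j hj]

/-- The value of the test function. -/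
def phi (al be ga : ℤ) (d y : ℕ) : ℚ := al + be * ((d + 64 * y : ℕ) : ℚ) + ga / ((d + 64 * y : ℕ) : ℚ)

theorem imin_eq (a b : ℤ) : imin a b = min a b := by
  simp only [imin, fI_eq]
  cases h : Int.ble' a b
  · have : ¬ a ≤ b := fun h' => by rw [← ble_iff, h] at h'; exact Bool.false_ne_true h'
    simp [min_eq_right (le_of_not_ge this)]
  · simp [min_eq_left ((ble_iff a b).1 h)]

theorem val_le (al be ga : ℤ) {d : ℕ} (hd : 0 < d) (y : ℕ) :
    (val al be ga d y : ℚ) ≤ phi al be ga d y := by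
  have hv : val al be ga d y = al + be * ((d + 64 * y : ℕ) : ℤ) + ga / ((d + 64 * y : ℕ) : ℤ) := by
    simp only [val, fN_eq]; rfl
  rw [hv, phi]
  have hD : (0 : ℤ) < ((d + 64 * y : ℕ) : ℤ) := by positivity
  have hD' : (0 : ℚ) < ((d + 64 * y : ℕ) : ℚ) := by positivity
  have h1 := Int.ediv_mul_le ga hD.ne'
  have h2 : ((ga / ((d + 64 * y : ℕ) : ℤ) : ℤ) : ℚ) ≤ ga / ((d + 64 * y : ℕ) : ℚ) := by
    rw [le_div_iff₀ hD']
    exact_mod_cast h1
  simp only [Int.cast_add, Int.cast_mul, Int.cast_natCast] at h2 ⊢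
  linarith

theorem loop_le (al be ga : ℤ) {d : ℕ} (hd : 0 < d) (lo n y : ℕ) (h1 : lo ≤ y) (h2 : y ≤ lo + n) :
    (loop al be ga d lo n : ℚ) ≤ phi al be ga d y := by
  induction n with
  | zero =>
    obtain rfl : y = lo := by omega
    exact val_le al be ga hd y
  | succ n ih =>
    rw [loop, imin_eq, Int.cast_min]
    by_cases h : y ≤ lo + n
    · exact (min_le_right _ _).trans (ih h)
    · obtain rfl : y = lo + (n + 1) := by omega
      exact (min_le_left _ _).trans (val_le al be ga hd _)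

theorem concave_aux {al be ga D₁ D D₂ : ℚ} (hg : ga ≤ 0) (h0 : 0 < D₁) (h1 : D₁ ≤ D) (h2 : D ≤ D₂) :
    min (al + be * D₁ + ga / D₁) (al + be * D₂ + ga / D₂) ≤ al + be * D + ga / D := by
  by_contra hc
  rw [not_le, lt_min_iff] at hc
  obtain ⟨ha, hb⟩ := hc
  have hD : 0 < D := by linarith
  have hD2 : 0 < D₂ := by linarith
  have e1 : (al + be * D₁ + ga / D₁) - (al + be * D + ga / D) = (D - D₁) * (ga / (D * D₁) - be) := by
    field_simp; ring
  have e2 : (al + be * D₂ + ga / D₂) - (al + be * D + ga / D) = (D₂ - D) * (be - ga / (D * D₂)) := by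
    field_simp; ring
  have a1 : 0 < ga / (D * D₁) - be := by
    by_contra h
    have := mul_nonpos_of_nonneg_of_nonpos (sub_nonneg.2 h1) (not_lt.1 h)
    linarith
  have a2 : 0 < be - ga / (D * D₂) := by
    by_contra h
    have := mul_nonpos_of_nonneg_of_nonpos (sub_nonneg.2 h2) (not_lt.1 h)
    linarith
  have a3 : ga / (D * D₁) ≤ ga / (D * D₂) := by
    rw [div_le_div_iff₀ (by positivity) (by positivity)]
    have : D * D₁ ≤ D * D₂ := mul_le_mul_of_nonneg_left (h1.trans h2) hD.le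
    nlinarith
  linarith

theorem fin_le (al be ga : ℤ) {d : ℕ} (hd : 0 < d) (lo n y : ℕ) (h1 : lo ≤ y) (h2 : y ≤ lo + n) :
    (fin al be ga d lo n : ℚ) ≤ phi al be ga d y := by
  unfold fin
  cases h : Int.ble' ga 0
  · exact loop_le al be ga hd lo n y h1 h2
  · have hg : (ga : ℚ) ≤ 0 := by exact_mod_cast (ble_iff _ _).1 h
    simp only [cond_true, imin_eq, Int.cast_min]
    refine (min_le_min (val_le al be ga hd _) (val_le al be ga hd _)).trans ?_
    refine concave_aux hg (by positivity) ?_ ?_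
    · exact_mod_cast (by omega)
    · have : d + 64 * y ≤ d + 64 * (Nat.add lo n) := by change _ ≤ d + 64 * (lo + n); omega
      exact_mod_cast this

theorem tail_le (al be ga : ℤ) (hb : 0 ≤ be) {d : ℕ} (hd : 0 < d) (lo n y : ℕ) (h1 : lo ≤ y) :
    ((min (fin al be ga d lo n) (al + be * ((d + 64 * (lo + n) : ℕ) : ℤ)) : ℤ) : ℚ) ≤
      phi al be ga d y := by
  rw [Int.cast_min]
  by_cases h : y ≤ lo + n
  · exact (min_le_left _ _).trans (fin_le al be ga hd lo n y h1 h)
  have hb' : (0 : ℚ) ≤ be := by exact_mod_cast hb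
  have hD : ((d + 64 * (lo + n) : ℕ) : ℚ) ≤ ((d + 64 * y : ℕ) : ℚ) := by exact_mod_cast (by omega)
  have hD0 : (0 : ℚ) < ((d + 64 * (lo + n) : ℕ) : ℚ) := by positivity
  have hm := mul_le_mul_of_nonneg_left hD hb'
  rcases le_total 0 ga with hg | hg
  · refine (min_le_right _ _).trans ?_
    have hg' : (0 : ℚ) ≤ ga := by exact_mod_cast hg
    have : (0 : ℚ) ≤ ga / ((d + 64 * y : ℕ) : ℚ) := by positivity
    simp only [phi, Int.cast_add, Int.cast_mul, Int.cast_natCast]
    linarith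
  · refine (min_le_left _ _).trans ((fin_le al be ga hd lo n (lo + n) (by omega) le_rfl).trans ?_)
    have hg' : (ga : ℚ) ≤ 0 := by exact_mod_cast hg
    have : (ga : ℚ) / ((d + 64 * (lo + n) : ℕ) : ℚ) ≤ ga / ((d + 64 * y : ℕ) : ℚ) := by
      rw [div_le_div_iff₀ hD0 (hD0.trans_le hD)]
      nlinarith
    simp only [phi]
    linarith

/-- The test function on items. -/
def psi (mu be ga : List ℤ) (i : Item) : ℚ := phi (dot mu i.1.g) (dot be i.1.e) (dot ga i.1.c) i.1.d i.2

theorem contrib_le {c : Cell} {p v : ℤ} (h : contrib c p = some v) {m : Multiset Item} {f : Item → ℚ}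
    (hf : ∀ i ∈ m, (p : ℚ) ≤ f i) (h1 : c.cmin ≤ m.card) (h2 : c.cmax = 0 ∨ m.card ≤ c.cmax) :
    (v : ℚ) ≤ (m.map f).sum := by
  have hs : (m.card : ℚ) * p ≤ (m.map f).sum := by
    have := Multiset.card_nsmul_le_sum (s := m.map f) (a := (p : ℚ)) (by
      intro x hx
      obtain ⟨i, hi, rfl⟩ := Multiset.mem_map.1 hx
      exact hf i hi)
    simpa using this
  unfold contrib at h
  cases hp : Int.ble' 0 p
  · have hp' : (p : ℚ) ≤ 0 := by
      have : ¬ 0 ≤ p := fun h' => by rw [← ble_iff, hp] at h'; exact Bool.false_ne_true h'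
      exact_mod_cast (le_of_not_ge this)
    cases h0 : Nat.beq c.cmax 0
    · simp only [hp, h0, cond_false, Option.some.injEq] at h
      have hne : c.cmax ≠ 0 := Nat.ne_of_beq_eq_false h0
      have h3 : (m.card : ℚ) ≤ c.cmax := by exact_mod_cast h2.resolve_left hne
      have : (v : ℚ) = p * c.cmax := by rw [← h]; exact Int.cast_mul _ _
      nlinarith
    · simp [hp, h0] at h
  · have hp' : (0 : ℚ) ≤ p := by exact_mod_cast (ble_iff _ _).1 hp
    simp only [hp, cond_true, Option.some.injEq] at h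
    have h3 : (c.cmin : ℚ) ≤ m.card := by exact_mod_cast h1
    have : (v : ℚ) = p * c.cmin := by rw [← h]; exact Int.cast_mul _ _
    nlinarith

theorem cellBound_le {mu be ga : List ℤ} {c : Cell} {v : ℤ} (h : cellBound mu be ga c = some v)
    {m : Multiset Item} (hd : ∀ i ∈ m, 0 < i.1.d) (hf : ∀ i ∈ m, Fits c i) (h1 : c.cmin ≤ m.card)
    (h2 : c.cmax = 0 ∨ m.card ≤ c.cmax) : (v : ℚ) ≤ (m.map (psi mu be ga)).sum := by
  simp only [cellBound, fI_eq] at h
  cases hh : Nat.beq c.hi 0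
  · simp only [hh, cond_false] at h
    refine contrib_le h (fun i hi => ?_) h1 h2
    obtain ⟨e, a, b⟩ := hf i hi
    have hne : c.hi ≠ 0 := Nat.ne_of_beq_eq_false hh
    have b := b.resolve_left hne
    rw [psi, ← e]
    refine fin_le _ _ _ (hd i hi) _ _ _ a ?_
    change _ ≤ c.lo + (c.hi - (c.lo + 1))
    omega
  · simp only [hh, cond_true] at h
    cases hb : Int.ble' 0 (dot be c.t.e)
    · simp [hb] at h
    · simp only [hb, cond_true] at h
      refine contrib_le h (fun i hi => ?_) h1 h2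
      obtain ⟨e, a, -⟩ := hf i hi
      rw [psi, imin_eq, ← e]
      rw [← e] at hb
      exact tail_le _ _ _ ((ble_iff _ _).1 hb) (hd i hi) c.lo 6 i.2 a

theorem leaf_sound {mu be ga : List ℤ} : ∀ {cs : List Cell} {acc : ℤ} {m : Multiset Item},
    leaf mu be ga cs acc = true → (∀ i ∈ m, 0 < i.1.d) → Sat cs m →
      0 < (acc : ℚ) + (m.map (psi mu be ga)).sum
  | [], acc, m, h, _, hs => by
    obtain rfl : m = 0 := hs
    have : (1 : ℤ) ≤ acc := (ble_iff _ _).1 h
    have : (0 : ℚ) < acc := by exact_mod_cast this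
    simpa using this
  | c :: cs, acc, m, h, hd, hs => by
    obtain ⟨m₁, m₂, rfl, hf, h1, h2, hs⟩ := hs
    unfold leaf at h
    cases hc : cellBound mu be ga c with
    | none => simp [hc] at h
    | some v =>
      simp only [hc, fI_eq] at h
      have a := leaf_sound h (fun i hi => hd i (Multiset.mem_add.2 (Or.inr hi))) hs
      have b := cellBound_le hc (fun i hi => hd i (Multiset.mem_add.2 (Or.inl hi))) hf h1 h2
      have e : ((Int.add acc v : ℤ) : ℚ) = acc + v := Int.cast_add _ _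
      rw [Multiset.map_add, Multiset.sum_add]
      linarith

theorem leaf_false {R : Rhs} {mu be ga : List ℤ} {cs : List Cell} {m : Multiset Item} (hE : Eqs R m)
    (hq : 0 ≤ ga.getD R.q 0)
    (h : leaf mu be ga cs (Int.neg (Int.add (Int.add (dot mu R.g) (dot be R.e)) (dot ga R.c))) = true)
    (hs : Sat cs m) : False := by
  have a := leaf_sound h hE.pos hs
  have e : ((Int.neg (Int.add (Int.add (dot mu R.g) (dot be R.e)) (dot ga R.c)) : ℤ) : ℚ) =
      -((dot mu R.g : ℚ) + dot be R.e + dot ga R.c) := by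
    change ((-(dot mu R.g + dot be R.e + dot ga R.c) : ℤ) : ℚ) = _
    push_cast; ring
  have b1 := congrArg (Int.cast : ℤ → ℚ) (hE.dotg mu)
  have b2 := congrArg (Int.cast : ℤ → ℚ) (hE.dote be)
  have b3 := hE.dotc ga hq
  rw [Int.cast_multiset_sum, Multiset.map_map] at b1 b2
  have s : (m.map (psi mu be ga)).sum =
      (m.map (Int.cast ∘ fun i : Item => dot mu i.1.g)).sum +
      (m.map (Int.cast ∘ fun i : Item => dot be i.1.e * (deg i : ℤ))).sum +
      (m.map fun i => (dot ga i.1.c : ℚ) / (deg i : ℚ)).sum := by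
    rw [← Multiset.sum_map_add, ← Multiset.sum_map_add]
    congr 1
    refine Multiset.map_congr rfl fun i _ => ?_
    simp [psi, phi, deg]
  linarith

theorem decode_eq {α : Type} : ∀ (n x : ℕ) (k : List ℤ → ℕ → α), ∃ l r, decode n x k = k l r
  | 0, x, k => ⟨[], x, rfl⟩
  | n + 1, x, k => by
    simp only [decode, fI_eq, fN_eq]
    obtain ⟨l, r, h⟩ := decode_eq n (Nat.div x 281474976710656)
      (fun l r => k (Int.subNatNat (Nat.mod x 281474976710656) 140737488355328 :: l) r)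
    exact ⟨_, _, h⟩

theorem pick_eq {α : Type} : ∀ (cs : List Cell) (n : ℕ) (k : Cell → List Cell → α) (z : α),
    pick cs n k z = z ∨ ∃ c r, pick cs n k z = k c r ∧ ∀ m, Sat cs m → Sat (c :: r) m
  | [], _, _, _ => Or.inl rfl
  | c :: cs, 0, _, _ => Or.inr ⟨c, cs, rfl, fun _ h => h⟩
  | c :: cs, n + 1, k, z => by
    rcases pick_eq cs n (fun a l => k a (c :: l)) z with h | ⟨a, r, h, hs⟩
    · exact Or.inl h
    · refine Or.inr ⟨a, c :: r, h, ?_⟩
      rintro m ⟨m₁, m₂, rfl, hf, h1, h2, h3⟩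
      obtain ⟨n₁, n₂, rfl, gf, g1, g2, g3⟩ := hs m₂ h3
      exact ⟨n₁, m₁ + n₂, by abel, gf, g1, g2, m₁, n₂, rfl, hf, h1, h2, g3⟩

/-- The least value of the feature on a list of cells. -/
def base (mu : List ℤ) : List Cell → ℤ
  | [] => 0
  | c :: cs => dot mu c.t.g * c.cmin + base mu cs

theorem slack_eq {mu : List ℤ} : ∀ {cs : List Cell} {acc sl : ℤ}, slack mu cs acc = some sl →
    (∀ c ∈ cs, 0 ≤ dot mu c.t.g) ∧ sl = acc - base mu cs
  | [], acc, sl, h => by
    simp only [slack, Option.some.injEq] at h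
    simp [base, h]
  | c :: cs, acc, sl, h => by
    simp only [slack, fI_eq] at h
    cases ha : Int.ble' 0 (dot mu c.t.g)
    · simp [ha] at h
    · simp only [ha, cond_true] at h
      obtain ⟨a, b⟩ := slack_eq h
      refine ⟨?_, ?_⟩
      · intro x hx
        rcases List.mem_cons.1 hx with rfl | hx
        · exact (ble_iff _ _).1 ha
        · exact a x hx
      · rw [b, base]
        change acc - dot mu c.t.g * (c.cmin : ℤ) - _ = _
        ring

theorem sum_fits {mu : List ℤ} {c : Cell} {m : Multiset Item} (hf : ∀ i ∈ m, Fits c i) :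
    (m.map fun i => dot mu i.1.g).sum = dot mu c.t.g * m.card := by
  rw [Multiset.map_congr rfl (g := fun _ => dot mu c.t.g) (fun i hi => by rw [(hf i hi).1])]
  simp [mul_comm]

theorem base_le {mu : List ℤ} : ∀ {cs : List Cell} {m : Multiset Item},
    (∀ c ∈ cs, 0 ≤ dot mu c.t.g) → Sat cs m → base mu cs ≤ (m.map fun i => dot mu i.1.g).sum
  | [], m, _, hs => by
    obtain rfl : m = 0 := hs
    simp [base]
  | c :: cs, m, h, hs => by
    obtain ⟨m₁, m₂, rfl, hf, h1, -, hs⟩ := hs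
    have a := base_le (fun x hx => h x (List.mem_cons_of_mem _ hx)) hs
    have b := h c List.mem_cons_self
    rw [Multiset.map_add, Multiset.sum_add, sum_fits hf, base]
    have : (c.cmin : ℤ) ≤ m₁.card := by exact_mod_cast h1
    nlinarith

theorem tight_eq {α : Type} {mu : List ℤ} {sl : ℤ} : ∀ (cs : List Cell) (k : List Cell → α),
    (∀ c ∈ cs, 0 ≤ dot mu c.t.g) → ∃ l, tight mu sl cs k = k l ∧ ∀ m, Sat cs m →
      (m.map fun i => dot mu i.1.g).sum - base mu cs ≤ sl → Sat l m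
  | [], k, _ => ⟨[], rfl, fun _ h _ => h⟩
  | c :: cs, k, h => by
    have hcs : ∀ x ∈ cs, 0 ≤ dot mu x.t.g := fun x hx => h x (List.mem_cons_of_mem _ hx)
    have hc := h c List.mem_cons_self
    have key : ∀ m₁ m₂ : Multiset Item, (∀ i ∈ m₁, Fits c i) → c.cmin ≤ m₁.card → Sat cs m₂ →
        ((m₁ + m₂).map fun i => dot mu i.1.g).sum - base mu (c :: cs) ≤ sl →
        (m₂.map fun i => dot mu i.1.g).sum - base mu cs ≤ sl ∧
          ((m₁.card : ℤ) - c.cmin) * dot mu c.t.g ≤ sl := by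
      intro m₁ m₂ hf h1 hs hl
      rw [Multiset.map_add, Multiset.sum_add, sum_fits hf, base] at hl
      have a := base_le hcs hs
      have : (c.cmin : ℤ) ≤ m₁.card := by exact_mod_cast h1
      constructor <;> nlinarith
    have keep : ∃ l, (tight mu sl cs fun l => k (c :: l)) = k l ∧ ∀ m, Sat (c :: cs) m →
        (m.map fun i => dot mu i.1.g).sum - base mu (c :: cs) ≤ sl → Sat l m := by
      obtain ⟨l, e, hl⟩ := tight_eq (sl := sl) cs (fun l => k (c :: l)) hcs
      refine ⟨c :: l, e, ?_⟩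
      rintro m ⟨m₁, m₂, rfl, hf, h1, h2, hs⟩ hm
      exact ⟨m₁, m₂, rfl, hf, h1, h2, hl m₂ hs (key m₁ m₂ hf h1 hs hm).1⟩
    simp only [tight, fI_eq, fN_eq]
    cases ha : Int.ble' (dot mu c.t.g) 0
    swap
    · exact keep
    have hpos : 0 < dot mu c.t.g := by
      by_contra h'
      have := (ble_iff _ _).2 (not_lt.1 h')
      rw [ha] at this
      exact Bool.false_ne_true this
    have bd : ∀ n : ℕ, ((n : ℤ) - c.cmin) * dot mu c.t.g ≤ sl →
        n ≤ Nat.add c.cmin (Int.toNat (Int.ediv sl (dot mu c.t.g))) := by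
      intro n hn
      have a : (n : ℤ) - c.cmin ≤ sl / dot mu c.t.g := Int.le_ediv_of_mul_le hpos hn
      have b : sl / dot mu c.t.g ≤ Int.toNat (sl / dot mu c.t.g) := Int.self_le_toNat _
      change n ≤ c.cmin + Int.toNat (sl / dot mu c.t.g)
      omega
    generalize Nat.add c.cmin (Int.toNat (Int.ediv sl (dot mu c.t.g))) = M at bd
    simp only [cond_false]
    cases h0 : Nat.beq M 0
    · simp only [cond_false]
      cases h1 : (Nat.beq c.cmax 0 || Nat.ble M c.cmax)
      · exact keep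
      · simp only [cond_true]
        obtain ⟨l, e, hl⟩ := tight_eq (sl := sl) cs (fun l => k (⟨c.t, c.lo, c.hi, c.cmin, M⟩ :: l)) hcs
        refine ⟨_, e, ?_⟩
        rintro m ⟨m₁, m₂, rfl, hf, h1, h2, hs⟩ hm
        have := key m₁ m₂ hf h1 hs hm
        exact ⟨m₁, m₂, rfl, hf, h1, Or.inr (bd _ this.2), hl m₂ hs this.1⟩
    · simp only [cond_true]
      obtain rfl : M = 0 := Nat.eq_of_beq_eq_true h0
      obtain ⟨l, e, hl⟩ := tight_eq (sl := sl) cs k hcs
      refine ⟨l, e, ?_⟩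
      rintro m ⟨m₁, m₂, rfl, hf, h1, h2, hs⟩ hm
      have := key m₁ m₂ hf h1 hs hm
      obtain rfl : m₁ = 0 := Multiset.card_eq_zero.1 (Nat.le_zero.1 (bd _ this.2))
      rw [zero_add]
      exact hl m₂ hs this.1

theorem both_sound {a : Out} {f : List ℕ → Out} {hs : List (List Cell)} {s' : List ℕ}
    (h : both a f = some (hs, s')) {P : List Cell → Prop} {p q : Prop} (hpq : p ∨ q)
    (ha : ∀ hs s', a = some (hs, s') → p → ∃ x ∈ hs, P x)
    (hf : ∀ s hs s', f s = some (hs, s') → q → ∃ x ∈ hs, P x) : ∃ x ∈ hs, P x := by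
  unfold both at h
  cases a with
  | none => simp at h
  | some v =>
    obtain ⟨h₁, s₁⟩ := v
    simp only at h
    cases e : f s₁ with
    | none => simp [e] at h
    | some w =>
      obtain ⟨h₂, s₂⟩ := w
      simp only [e, Option.some.injEq, Prod.mk.injEq] at h
      obtain ⟨rfl, -⟩ := h
      rcases hpq with hp | hq
      · obtain ⟨x, hx, hP⟩ := ha _ _ rfl hp
        exact ⟨x, List.mem_append_left _ hx, hP⟩
      · obtain ⟨x, hx, hP⟩ := hf _ _ _ e hq
        exact ⟨x, List.mem_append_right _ hx, hP⟩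

theorem split_count {c : Cell} {r : List Cell} {m : Multiset Item} (h : Sat (c :: r) m) (k : ℕ) :
    ((k = 0 → Sat r m) ∧ (k ≠ 0 → Sat (⟨c.t, c.lo, c.hi, c.cmin, k⟩ :: r) m)) ∨
      Sat (⟨c.t, c.lo, c.hi, Nat.succ k, c.cmax⟩ :: r) m := by
  obtain ⟨m₁, m₂, rfl, hf, h1, h2, hs⟩ := h
  by_cases hk : m₁.card ≤ k
  · refine Or.inl ⟨?_, fun _ => ⟨m₁, m₂, rfl, hf, h1, Or.inr hk, hs⟩⟩
    rintro rfl
    obtain rfl : m₁ = 0 := Multiset.card_eq_zero.1 (Nat.le_zero.1 hk)
    rwa [zero_add]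
  · exact Or.inr ⟨m₁, m₂, rfl, hf, Nat.succ_le_of_lt (not_le.1 hk), h2, hs⟩

theorem split_deg {c : Cell} {r : List Cell} {m : Multiset Item} (h : Sat (c :: r) m) (k : ℕ) :
    Sat (⟨c.t, k, c.hi, c.cmin, c.cmax⟩ :: r) m ∨
      ((c.cmax = 1 → Sat (⟨c.t, c.lo, k, 1, 1⟩ :: r) m) ∧ (c.cmax ≠ 1 →
        Sat (⟨c.t, c.lo, k, 1, c.cmax⟩ :: ⟨c.t, k, c.hi, 0, Nat.pred c.cmax⟩ :: r) m)) := by
  classical
  obtain ⟨m₁, m₂, rfl, hf, h1, h2, hs⟩ := h
  by_cases hk : ∀ i ∈ m₁, k ≤ i.2
  · exact Or.inl ⟨m₁, m₂, rfl, fun i hi => ⟨(hf i hi).1, hk i hi, (hf i hi).2.2⟩, h1, h2, hs⟩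
  right
  push Not at hk
  obtain ⟨i, hi, hik⟩ := hk
  have e := Multiset.filter_add_not (fun i : Item => i.2 < k) m₁
  set a := m₁.filter fun i : Item => i.2 < k with ha
  set b := m₁.filter fun i : Item => ¬ i.2 < k with hb
  have ca : 1 ≤ a.card := Multiset.card_pos_iff_exists_mem.2 ⟨i, Multiset.mem_filter.2 ⟨hi, hik⟩⟩
  have cab : a.card + b.card = m₁.card := by rw [← Multiset.card_add, e]
  have fa : ∀ q, ∀ j ∈ a, Fits ⟨c.t, c.lo, k, 1, q⟩ j := fun q j hj =>
    have := Multiset.mem_filter.1 hj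
    ⟨(hf j this.1).1, (hf j this.1).2.1, Or.inr this.2⟩
  refine ⟨fun hc => ?_, fun hc => ?_⟩
  · obtain hb0 : b = 0 := Multiset.card_eq_zero.1 (by omega)
    refine ⟨a, m₂, by rw [← e, hb0, add_zero], fa 1, ca, Or.inr ?_, hs⟩
    change a.card ≤ 1
    omega
  · refine ⟨a, b + m₂, by rw [← e, add_assoc], fa _, ca, ?_, b, m₂, rfl, fun j hj => ?_,
      Nat.zero_le _, ?_, hs⟩
    · change c.cmax = 0 ∨ a.card ≤ c.cmax
      omega
    · have := Multiset.mem_filter.1 hj
      exact ⟨(hf j this.1).1, not_lt.1 this.2, (hf j this.1).2.2⟩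
    · change c.cmax - 1 = 0 ∨ b.card ≤ c.cmax - 1
      omega

theorem go_sound {R : Rhs} {m : Multiset Item} (hE : Eqs R m) : ∀ (f : ℕ) (cs : List Cell)
    (s : List ℕ) (hs : List (List Cell)) (s' : List ℕ), go R f cs s = some (hs, s') → Sat cs m →
      ∃ x ∈ hs, Sat x m
  | 0, _, _, _, _, h, _ => by simp [go] at h
  | _ + 1, _, [], _, _, h, _ => by simp [go] at h
  | f + 1, cs, x :: s, hs, s', h, hsat => by
    simp only [go, fN_eq] at h
    split at h
    · obtain ⟨mu, z₁, e₁⟩ := decode_eq R.g.length (Nat.div x 4) _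
      rw [e₁] at h
      obtain ⟨be, z₂, e₂⟩ := decode_eq R.e.length z₁ _
      rw [e₂] at h
      obtain ⟨ga, z₃, e₃⟩ := decode_eq R.c.length z₂ _
      rw [e₃] at h
      cases hb : (Int.ble' 0 (dot ga (unit R.q)) &&
          leaf mu be ga cs (Int.neg (Int.add (Int.add (dot mu R.g) (dot be R.e)) (dot ga R.c))))
      · rw [hb] at h; simp at h
      · rw [Bool.and_eq_true, ble_iff, dot_unit] at hb
        exact (leaf_false hE hb.1 hb.2 hsat).elim
    · rcases pick_eq cs (Nat.mod (Nat.div x 4) 1024) _ none with e | ⟨c, r, e, hc⟩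
      · rw [e] at h; simp at h
      rw [e] at h
      refine both_sound h (split_count (hc m hsat) (Nat.div (Nat.div x 4) 1024)) ?_ ?_
      · intro h₁ s₁ e₁ hp
        cases hk : Nat.beq (Nat.div (Nat.div x 4) 1024) 0
        · rw [hk] at e₁
          exact go_sound hE f _ _ _ _ e₁ (hp.2 (Nat.ne_of_beq_eq_false hk))
        · rw [hk] at e₁
          exact go_sound hE f _ _ _ _ e₁ (hp.1 (Nat.eq_of_beq_eq_true hk))
      · intro s₀ h₁ s₁ e₁ hq
        exact go_sound hE f _ _ _ _ e₁ hq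
    · rcases pick_eq cs (Nat.mod (Nat.div x 4) 1024) _ none with e | ⟨c, r, e, hc⟩
      · rw [e] at h; simp at h
      rw [e] at h
      refine both_sound h (split_deg (hc m hsat) (Nat.succ (Nat.div (Nat.div x 4) 1024))) ?_ ?_
      · intro h₁ s₁ e₁ hp
        exact go_sound hE f _ _ _ _ e₁ hp
      · intro s₀ h₁ s₁ e₁ hq
        cases hk : Nat.beq c.cmax 1
        · rw [hk] at e₁
          exact go_sound hE f _ _ _ _ e₁ (hq.2 (Nat.ne_of_beq_eq_false hk))
        · rw [hk] at e₁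
          exact go_sound hE f _ _ _ _ e₁ (hq.1 (Nat.eq_of_beq_eq_true hk))
    · cases hz : Nat.beq (Nat.div x 4) 100
      · simp only [hz, cond_false] at h
        cases hsl : slack (unit (Nat.div x 4)) cs (dot (unit (Nat.div x 4)) R.g) with
        | none => simp [hsl] at h
        | some sl =>
          simp only [hsl, fI_eq] at h
          obtain ⟨a, b⟩ := slack_eq hsl
          obtain ⟨l, e, hl⟩ := tight_eq (sl := sl) cs (fun l => go R f l s) a
          rw [e] at h
          exact go_sound hE f _ _ _ _ h (hl m hsat (by rw [hE.dotg, b]))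
      · simp only [hz, cond_true, Option.some.injEq, Prod.mk.injEq] at h
        exact ⟨cs, by rw [← h.1]; exact List.mem_singleton_self _, hsat⟩

theorem done_sound {R : Rhs} {m : Multiset Item} (hE : Eqs R m) {f : ℕ} {cs : List Cell} {s : List ℕ}
    (h : done (go R f cs s) = true) : ¬ Sat cs m := by
  intro hs
  unfold done at h
  split at h
  · next e =>
    obtain ⟨x, hx, -⟩ := go_sound hE f cs s _ _ e hs
    simp at hx
  · simp at h

theorem sat_init : ∀ (ts : List Ty) (m : Multiset Item), (∀ i ∈ m, i.1 ∈ ts) →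
    Sat (ts.map fun t => ⟨t, 0, 0, 0, 0⟩) m
  | [], m, h => Multiset.eq_zero_of_forall_notMem fun i hi => by simpa using h i hi
  | t :: ts, m, h => by
    classical
    refine ⟨m.filter (fun i => i.1 = t), m.filter (fun i => ¬ i.1 = t),
      (Multiset.filter_add_not _ m).symm, fun i hi => ⟨(Multiset.mem_filter.1 hi).2, Nat.zero_le _,
        Or.inl rfl⟩, Nat.zero_le _, Or.inl rfl, sat_init ts _ fun i hi => ?_⟩
    have := Multiset.mem_filter.1 hi
    exact (List.mem_cons.1 (h i this.1)).resolve_left this.2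

end Cfsg.Agent.SC.Ar
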