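import Mathlib

/-!
# The degree equations of the principal block have no solution (automizer of order 3)
-/

namespace Cfsg.Agent.SC.Ar

open Finset

theorem inv_bound {x : ℤ} (L : ℤ) (hL : 0 < L) (h : x ≤ -L ∨ L ≤ x) :
    -(1 / (L : ℚ)) ≤ 1 / (x : ℚ) ∧ 1 / (x : ℚ) ≤ 1 / L := by
  have hL' : (0 : ℚ) < L := by exact_mod_cast hL
  have h0 : (0 : ℚ) < 1 / L := by positivity
  rcases h with h | h
  · have h' : (L : ℚ) ≤ -x := by exact_mod_cast (by omega : L ≤ -x)
    have h1 := one_div_le_one_div_of_le hL' h'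
    have h2 : (0 : ℚ) < 1 / -x := by have := hL'.trans_le h'; positivity
    rw [div_neg] at h1 h2
    constructor <;> linarith
  · have h' : (L : ℚ) ≤ x := by exact_mod_cast h
    have h1 := one_div_le_one_div_of_le hL' h'
    have h2 : (0 : ℚ) < 1 / x := by have := hL'.trans_le h'; positivity
    constructor <;> linarith

theorem z3_fin {a b c x y z : ℤ} (hx : 64 ∣ x + 3 * a + 60) (hx' : 16 ∣ x - a) (hx1 : x ≠ 1)
    (hy : 64 ∣ y + 3 * b + 60) (hy' : 16 ∣ y - b) (hy1 : y ≠ 1) (hz : 64 ∣ z + 3 * c + 12)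
    (hz' : 16 ∣ z - c) (h1 : 1 + a + b + c = 0) (h2 : 1 + a * a + b * b + 5 * (c * c) ≤ 64)
    (h3 : 1 + (a : ℚ) ^ 2 * (1 / x) + (b : ℚ) ^ 2 * (1 / y) + (c : ℚ) ^ 2 * (1 / z) = 0) : False := by
  have a1 : -8 < a := by nlinarith [mul_self_nonneg b, mul_self_nonneg c]
  have a2 : a < 8 := by nlinarith [mul_self_nonneg b, mul_self_nonneg c]
  have c1 : -4 < c := by nlinarith [mul_self_nonneg b, mul_self_nonneg a]
  have c2 : c < 4 := by nlinarith [mul_self_nonneg b, mul_self_nonneg a]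
  obtain rfl : b = -1 - a - c := by omega
  have hc : c = 1 ∨ c = -3 := by omega
  have ha : a = -7 ∨ a = -3 ∨ a = 1 ∨ a = 5 := by omega
  rcases hc with rfl | rfl <;> rcases ha with rfl | rfl | rfl | rfl <;> try omega
  · have := inv_bound (x := x) 13 (by norm_num) (by omega)
    have := inv_bound (x := y) 63 (by norm_num) (by omega)
    have := inv_bound (x := z) 15 (by norm_num) (by omega)
    push_cast at *
    linarith
  · have := inv_bound (x := x) 63 (by norm_num) (by omega)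
    have := inv_bound (x := y) 13 (by norm_num) (by omega)
    have := inv_bound (x := z) 15 (by norm_num) (by omega)
    push_cast at *
    linarith
  · have := inv_bound (x := x) 63 (by norm_num) (by omega)
    have := inv_bound (x := y) 63 (by norm_num) (by omega)
    by_cases h : z = -3
    · subst h
      push_cast at *
      linarith
    · have := inv_bound (x := z) 61 (by norm_num) (by omega)
      push_cast at *
      linarith

theorem z3_row {a b c d e : ℤ} (hb : 4 ∣ b - a) (hc : 4 ∣ c - a) (hd : 4 ∣ d - a) (he : 4 ∣ e - a)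
    (h : (a * a + b * b + c * c + d * d + e * e) ^ 2 + (a + b + c + d + e) ^ 2 ≤
      16 * (a * a + b * b + c * c + d * d + e * e)) :
    ∃ (ε : ℤ) (p : Option (Fin 5)), (ε = 1 ∨ ε = -1 ∨ (ε = 0 ∧ p = none)) ∧
      ∀ j, ![a, b, c, d, e] j = ε - 4 * if p = some j then ε else 0 := by
  have hN : a * a + b * b + c * c + d * d + e * e ≤ 16 := by
    nlinarith [sq_nonneg (a + b + c + d + e)]
  have bd : ∀ x : ℤ, x * x ≤ 16 → -5 < x ∧ x < 5 := fun x hx => by constructor <;> nlinarith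
  have := mul_self_nonneg a; have := mul_self_nonneg b; have := mul_self_nonneg c
  have := mul_self_nonneg d; have := mul_self_nonneg e
  obtain ⟨a1, a2⟩ := bd a (by linarith)
  obtain ⟨b1, b2⟩ := bd b (by linarith)
  obtain ⟨c1, c2⟩ := bd c (by linarith)
  obtain ⟨d1, d2⟩ := bd d (by linarith)
  obtain ⟨e1, e2⟩ := bd e (by linarith)
  have key : ∀ a ∈ Icc (-4 : ℤ) 4, ∀ b ∈ Icc (-4 : ℤ) 4, 4 ∣ b - a → ∀ c ∈ Icc (-4 : ℤ) 4, 4 ∣ c - a →
      ∀ d ∈ Icc (-4 : ℤ) 4, 4 ∣ d - a → ∀ e ∈ Icc (-4 : ℤ) 4, 4 ∣ e - a →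
      (a * a + b * b + c * c + d * d + e * e) ^ 2 + (a + b + c + d + e) ^ 2 ≤
        16 * (a * a + b * b + c * c + d * d + e * e) →
      ∃ ε ∈ Icc (-1 : ℤ) 1, ∃ p : Option (Fin 5), (ε = 1 ∨ ε = -1 ∨ (ε = 0 ∧ p = none)) ∧
        ∀ j, ![a, b, c, d, e] j = ε - 4 * if p = some j then ε else 0 := by decide +kernel
  obtain ⟨ε, -, h⟩ := key a (by simp; omega) b (by simp; omega) hb c (by simp; omega) hc d
    (by simp; omega) hd e (by simp; omega) he h
  exact ⟨ε, h⟩

variable {ι : Type*} [Fintype ι] [DecidableEq ι]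

theorem z3 (o : ι) (t : Fin 5 → ι → ℤ) (A : ι → ℤ) (D m₁ m₃ : ι → ℕ) (m₂ : Fin 5 → ι → ℕ)
    (hot : ∀ j, t j o = 1) (hoA : A o = 1) (hoD : D o = 1) (hD : ∀ i, i ≠ o → D i ≠ 1)
    (hm₁ : ∀ i, 64 * (m₁ i : ℤ) = D i + 3 * A i + 12 * ∑ j, t j i)
    (hm₂ : ∀ j i, 64 * (m₂ j i : ℤ) = D i + 3 * A i + 16 * t j i - 4 * ∑ j, t j i)
    (hm₃ : ∀ i, 16 * (m₃ i : ℤ) = D i - A i)
    (gtt : ∀ j k, ∑ i, t j i * t k i = if j = k then 16 else 0) (gtA : ∀ j, ∑ i, t j i * A i = 0)
    (gAA : ∑ i, A i * A i = 64) (c1 : ∀ j, ∑ i, ((A i ^ 2 * t j i : ℤ) : ℚ) / D i = 0) : False := by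
  have hrow : ∀ i, ∃ (ε : ℤ) (p : Option (Fin 5)), (ε = 1 ∨ ε = -1 ∨ (ε = 0 ∧ p = none)) ∧
      ∀ j, t j i = ε - 4 * if p = some j then ε else 0 := by
    intro i
    by_cases hi : i = o
    · exact ⟨1, none, Or.inl rfl, fun j => by simp [hi, hot]⟩
    have hc : ∀ j, 4 ∣ t j i - t 0 i := fun j => by
      have := hm₂ j i
      have := hm₂ 0 i
      omega
    have h1 : (∑ j, t j i * t j i) ^ 2 + (∑ j, t j i * t j o) ^ 2 ≤
        ∑ i', (∑ j, t j i * t j i') ^ 2 := by
      rw [← sum_pair (f := fun i' => (∑ j, t j i * t j i') ^ 2) hi]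
      exact sum_le_sum_of_subset_of_nonneg (subset_univ _) fun _ _ _ => sq_nonneg _
    have h2 : ∑ i', (∑ j, t j i * t j i') ^ 2 = 16 * ∑ j, t j i * t j i := by
      simp only [sq, sum_mul_sum]
      rw [sum_comm, mul_sum]
      refine sum_congr rfl fun j _ => ?_
      rw [sum_comm, sum_congr rfl fun k _ => show ∑ i', t j i * t j i' * (t k i * t k i') =
        t j i * t k i * ∑ i', t j i' * t k i' by
          rw [mul_sum]; exact sum_congr rfl fun _ _ => by ring]
      simp [gtt, mul_comm]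
    rw [h2] at h1
    simp only [Fin.sum_univ_five, hot, mul_one] at h1
    obtain ⟨ε, p, h3, h4⟩ := z3_row (hc 1) (hc 2) (hc 3) (hc 4) h1
    exact ⟨ε, p, h3, fun j => by rw [← h4]; fin_cases j <;> rfl⟩
  choose e p he ht using hrow
  have he1 : ∀ i j, p i = some j → e i * e i = 1 := fun i j h => by
    rcases he i with h1 | h1 | ⟨-, h1⟩
    · simp [h1]
    · simp [h1]
    · simp [h1] at h
  have hP : ∀ j k, j ≠ k → #{i | p i = some j} + #{i | p i = some k} = 2 := by
    intro j k hjk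
    have h1 : ∑ i, (t j i * t j i + t k i * t k i - 2 * (t j i * t k i)) = 32 := by
      simp [sum_add_distrib, sum_sub_distrib, ← mul_sum, gtt, hjk]
    rw [sum_congr rfl fun i _ => show t j i * t j i + t k i * t k i - 2 * (t j i * t k i) =
      16 * ((if p i = some j then 1 else 0) + if p i = some k then 1 else 0) by
        rw [ht, ht]
        by_cases a : p i = some j
        · rw [if_pos a, if_pos a, if_neg (by simpa [a] using hjk), if_neg (by simpa [a] using hjk)]
          linear_combination 16 * he1 i j a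
        · rw [if_neg a, if_neg a]
          split_ifs with b
          · linear_combination 16 * he1 i k b
          · ring, ← mul_sum, sum_add_distrib] at h1
    simp only [sum_boole] at h1
    omega
  have hP1 : ∀ j, #{i | p i = some j} = 1 := fun j => by
    have h : ∀ j : Fin 5, j ≠ j + 1 ∧ j ≠ j + 2 ∧ j + 1 ≠ j + 2 := by decide
    have := hP j (j + 1) (h j).1
    have := hP j (j + 2) (h j).2.1
    have := hP (j + 1) (j + 2) (h j).2.2
    omega
  choose ψ hψ using fun j => card_eq_one.1 (hP1 j)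
  have hψ' : ∀ j i, p i = some j ↔ i = ψ j := fun j i => by
    simpa using congrArg (i ∈ ·) (hψ j)
  have hsum : ∀ {K : Type} [AddCommMonoid K] (F : ι → K),
      ∑ i, F i = ∑ i with p i = none, F i + ∑ j, F (ψ j) := by
    intro K _ F
    rw [← sum_fiberwise (s := univ) (g := p), Fintype.sum_option]
    simp [hψ]
  have hpo : p o = none ∧ e o = 1 := by
    cases h : p o with
    | none => exact ⟨rfl, by have := ht o 0; simp [h, hot] at this; omega⟩
    | some j =>
      have a := ht o j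
      have b := ht o (j + 1)
      rw [hot, h, if_pos rfl] at a
      omega
  have hQ : #{i | p i = none ∧ e i ≠ 0} = 3 := by
    have h1 := gtt 0 0
    rw [hsum, if_pos rfl, sum_congr rfl (g := fun i => if e i ≠ 0 then 1 else 0) fun i hi => by
      have := (mem_filter.1 hi).2
      rw [ht, this]
      rcases he i with h | h | ⟨h, -⟩ <;> simp [h], sum_congr (s₁ := univ) rfl
        (g := fun j : Fin 5 => if j = 0 then 9 else 1) fun j _ => by
      have a := (hψ' j _).2 rfl
      have b := he1 _ _ a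
      rw [ht, a]
      by_cases h : j = 0
      · rw [if_pos h, if_pos (by rw [h])]
        linear_combination 9 * b
      · rw [if_neg h, if_neg (by simpa using h)]
        linear_combination b, sum_boole, filter_filter] at h1
    simp only [Fin.sum_univ_five, Fin.reduceEq, if_true, if_false] at h1
    omega
  obtain ⟨η₁, η₂, h12, hη⟩ := card_eq_two.1 (show #(({i | p i = none ∧ e i ≠ 0} : Finset ι).erase o) = 2 by
    rw [card_erase_of_mem (by simp [hpo]), hQ])
  have hη' : ∀ i, (i ≠ o ∧ p i = none ∧ e i ≠ 0) ↔ (i = η₁ ∨ i = η₂) := fun i => by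
    simpa using congrArg (i ∈ ·) hη
  obtain ⟨a1, a2, a3⟩ := (hη' η₁).2 (Or.inl rfl)
  obtain ⟨b1, b2, b3⟩ := (hη' η₂).2 (Or.inr rfl)
  have hsub : ({o, η₁, η₂} : Finset ι) ⊆ univ.filter fun i => p i = none := by
    intro i hi
    simp only [mem_insert, mem_singleton] at hi
    rcases hi with rfl | rfl | rfl <;> simp [*]
  have h3 : ∀ {K : Type} [AddCommMonoid K] (F : ι → K), ∑ i ∈ {o, η₁, η₂}, F i = F o + F η₁ + F η₂ := by
    intro K _ F
    rw [sum_insert (by simp [a1.symm, b1.symm]), sum_pair h12, add_assoc]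
  have key : ∀ F : ι → ℚ, (∀ j, ∑ i, (t j i : ℚ) * F i = 0) →
      (∀ j, e (ψ j) * F (ψ j) = e (ψ 0) * F (ψ 0)) ∧
        F o + e η₁ * F η₁ + e η₂ * F η₂ + e (ψ 0) * F (ψ 0) = 0 := by
    intro F hF
    have h1 : ∀ j, ∑ i, (e i : ℚ) * F i = 4 * (e (ψ j) * F (ψ j)) := fun j => by
      have := hF j
      simp only [ht, hψ', Int.cast_sub, Int.cast_mul, Int.cast_ite, sub_mul, mul_assoc, ite_mul,
        sum_sub_distrib, ← mul_sum, Int.cast_zero, zero_mul, sum_ite_eq', mem_univ, if_true] at this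
      push_cast at this
      linarith
    have h2 := hsum fun i => (e i : ℚ) * F i
    rw [← sum_subset hsub fun i hi hi' => by
      have : e i = 0 := by
        by_contra h
        simp only [mem_insert, mem_singleton, not_or] at hi'
        rcases (hη' i).1 ⟨hi'.1, (mem_filter.1 hi).2, h⟩ with h | h
        exacts [hi'.2.1 h, hi'.2.2 h]
      simp [this], h3, Fin.sum_univ_five, hpo.2] at h2
    refine ⟨fun j => by linarith [h1 j, h1 0], ?_⟩
    push_cast at h2
    linarith [h1 0, h1 1, h1 2, h1 3, h1 4]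
  obtain ⟨k1, k2⟩ := key (fun i => A i) fun j => by exact_mod_cast gtA j
  obtain ⟨-, k3⟩ := key (fun i => (A i : ℚ) ^ 2 / D i) fun j => by
    rw [← c1 j]
    exact sum_congr rfl fun i _ => by push_cast; ring
  have k1' : ∀ j, A (ψ j) * A (ψ j) = e (ψ 0) * A (ψ 0) * (e (ψ 0) * A (ψ 0)) := fun j => by
    have a : e (ψ j) * A (ψ j) = e (ψ 0) * A (ψ 0) := by exact_mod_cast k1 j
    rw [← a]
    linear_combination (-A (ψ j) * A (ψ j)) * he1 _ _ ((hψ' j _).2 rfl)
  have hb : A o * A o + A η₁ * A η₁ + A η₂ * A η₂ ≤ ∑ i with p i = none, A i * A i := by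
    rw [← h3 fun i => A i * A i]
    exact sum_le_sum_of_subset_of_nonneg hsub fun _ _ _ => mul_self_nonneg _
  rw [hsum] at gAA
  simp only [k1', sum_const, card_univ, Fintype.card_fin, nsmul_eq_mul] at gAA
  have e1 : e η₁ = 1 ∨ e η₁ = -1 := by have := he η₁; tauto
  have e2 : e η₂ = 1 ∨ e η₂ = -1 := by have := he η₂; tauto
  have p0 := (hψ' 0 _).2 rfl
  have e3 : e (ψ 0) = 1 ∨ e (ψ 0) = -1 := by have := he (ψ 0); simp only [p0] at this; tauto
  have cong : ∀ i, p i = none → i ≠ o → (e i = 1 ∨ e i = -1) →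
      64 ∣ e i * D i + 3 * (e i * A i) + 60 ∧ 16 ∣ e i * D i - e i * A i ∧ e i * D i ≠ 1 := by
    intro i h1 h2 h3
    have a := hm₁ i
    have b := hm₃ i
    have c := hD i h2
    simp only [ht, h1, Fin.sum_univ_five, reduceCtorEq, if_false] at a
    rcases h3 with h | h <;> rw [h] at a ⊢ <;> omega
  have sq : ∀ i, (e i = 1 ∨ e i = -1) → (e i : ℚ) * ((A i : ℚ) ^ 2 / D i) =
      ((e i * A i : ℤ) : ℚ) ^ 2 * (1 / ((e i * D i : ℤ) : ℚ)) := fun i h => by
    rcases h with h | h <;> rw [h] <;> push_cast <;> ring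
  have c0 : 64 ∣ e (ψ 0) * D (ψ 0) + 3 * (e (ψ 0) * A (ψ 0)) + 12 ∧
      16 ∣ e (ψ 0) * D (ψ 0) - e (ψ 0) * A (ψ 0) := by
    have a := hm₁ (ψ 0)
    have b := hm₃ (ψ 0)
    simp only [ht, p0, Fin.sum_univ_five, Option.some.injEq, Fin.reduceEq, if_true, if_false] at a
    rcases e3 with h | h <;> rw [h] at a ⊢ <;> omega
  obtain ⟨x1, x2, x3⟩ := cong η₁ a2 a1 e1
  obtain ⟨y1, y2, y3⟩ := cong η₂ b2 b1 e2
  refine z3_fin x1 x2 x3 y1 y2 y3 c0.1 c0.2 ?_ ?_ ?_
  · rw [hoA] at k2
    exact_mod_cast k2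
  · have a : e η₁ * A η₁ * (e η₁ * A η₁) = A η₁ * A η₁ := by rcases e1 with h | h <;> simp [h]
    have b : e η₂ * A η₂ * (e η₂ * A η₂) = A η₂ * A η₂ := by rcases e2 with h | h <;> simp [h]
    rw [hoA] at hb
    push_cast at gAA
    linarith
  · rw [← sq _ e1, ← sq _ e2, ← sq _ e3, ← k3, hoA, hoD]
    norm_num

end Cfsg.Agent.SC.Ar
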