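import Cfsg.Agent.Lib.SC.Defs
import Cfsg.Agent.Lib.SF.ThmA
import Cfsg.Agent.Lib.Transfer.ZCor

/-! Strongly closed 2-subgroups: standard facts, control of fusion, Lemma N. -/

set_option autoImplicit false
set_option linter.unusedSectionVars false
set_option linter.unusedVariables false

namespace Cfsg.Agent.SC

open Subgroup Cfsg.Agent.FT Cfsg.Agent.SF.GP
open Cfsg.Agent.Tr (SylowIn)

variable {G : Type*} [Group G]

/-- `Z` is the part of the family `T` in every 2-subgroup containing it. -/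
structure Scl (T : Set G) (Z : Subgroup G) : Prop where
  fam : Fam T
  two : IsPGroup 2 Z
  sub : ∀ z ∈ Z, z ∈ T
  max : ∀ P : Subgroup G, IsPGroup 2 P → Z ≤ P → ∀ t ∈ T, t ∈ P → t ∈ Z

/-- a strongly closed four-group -/
structure F4 (T : Set G) (Z : Subgroup G) : Prop extends Scl T Z where
  four : IsKleinFour Z

/-- `Z` is a maximal 2-subgroup of `H` -/
def Mx (Z H : Subgroup G) : Prop := ∀ P : Subgroup G, IsPGroup 2 P → Z ≤ P → P ≤ H → P ≤ Z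

theorem odd_of_not_two {n : ℕ} (h : n.Coprime 2) : Odd n := Nat.coprime_two_right.1 h

theorem pgroup_sup_elt {P : Subgroup G} {x : G} (hP : IsPGroup 2 P) (hx : IsPGroup 2 (zpowers x))
    (h : x ∈ 𝐍(P)) : IsPGroup 2 ↥(P ⊔ zpowers x) := isPGroup_sup hP hx (cycle_subG.2 h)

theorem mem_sup_elt (P : Subgroup G) (x : G) : x ∈ P ⊔ zpowers x := mem_sup_right (mem_zpowers x)

variable [Finite G]

theorem mx_of_sylowIn {Z H : Subgroup G} (h : SylowIn 2 Z H) : Mx Z H :=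
  fun _ hP h1 h2 => (h.eq_of_le hP h1 h2).le

theorem Mx.sylowIn {Z H : Subgroup G} (h : Mx Z H) (h2 : IsPGroup 2 Z) (hH : Z ≤ H) :
    SylowIn 2 Z H := Tr.sylowIn_of_maximal h2 hH fun Q hQ h3 h4 => le_antisymm (h Q hQ h3 h4) h3

theorem Mx.mem {Z H : Subgroup G} (h : Mx Z H) (h2 : IsPGroup 2 Z) (hH : Z ≤ H) {x : G}
    (hx : IsPGroup 2 (zpowers x)) (hxH : x ∈ H) (hn : x ∈ 𝐍(Z)) : x ∈ Z :=
  h _ (pgroup_sup_elt h2 hx hn) le_sup_left (sup_le hH (cycle_subG.2 hxH)) (mem_sup_elt Z x)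

/-- the 2-part and the odd part -/
theorem exists_parts (x : G) : ∃ u ∈ zpowers x, ∃ v ∈ zpowers x, IsPGroup 2 (zpowers u) ∧
    Odd (orderOf v) ∧ x = u * v := by
  obtain ⟨u, hu, v, hv, ⟨k, hk⟩, h2, e⟩ := Tr.exists_p_part (p := 2) x
  exact ⟨u, hu, v, hv, Tr.isPGroup_zpowers hk, odd_of_not_two h2, e⟩

theorem scl_of_sc {S : Sylow 2 G} {Z : Subgroup G} (h : IsStronglyClosed Z (S : Subgroup G)) :
    Scl (cl Z) Z where
  fam := fam_cl h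
  two := pgroup_sub h.1 S.isPGroup'
  sub z hz := mem_cl hz
  max P hP hZP t ht htP := by
    obtain ⟨k, hk⟩ := conj_into S hP
    have h1 : cj k Z = Z := Tr.cj_eq_of_le (Tr.cj_le_iff.2 fun z hz =>
      mem_of_cl h (cl_conj (mem_cl hz) k) (hk z (hZP hz)))
    exact (memJ_norm (Tr.cj_eq_iff.1 h1)).1 (mem_of_cl h (cl_conj ht k) (hk t htP))

theorem exists_lift' {G' : Type*} [Group G'] [Finite G'] (f : G →* G') {P' : Subgroup G'}
    (hP' : IsPGroup 2 P') {Z : Subgroup G} (hZ : IsPGroup 2 Z) (h : Z.map f ≤ P') :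
    ∃ P : Subgroup G, IsPGroup 2 P ∧ Z ≤ P ∧ ∀ x : G, IsPGroup 2 (zpowers x) → f x ∈ P' →
      ∃ n ∈ f.ker, n * x * n⁻¹ ∈ P := by
  obtain ⟨P, hP, hZP⟩ := Sylow_superset (K := P'.comap f) (map_le_iff_le_comap.1 h) hZ
  refine ⟨P, hP.pgroup, hZP, fun x hx hx' => ?_⟩
  obtain ⟨g, hg, hgP⟩ := Sylow_Jsub hP (cycle_subG.2 hx') hx
  have h1 : MulEq P f.ker (P'.comap f) := Sylow_mulEq hP (ker_le_comap f P') (by
    rw [relIndex_ker]
    exact piG_of_isPGroup (pgroup_sub (map_comap_le f P') hP'))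
  obtain ⟨p, hp, n, hn, rfl⟩ := h1.exists hg
  rw [Tr.cj_mul, Tr.cj_le_iff_le_cj_inv, Tr.cj_eq_of_mem (inv_mem hp)] at hgP
  exact ⟨n, hn, hgP (Tr.conj_mem_cj.2 (mem_zpowers x))⟩

namespace Scl

variable {T : Set G} {Z : Subgroup G} (h : Scl T Z)
include h

theorem sc {S : Subgroup G} (hS : IsPGroup 2 S) (hZ : Z ≤ S) : IsStronglyClosed Z S :=
  ⟨hZ, fun x hx g hg => h.max S hS hZ _ (h.fam.conj x (h.sub x hx) g) hg⟩

theorem cj (g : G) : Scl T (cj g Z) where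
  fam := h.fam
  two := Tr.isPGroup_cj g h.two
  sub z hz := by
    obtain ⟨a, ha, rfl⟩ := Tr.mem_cj'.1 hz
    exact h.fam.conj a (h.sub a ha) g
  max P hP hZ t ht htP := Tr.mem_cj.2 (h.max (Tr.cj g⁻¹ P) (Tr.isPGroup_cj _ hP)
    (by rwa [← Tr.cj_le_iff_le_cj_inv]) _ (h.fam.conj' ht g)
    (by simpa using (Tr.conj_mem_cj (g := g⁻¹)).2 htP))

theorem eq_of_le {Z' P : Subgroup G} (h' : Scl T Z') (hP : IsPGroup 2 P) (h1 : Z ≤ P)
    (h2 : Z' ≤ P) : Z' = Z :=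
  le_antisymm (fun z hz => h.max P hP h1 z (h'.sub z hz) (h2 hz))
    fun z hz => h'.max P hP h2 z (h.sub z hz) (h1 hz)

/-- conjugacy in any subgroup containing both -/
theorem conj_eq {Z' H : Subgroup G} (h' : Scl T Z') (h1 : Z ≤ H) (h2 : Z' ≤ H) :
    ∃ c ∈ H, Tr.cj c Z' = Z := by
  obtain ⟨P, hP, hZP⟩ := Tr.exists_sylowIn_ge h.two h1
  obtain ⟨c, hc, h3⟩ := hP.exists_cj_le h'.two h2
  exact ⟨c, hc, h.eq_of_le (h'.cj c) hP.isPGroup hZP h3⟩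

theorem conj_mem {H : Subgroup G} (h1 : Z ≤ H) {t : G} (ht : t ∈ T) (htH : t ∈ H) :
    ∃ c ∈ H, c * t * c⁻¹ ∈ Z := by
  obtain ⟨P, hP, hZP⟩ := Tr.exists_sylowIn_ge h.two h1
  obtain ⟨c, hc, h3⟩ := hP.exists_cj_le (h.fam.two t ht) (cycle_subG.2 htH)
  exact ⟨c, hc, h.max P hP.isPGroup hZP _ (h.fam.conj t ht c)
    (h3 (Tr.conj_mem_cj.2 (mem_zpowers t)))⟩

theorem norm_le {P : Subgroup G} (hP : IsPGroup 2 P) (h1 : Z ≤ P) : 𝐍(P) ≤ 𝐍(Z) := fun g hg =>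
  Tr.cj_eq_iff.1 (h.eq_of_le (h.cj g) hP h1 (Tr.cj_eq_iff.2 hg ▸ Tr.cj_mono g h1))

theorem le_norm {P : Subgroup G} (hP : IsPGroup 2 P) (h1 : Z ≤ P) : P ≤ 𝐍(Z) :=
  (normG P).trans (h.norm_le hP h1)

theorem mem_of_norm {t : G} (ht : t ∈ T) (hn : t ∈ 𝐍(Z)) : t ∈ Z :=
  h.max _ (pgroup_sup_elt h.two (h.fam.two t ht) hn) le_sup_left t ht (mem_sup_elt Z t)

theorem le_NN {H : Subgroup G} (hZ : Z ≤ H) : Z ≤ NN T H := SF.GP.le_NN h.sub hZ

theorem NN_le {H K : Subgroup G} (hZ : Z ≤ H) (hK : Z ≤ K) (hn : H ≤ 𝐍(K)) : NN T H ≤ K :=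
  NN_le_iff.2 fun t ht htH => by
    obtain ⟨c, hc, h1⟩ := h.conj_mem hZ ht htH
    exact (memJ_norm (hn hc)).1 (hK h1)

theorem subgroupOf {H : Subgroup G} (hZ : Z ≤ H) : Scl (H.subtype ⁻¹' T) (Z.subgroupOf H) where
  fam := h.fam.comap _ H.subtype_injective
  two := Tr.isPGroup_subgroupOf h.two H
  sub z hz := h.sub _ hz
  max P hP h1 t ht htP := h.max (P.map H.subtype) (hP.map _)
    (fun z hz => ⟨⟨z, hZ hz⟩, h1 hz, rfl⟩) _ ht (mem_map_of_mem _ htP)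

theorem image {G' : Type*} [Group G'] [Finite G'] {f : G →* G'} (hf : Function.Surjective f) :
    Scl (f '' T) (Z.map f) where
  fam := h.fam.image hf
  two := h.two.map f
  sub := by
    rintro _ ⟨z, hz, rfl⟩
    exact ⟨z, h.sub z hz, rfl⟩
  max := by
    rintro P' hP' h1 _ ⟨t, ht, rfl⟩ htP
    obtain ⟨P, hP, hZP, h2⟩ := exists_lift' f hP' h.two h1
    obtain ⟨n, hn, h3⟩ := h2 t (h.fam.two t ht) htP
    exact ⟨_, h.max P hP hZP _ (h.fam.conj t ht n) h3, map_conj_ker f hn t⟩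

/-- `N(Z)` controls the fusion in `C(Z)` -/
theorem control {H A : Subgroup G} (hZ : Z ≤ H) {g : G} (hg : g ∈ H) (h1 : A ≤ 𝐂(Z))
    (h2 : Tr.cj g A ≤ 𝐂(Z)) :
    ∃ n ∈ H, n ∈ 𝐍(Z) ∧ ∀ a ∈ A, n * a * n⁻¹ = g * a * g⁻¹ := by
  obtain ⟨c, hc, h3⟩ := h.conj_eq (h.cj g) (H := H ⊓ 𝐂(Tr.cj g A)) (le_inf hZ (centsC.1 h2))
    (le_inf (Tr.cj_le_of_mem hZ hg) (by rw [centJ]; exact Tr.cj_mono g (centsC.1 h1)))
  refine ⟨c * g, mul_mem hc.1 hg, Tr.cj_eq_iff.1 (by rw [Tr.cj_mul, h3]), fun a ha => ?_⟩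
  have := mem_cent.1 hc.2 _ (Tr.conj_mem_cj (g := g).2 ha)
  calc c * g * a * (c * g)⁻¹ = c * (g * a * g⁻¹) * c⁻¹ := by group
    _ = _ := by rw [← this, mul_inv_cancel_right]

theorem control1 {H : Subgroup G} (hZ : Z ≤ H) {g x : G} (hg : g ∈ H) (h1 : x ∈ 𝐂(Z))
    (h2 : g * x * g⁻¹ ∈ 𝐂(Z)) : ∃ n ∈ H, n ∈ 𝐍(Z) ∧ n * x * n⁻¹ = g * x * g⁻¹ := by
  obtain ⟨n, hn, h3, h4⟩ := h.control hZ hg (cycle_subG.2 h1)
    (by rw [Tr.cj_zpowers]; exact cycle_subG.2 h2)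
  exact ⟨n, hn, h3, h4 x (mem_zpowers x)⟩

/-- a Frattini argument -/
theorem frattini {H K : Subgroup G} (hZ : Z ≤ K) (hK : K ⊴ H) {g : G} (hg : g ∈ H) :
    ∃ k ∈ K, k * g ∈ 𝐍(Z) := by
  obtain ⟨c, hc, h1⟩ := h.conj_eq (h.cj g) hZ (hK.cj_eq hg ▸ Tr.cj_mono g hZ)
  exact ⟨c, hc, Tr.cj_eq_iff.1 (by rw [Tr.cj_mul, h1])⟩

end Scl

theorem mem_core_iff {H : Subgroup G} (y : H) : y ∈ 𝐎((⊤ : Subgroup H)) ↔ (y : G) ∈ 𝐎(H) := by
  rw [pcore_eq_map_top _ H]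
  exact (mem_map_iff_mem H.subtype_injective).symm

theorem core_quot : 𝐎((⊤ : Subgroup (G ⧸ oddCore G))) = ⊥ :=
  core_top_eq.trans (Fit.pPrimeCore_quotient_pPrimeCore 2 G)

theorem odd_oddCore : Odd #|oddCore G| := core_top_eq (G := G) ▸ odd_core (⊤ : Subgroup G)

namespace F4

variable {T : Set G} {Z : Subgroup G} (h : F4 T Z)
include h

theorem sq {z : G} (hz : z ∈ Z) : z * z = 1 := TwoGrp.kleinFour_mul_self h.four hz
theorem inv {z : G} (hz : z ∈ Z) : z⁻¹ = z := Tr.inv_eq_of_mul_self (h.sq hz)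
theorem comm {a b : G} (ha : a ∈ Z) (hb : b ∈ Z) : a * b = b * a :=
  TwoGrp.kleinFour_comm h.four ha hb
theorem order {z : G} (hz : z ∈ Z) (h1 : z ≠ 1) : orderOf z = 2 := four_order h.four hz h1
theorem cent : Z ≤ 𝐂(Z) := four_cent h.four
theorem cent1 {z : G} (hz : z ∈ Z) : Z ≤ 𝐂[z] := four_cent1 h.four hz
theorem ne_bot : Z ≠ ⊥ := four_ne_bot h.four
theorem card : #|Z| = 4 := h.four.card_four
theorem mem_iff {a b : G} (ha : a ∈ Z) (hb : b ∈ Z) (ha1 : a ≠ 1) (hb1 : b ≠ 1) (hab : a ≠ b)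
    (x : G) : x ∈ Z ↔ x = 1 ∨ x = a ∨ x = b ∨ x = a * b :=
  TwoGrp.kleinFour_mem_iff h.four ha hb ha1 hb1 hab x
theorem exists_ne (a : G) : ∃ b ∈ Z, b ≠ 1 ∧ b ≠ a := TwoGrp.kleinFour_exists_ne h.four a

theorem cj (g : G) : F4 T (cj g Z) := ⟨h.toScl.cj g, four_cj h.four g⟩

theorem tsq {t : G} (ht : t ∈ T) : t * t = 1 := by
  obtain ⟨c, -, h1⟩ := h.conj_mem le_top ht (mem_top t)
  have := h.sq h1
  calc t * t = c⁻¹ * (c * t * c⁻¹ * (c * t * c⁻¹)) * c := by group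
    _ = 1 := by rw [this]; group

theorem subgroupOf {H : Subgroup G} (hZ : Z ≤ H) : F4 (H.subtype ⁻¹' T) (Z.subgroupOf H) :=
  ⟨h.toScl.subgroupOf hZ, TwoGrp.isKleinFour_of_equiv (subgroupOfEquivOfLe hZ).symm h.four⟩

theorem image {G' : Type*} [Group G'] [Finite G'] {f : G →* G'} (hf : Function.Surjective f)
    (hk : ∀ z ∈ Z, f z = 1 → z = 1) : F4 (f '' T) (Z.map f) := by
  refine ⟨h.toScl.image hf, ?_⟩
  obtain ⟨a, ha, b, hb, a1, b1, hab⟩ := TwoGrp.kleinFour_exists h.four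
  refine TwoGrp.isKleinFour_of_mem_iff (a := f a) (b := f b) (by rw [← map_mul, h.sq ha, map_one])
    (by rw [← map_mul, h.sq hb, map_one]) (by rw [← map_mul, h.comm ha hb, map_mul])
    (fun e => a1 (hk a ha e)) (fun e => b1 (hk b hb e)) (fun e => hab ?_) fun x => ⟨?_, ?_⟩
  · have := hk _ (mul_mem ha (inv_mem hb)) (by rw [map_mul, map_inv, e, mul_inv_cancel])
    exact mul_inv_eq_one.1 this
  · rintro ⟨z, hz, rfl⟩
    rcases (h.mem_iff ha hb a1 b1 hab z).1 hz with rfl | rfl | rfl | rfl <;> simp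
  · rintro (rfl | rfl | rfl | rfl)
    exacts [one_mem _, mem_map_of_mem f ha, mem_map_of_mem f hb,
      by rw [← map_mul]; exact mem_map_of_mem f (mul_mem ha hb)]

theorem quot_odd : F4 (QuotientGroup.mk' (oddCore G) '' T) (Z.map (QuotientGroup.mk' (oddCore G))) :=
  h.image (QuotientGroup.mk'_surjective _) fun z hz e =>
    eq_one_of_odd odd_oddCore h.two ((QuotientGroup.eq_one_iff z).1 e) hz

/-- an element fixing two involutions centralizes `Z` -/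
theorem mem_cent_of {a b g : G} (ha : a ∈ Z) (hb : b ∈ Z) (ha1 : a ≠ 1) (hb1 : b ≠ 1)
    (hab : a ≠ b) (h1 : g * a * g⁻¹ = a) (h2 : g * b * g⁻¹ = b) : g ∈ 𝐂(Z) := by
  refine mem_cent.2 fun z hz => (mem_cent1.1 (cent1_conj.2 ?_)).symm
  rcases (h.mem_iff ha hb ha1 hb1 hab z).1 hz with rfl | rfl | rfl | rfl
  · simp
  · exact h1
  · exact h2
  · rw [← conj_mul, h1, h2]

/-- a normalizing element fixing `a` moves `b` to `b` or `a * b` -/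
theorem conj_cases {a b g : G} (ha : a ∈ Z) (hb : b ∈ Z) (ha1 : a ≠ 1) (hb1 : b ≠ 1)
    (hab : a ≠ b) (hg : g ∈ 𝐍(Z)) (h1 : g * a * g⁻¹ = a) :
    g * b * g⁻¹ = b ∨ g * b * g⁻¹ = a * b := by
  rcases (h.mem_iff ha hb ha1 hb1 hab _).1 ((memJ_norm hg).2 hb) with e | e | e | e
  · exact absurd (by simpa using e) hb1
  · rw [← h1] at e
    exact absurd (by simpa using e.symm) hab
  · exact Or.inl e
  · exact Or.inr e

theorem mul_mem_cent {a g k : G} (ha : a ∈ Z) (ha1 : a ≠ 1) (hg : g ∈ 𝐍(Z)) (hk : k ∈ 𝐍(Z))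
    (h1 : g * a * g⁻¹ = a) (h2 : k * a * k⁻¹ = a) (hg' : g ∉ 𝐂(Z)) (hk' : k ∉ 𝐂(Z)) :
    g * k ∈ 𝐂(Z) := by
  obtain ⟨b, hb, hb1, hab⟩ := h.exists_ne a
  have e1 := (h.conj_cases ha hb ha1 hb1 hab.symm hg h1).resolve_left
    fun e => hg' (h.mem_cent_of ha hb ha1 hb1 hab.symm h1 e)
  have e2 := (h.conj_cases ha hb ha1 hb1 hab.symm hk h2).resolve_left
    fun e => hk' (h.mem_cent_of ha hb ha1 hb1 hab.symm h2 e)
  refine h.mem_cent_of ha hb ha1 hb1 hab.symm ?_ ?_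
  · calc g * k * a * (g * k)⁻¹ = g * (k * a * k⁻¹) * g⁻¹ := by group
      _ = a := by rw [h2, h1]
  · calc g * k * b * (g * k)⁻¹ = g * (k * b * k⁻¹) * g⁻¹ := by group
      _ = b := by rw [e2, ← conj_mul, h1, e1, ← mul_assoc, h.sq ha, one_mul]

theorem exists_fuse {H : Subgroup G} (hZ : Z ≤ H) {a : G} (ha : a ∈ Z) (ha1 : a ≠ 1)
    (hi : ¬ IsIsolatedInvolution (⟨a, hZ ha⟩ : H)) :
    ∃ n ∈ H, n ∈ 𝐍(Z) ∧ n * a * n⁻¹ ≠ a := by
  by_contra hcon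
  push Not at hcon
  refine hi ⟨by rw [← orderOf_coe]; exact h.order ha ha1, fun g hg => Subtype.ext ?_⟩
  have hc : a * (g * a * (g : G)⁻¹) = g * a * (g : G)⁻¹ * a := congrArg Subtype.val hg.eq
  obtain ⟨c, hc', h1⟩ := h.conj_mem (H := H ⊓ 𝐂[a]) (le_inf hZ (h.cent1 ha))
    (h.fam.conj a (h.sub a ha) g) (mem_inf.2 ⟨mul_mem (mul_mem g.2 (hZ ha)) (inv_mem g.2),
      mem_cent1.2 hc.symm⟩)
  have e : c * g * a * (c * g)⁻¹ = c * (g * a * (g : G)⁻¹) * c⁻¹ := by group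
  obtain ⟨n, hn, h2, h3⟩ := h.control1 hZ (mul_mem hc'.1 g.2) (h.cent ha) (h.cent (e ▸ h1))
  rw [hcon n hn h2, e] at h3
  have h4 := cent1_conj.1 (inv_mem hc'.2)
  change g * a * (g : G)⁻¹ = a
  calc g * a * (g : G)⁻¹ = c⁻¹ * (c * (g * a * (g : G)⁻¹) * c⁻¹) * c⁻¹⁻¹ := by group
    _ = a := by rw [← h3, h4]

/-- if no involution of `Z` is fixed by `N_H(Z)`, they are all conjugate -/
theorem fused_of {H : Subgroup G} (hf : ∀ a ∈ Z, a ≠ 1 → ∃ n ∈ H, n ∈ 𝐍(Z) ∧ n * a * n⁻¹ ≠ a)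
    {a b : G} (ha : a ∈ Z) (ha1 : a ≠ 1) (hb : b ∈ Z) (hb1 : b ≠ 1) :
    ∃ n ∈ H, n ∈ 𝐍(Z) ∧ n * a * n⁻¹ = b := by
  by_cases hab : a = b
  · exact ⟨1, one_mem _, one_mem _, by simpa using hab⟩
  obtain ⟨n, hn, hn', h1⟩ := hf a ha ha1
  obtain ⟨m, hm, hm', h2⟩ := hf b hb hb1
  rcases (h.mem_iff ha hb ha1 hb1 hab _).1 ((memJ_norm hn').2 ha) with e | e | e | e
  · exact absurd (by simpa using e) ha1
  · exact absurd e h1
  · exact ⟨n, hn, hn', e⟩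
  rcases (h.mem_iff ha hb ha1 hb1 hab _).1 ((memJ_norm hm').2 hb) with e' | e' | e' | e'
  · exact absurd (by simpa using e') hb1
  · exact ⟨m⁻¹, inv_mem hm, inv_mem hm', by rw [← e']; group⟩
  · exact absurd e' h2
  · refine ⟨m⁻¹ * n, mul_mem (inv_mem hm) hn, mul_mem (inv_mem hm') hn', ?_⟩
    calc m⁻¹ * n * a * (m⁻¹ * n)⁻¹ = m⁻¹ * (n * a * n⁻¹) * m := by group
      _ = b := by rw [e, ← e']; group

theorem lemN0 (hO : 𝐎((⊤ : Subgroup G)) = ⊥) {a : G} (ha : a ∈ Z) (ha1 : a ≠ 1)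
    (hc : a ∈ center G) : Z.Normal := by
  have hA : zpowers a ≤ center G := cycle_subG.2 hc
  have hA2 : IsPGroup 2 (zpowers a) := pgroup_mem h.two ha
  have : (zpowers a).Normal := ⟨fun y hy g => by
    rwa [mem_center_iff.1 (hA hy) g, mul_inv_cancel_right]⟩
  have hAZ : zpowers a ≤ Z := cycle_subG.2 ha
  have hf := QuotientGroup.mk'_surjective (zpowers a)
  have h' := h.toScl.image hf
  refine ⟨fun z hz g => ?_⟩
  by_cases hza : z ∈ zpowers a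
  · exact hAZ (this.conj_mem z hza g)
  have hmem : ∀ y ∈ Z, y ∉ zpowers a → QuotientGroup.mk' (zpowers a) y =
      QuotientGroup.mk' (zpowers a) z := fun y hy hya => by
    rcases (h.mem_iff ha hz ha1 (fun e => hza (e ▸ one_mem _))
      (fun e => hza (e ▸ mem_zpowers a)) y).1 hy with rfl | rfl | rfl | rfl
    · exact absurd (one_mem _) hya
    · exact absurd (mem_zpowers _) hya
    · rfl
    · rw [map_mul, QuotientGroup.mk'_apply _ a, (QuotientGroup.eq_one_iff a).2 (mem_zpowers a),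
        one_mul]
  have hz2 : QuotientGroup.mk' (zpowers a) z * QuotientGroup.mk' (zpowers a) z = 1 := by
    rw [← map_mul, h.sq hz, map_one]
  have hz1 : QuotientGroup.mk' (zpowers a) z ≠ 1 := fun e => hza ((QuotientGroup.eq_one_iff z).1 e)
  have hi : IsIsolatedInvolution (QuotientGroup.mk' (zpowers a) z) :=
    ⟨Tr.orderOf_eq_two hz2 hz1, fun k hk => by
      have h1 : Z.map (QuotientGroup.mk' (zpowers a)) ≤ zpowers (QuotientGroup.mk' (zpowers a) z) := by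
        rintro _ ⟨y, hy, rfl⟩
        by_cases hya : y ∈ zpowers a
        · rw [QuotientGroup.mk'_apply _ y, (QuotientGroup.eq_one_iff y).2 hya]
          exact one_mem _
        · rw [hmem y hy hya]
          exact mem_zpowers _
      obtain ⟨y, hy, e⟩ := h'.max _ (pgroup_pair (pgroup_invol hz2)
        (pgroup_invol (Tr.conj_mul_self hz2 k)) hk.eq) (le_sup_of_le_left h1) _
        (h'.fam.conj _ (h'.sub _ (mem_map_of_mem _ hz)) k) (mem_sup_right (mem_zpowers _))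
      rw [← e]
      refine hmem y hy fun hya => hz1 ?_
      rw [QuotientGroup.mk'_apply, (QuotientGroup.eq_one_iff y).2 hya] at e
      simpa using e.symm⟩
  have h2 := ZStar.zstar_center (Tr.pPrimeCore_quotient_central (core_top_eq.symm.trans hO) hA hA2) hi
  have h3 : g * z * g⁻¹ * z⁻¹ ∈ zpowers a := by
    rw [← QuotientGroup.eq_one_iff]
    change QuotientGroup.mk' (zpowers a) _ = 1
    simp only [map_mul, map_inv]
    rw [mem_center_iff.1 h2]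
    group
  simpa using mul_mem (hAZ h3) hz

/-- Lemma N -/
theorem lemN {H : Subgroup G} (hZ : Z ≤ H) {a : G} (ha : a ∈ Z) (ha1 : a ≠ 1) (hH : H ≤ 𝐂[a]) :
    𝐎(H) ⊔ Z ⊴ H := by
  have h1 := (h.subgroupOf hZ).quot_odd
  have h2 := h1.lemN0 core_quot (a := QuotientGroup.mk' _ ⟨a, hZ ha⟩) (mem_map_of_mem _ ha)
    (fun e => ha1 (congrArg Subtype.val (eq_one_of_odd odd_oddCore (h.subgroupOf hZ).two
      ((QuotientGroup.eq_one_iff _).1 e) ha))) (mem_center_iff.2 fun g => by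
        obtain ⟨g, rfl⟩ := QuotientGroup.mk'_surjective _ g
        rw [← map_mul, ← map_mul]
        exact congrArg _ (Subtype.ext (mem_cent1.1 (hH g.2))))
  refine ⟨sup_le (pcore_sub _ _) hZ, fun g hg => Tr.mem_normalizer_of_cj_le ?_⟩
  rw [Tr.cj_sup, (pcore_normal _ H).cj_eq hg]
  refine sup_le le_sup_left (Tr.cj_le_iff.2 fun z hz => ?_)
  obtain ⟨y, hy, e⟩ := h2.conj_mem _ (mem_map_of_mem _ (show (⟨z, hZ hz⟩ : H) ∈ _ from hz))
    (QuotientGroup.mk' _ ⟨g, hg⟩)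
  rw [← map_inv, ← map_mul, ← map_mul] at e
  have h3 := (mem_core_iff _).1 (core_top_eq (G := H) ▸ QuotientGroup.eq.1 e)
  have h4 := mul_mem (mem_sup_right (S := 𝐎(H)) hy) (mem_sup_left (T := Z) h3)
  simpa using h4

theorem odd_mem {D : Subgroup G} (hn : Z ≤ 𝐍(D)) {x : G} (hx : x ∈ D ⊔ Z)
    (ho : Odd (orderOf x)) : x ∈ D := by
  refine Tr.mem_of_mul_self_mem_of_odd ho ?_
  obtain ⟨d, hd, z, hz, rfl⟩ := (mem_join_norm hn).1 hx
  have : d * z * (d * z) = d * (z * d * z⁻¹) := by rw [h.inv hz]; group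
  exact this ▸ mul_mem hd ((memJ_norm (hn hz)).2 hd)

/-- involutions of `Z` are good -/
theorem good {H : Subgroup G} (hZ : Z ≤ H) {a : G} (ha : a ∈ Z) (ha1 : a ≠ 1) (hH : H ≤ 𝐂[a])
    {X : Subgroup G} (hX : X ≤ H) (ho : Odd #|X|) (hn : Z ≤ 𝐍(X)) : ⁅X, Z⁆ ≤ 𝐎(H) := fun x hx =>
  h.odd_mem (hZ.trans (pcore_norm _ _)) ((commgS X le_sup_right).trans
    ((h.lemN hZ ha ha1 hH).commutator_le_right hX) hx)
    (Tr.odd_orderOf_of_odd_card ho (commg_subl.2 hn hx))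

theorem le_core_sup_norm {H : Subgroup G} (hZ : Z ≤ H) {a : G} (ha : a ∈ Z) (ha1 : a ≠ 1)
    (hH : H ≤ 𝐂[a]) : H ≤ 𝐎(H) ⊔ 𝐍(Z) := fun g hg => by
  obtain ⟨k, hk, h1⟩ := h.frattini le_sup_right (h.lemN hZ ha ha1 hH) hg
  have h2 : k ∈ 𝐎(H) ⊔ 𝐍(Z) := sup_le_sup_left (normG Z) _ hk
  simpa using mul_mem (inv_mem h2) (mem_sup_right h1)

end F4

end Cfsg.Agent.SC
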