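import Cfsg.Agent.Lib.SC.Bas1

/-! Lemma T: a subgroup that is not good for a strongly closed four-group. -/

set_option autoImplicit false
set_option linter.unusedSectionVars false
set_option linter.unusedVariables false

namespace Cfsg.Agent.SC

open Subgroup Cfsg.Agent.FT Cfsg.Agent.SF Cfsg.Agent.SF.GP
open Cfsg.Agent.Tr (SylowIn)

universe u

/-- Theorem Q for the simple groups of order less than `n`. -/
def QN (n : ℕ) : Prop :=
  ∀ (H : Type u) [Group H] [Finite H] [IsSimpleGroup H] (T : Set H) (Z : Subgroup H),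
    Nat.card H < n → F4 T Z → Mx Z ⊤ ∨ ∃ M : Subgroup H, IsStronglyEmbedded M

section
variable {G : Type*} [Group G] [Finite G] {T : Set G} {Z : Subgroup G}

theorem F4.le_der (h : F4 T Z) {H : Subgroup G} (hZ : Z ≤ H)
    (hf : ∀ a ∈ Z, a ≠ 1 → ∃ n ∈ H, n ∈ 𝐍(Z) ∧ n * a * n⁻¹ ≠ a) : Z ≤ ⁅H, H⁆ := fun a ha => by
  by_cases a1 : a = 1
  · exact a1 ▸ one_mem _
  obtain ⟨b, hb, b1, hab⟩ := h.exists_ne a
  obtain ⟨n, hn, -, e⟩ := h.fused_of hf hb b1 (mul_mem ha hb) fun e => hab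
    (by rw [← h.inv ha, eq_inv_of_mul_eq_one_right e])
  have := mem_commg hn (hZ hb)
  rwa [e, mul_inv_cancel_right] at this

theorem F4.perfect (h : F4 T Z) {H : Subgroup G} (hZ : Z ≤ H)
    (hf : ∀ a ∈ Z, a ≠ 1 → ∃ n ∈ NN T H, n ∈ 𝐍(Z) ∧ n * a * n⁻¹ ≠ a) :
    ⁅NN T H, NN T H⁆ = NN T H :=
  le_antisymm (der_sub _) (h.NN_le hZ (h.le_der (h.le_NN hZ) hf) (h.fam.NN_nrm H).der.nz)

/-- a central 2-element of the commutator subgroup, when the Sylow subgroup is abelian -/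
theorem eq_one_of_central {P : Subgroup G} (hP : SylowIn 2 P ⊤) (hab : P ≤ 𝐂(P)) {b : G}
    (hb : b ∈ P) (hc : b ∈ center G) (hd : b ∈ commutator G) : b = 1 := by
  by_contra h1
  obtain ⟨k, hk⟩ := Tr.isPGroup_iff_forall_mem.1 hP.isPGroup b hb
  refine Tr.not_mem_commutator_of_control (p := 2) (H := P) (K := ⊥) (fun x hx y hy => ?_)
    (by simpa using hP.not_dvd) hb h1 hk (fun m a _ => ?_) hd
  · rw [centsP.1 hab x hx y hy]; simp
  · rw [mem_center_iff.1 (pow_mem hc m) a]; simp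

theorem exists_se_ge {M P : Subgroup G} (hM : IsStronglyEmbedded M) (hP : IsPGroup 2 P) :
    ∃ M' : Subgroup G, IsStronglyEmbedded M' ∧ P ≤ M' := by
  obtain ⟨S, hS⟩ := Tr.exists_sylowIn (p := 2) M
  obtain ⟨g, -, h1⟩ := (Tr.SE.sylowIn_top hM hS).exists_cj_le hP le_top
  exact ⟨cj g⁻¹ M, Tr.SE.conj hM _, Tr.cj_le_iff_le_cj_inv.1 (h1.trans hS.le)⟩

end

variable {G : Type u} [Group G] [Finite G] {T : Set G} {Z : Subgroup G} {n : ℕ}

theorem lemT1 (hB : BScStmt.{u}) (hQ : QN.{u} n) (hn : Nat.card G < n) (h : F4 T Z)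
    (hgen : closure T = ⊤) (hO : 𝐎((⊤ : Subgroup G)) = ⊥) (h2 : core {2} (⊤ : Subgroup G) = ⊥)
    (hf : ∀ a ∈ Z, a ≠ 1 → ∃ n ∈ (⊤ : Subgroup G), n ∈ 𝐍(Z) ∧ n * a * n⁻¹ ≠ a)
    {Y : Subgroup G} (ho : Odd #|Y|) (hY : Z ≤ 𝐍(Y)) : Mx Z ⊤ ∨ Y ≤ 𝐂(Z) := by
  obtain ⟨a, ha, a1, -⟩ := h.exists_ne 1
  have : Nontrivial G := ⟨a, 1, a1⟩
  have : IsSimpleGroup G := ⟨fun L hL => by
    by_cases h1 : ∀ x ∈ T, x ∈ L → x = 1
    · left
      have h3 : ⊤ ≤ 𝐂(L) := hgen.ge.trans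
        (h.fam.cent_of_disj (eq_bot_iff.2 (hO ▸ pcore_normal_le _ (FT.normal_top.2 hL))) h1)
      exact nil_eq_bot h2 hO (FT.normal_top.2 hL) (abelian_nil (abelianE.2 (le_top.trans h3)))
    · right
      push Not at h1
      obtain ⟨x, hx, hxL, hx1⟩ := h1
      obtain ⟨c, -, hc⟩ := h.conj_mem le_top hx (mem_top x)
      rw [eq_top_iff, ← hgen, ← NN_top]
      refine h.NN_le le_top (fun z hz => ?_) (norms_of_normal _)
      by_cases z1 : z = 1
      · exact z1 ▸ one_mem _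
      obtain ⟨m, -, -, rfl⟩ := h.fused_of hf hc (by simpa using hx1) hz z1
      exact hL.conj_mem _ (hL.conj_mem x hxL c) m⟩
  refine (hQ G T Z hn h).imp_right fun ⟨M, hM⟩ => ?_
  obtain ⟨M, hM, hZM⟩ := exists_se_ge hM h.two
  have hYM : Y ≤ M := gen4 h.four ho hY fun e he e1 y hy =>
    Tr.SE.mem_of_commute hM (hZM he) (h.order he e1) (mem_cent1.1 hy.2)
  refine centsP.2 fun y hy z hz => ?_
  by_cases z1 : z = 1
  · simp [z1]
  have h3 := hB G M hM _ (mul_mem (mul_mem (hYM hy) (hZM hz)) (inv_mem (hYM hy))) z (hZM hz)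
    ((Tr.orderOf_conj y z).trans (h.order hz z1)) (h.order hz z1)
  have h4 : y * z * y⁻¹ * z⁻¹ = 1 := by
    refine eq_one_of_odd_sq ho (commg_subl.2 hY (mem_commg hy hz)) ?_
    rw [h.inv hz, mul_assoc _ z, ← mul_assoc z, ← h3.eq, mul_assoc _ z z, h.sq hz, mul_one,
      Tr.conj_mul_self (h.sq hz)]
  rwa [mul_inv_eq_one, mul_inv_eq_iff_eq_mul] at h4

theorem lemT0 (hB : BScStmt.{u}) (hQ : QN.{u} n) (hn : Nat.card G < n) (h : F4 T Z)
    (hgen : closure T = ⊤) (hO : 𝐎((⊤ : Subgroup G)) = ⊥) {Y : Subgroup G} (ho : Odd #|Y|)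
    (hY : Z ≤ 𝐍(Y)) (hne : ¬ Y ≤ 𝐂(Z)) :
    Mx Z ⊤ ∧ ∀ a ∈ Z, a ≠ 1 → ¬ IsIsolatedInvolution a := by
  have hnn : ¬ Z.Normal := fun hZ => hne (commG_TI (norms_of_normal _) hY
    (coprime_TIg (cop2 ho h.two)))
  have hi : ∀ a ∈ Z, a ≠ 1 → ¬ IsIsolatedInvolution a := fun a ha a1 hi =>
    hnn (h.lemN0 hO ha a1 (ZStar.zstar_center (core_top_eq.symm.trans hO) hi))
  have hf : ∀ a ∈ Z, a ≠ 1 → ∃ n ∈ (⊤ : Subgroup G), n ∈ 𝐍(Z) ∧ n * a * n⁻¹ ≠ a :=
    fun a ha a1 => h.exists_fuse le_top ha a1 fun h' => hi a ha a1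
      (by simpa using Tr.Iso.map h' (f := (⊤ : Subgroup G).subtype) (fun g => ⟨⟨g, trivial⟩, rfl⟩) a1)
  refine ⟨?_, hi⟩
  have hB2 : IsPGroup 2 (pCore 2 G) := Fit.isPGroup_pCore 2 G
  have hk : ∀ t ∈ T, t ∈ pCore 2 G → t = 1 := fun t ht htB => by
    by_contra t1
    obtain ⟨c, -, hc⟩ := h.conj_mem le_top ht (mem_top t)
    have hZB : Z ≤ pCore 2 G := fun z hz => by
      by_cases z1 : z = 1
      · exact z1 ▸ one_mem _
      obtain ⟨m, -, -, rfl⟩ := h.fused_of hf hc (by simpa using t1) hz z1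
      exact Normal.conj_mem inferInstance _ (Normal.conj_mem inferInstance t htB c) m
    exact hnn (FT.normal_top.1 ⟨le_top, (norms_of_normal _).trans (h.norm_le hB2 hZB)⟩)
  have hz : pCore 2 G ≤ center G := fun b hb => by
    have : closure T ≤ 𝐂[b] := (closure_le _).2 fun t ht => mem_cent1.2
      (cent_of_normal2 h.fam hB2 hk ht (by
        have := mul_mem hb (Normal.conj_mem inferInstance _ (inv_mem hb) t)
        simpa only [mul_assoc] using this)).symm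
    exact mem_center_iff.2 fun g => mem_cent1.1 (this (hgen ▸ mem_top g))
  have hs := QuotientGroup.mk'_surjective (pCore 2 G)
  have h' := h.image hs fun z hz e => hk z (h.sub z hz) ((QuotientGroup.eq_one_iff z).1 e)
  have h1 := lemT1 hB hQ (lt_of_le_of_lt (Nat.le_of_dvd Nat.card_pos
      (card_quotient_dvd_card (pCore 2 G))) hn) h'
    (by rw [← MonoidHom.map_closure, hgen, map_top_of_surjective _ hs])
    (core_top_eq.trans (Tr.pPrimeCore_quotient_central (core_top_eq.symm.trans hO) hz hB2))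
    ((pcore_top_pCore 2).trans (Fit.pCore_quotient_pCore 2 G)) (by
      rintro _ ⟨a, ha, rfl⟩ a1
      obtain ⟨m, -, hm, h3⟩ := hf a ha fun e => a1 (by rw [e, map_one])
      refine ⟨QuotientGroup.mk' _ m, trivial, norms_map _ le_rfl (mem_map_of_mem _ hm),
        fun e => h3 ?_⟩
      rw [← map_inv, ← map_mul, ← map_mul] at e
      have h4 := mul_mem (inv_mem ((memJ_norm hm).2 ha)) ha
      exact inv_mul_eq_one.1 (hk _ (h.sub _ h4) (QuotientGroup.eq.1 e)))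
    (Y := Y.map (QuotientGroup.mk' _)) (ho.of_dvd_nat (card_map_dvd _ _)) (norms_map _ hY)
  rcases h1 with h1 | h1
  swap
  · refine absurd (centsP.2 fun y hy z hz => ?_) hne
    have h3 := centsP.1 h1 _ (mem_map_of_mem _ hy) _ (mem_map_of_mem _ hz)
    have h4 : y * z * y⁻¹ * z⁻¹ ∈ pCore 2 G := by
      rw [← QuotientGroup.eq_one_iff]
      change QuotientGroup.mk' (pCore 2 G) _ = 1
      simp only [map_mul, map_inv]
      rw [h3]
      group
    have h5 := eq_one_of_odd ho hB2 (commg_subl.2 hY (mem_commg hy hz)) h4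
    rwa [mul_inv_eq_one, mul_inv_eq_iff_eq_mul] at h5
  intro P hP hZP _
  obtain ⟨S, hS, hPS⟩ := Tr.exists_sylowIn_ge hP le_top
  have h3 : ∀ s ∈ S, ∃ z ∈ Z, z⁻¹ * s ∈ pCore 2 G := fun s hs => by
    obtain ⟨z, hz, e⟩ := h1 _ (hS.isPGroup.map _) (map_mono (hZP.trans hPS)) le_top
      (mem_map_of_mem _ hs)
    exact ⟨z, hz, QuotientGroup.eq.1 e⟩
  have h4 : S ≤ 𝐂(S) := centsP.2 fun s hs t ht => by
    obtain ⟨z, hz', e⟩ := h3 s hs
    obtain ⟨w, hw, e'⟩ := h3 t ht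
    have c1 := mem_center_iff.1 (hz e)
    have c2 := mem_center_iff.1 (hz e')
    calc s * t = z * ((z⁻¹ * s) * w) * (w⁻¹ * t) := by group
      _ = (z * w) * ((z⁻¹ * s) * (w⁻¹ * t)) := by rw [← c1 w]; group
      _ = w * (z * (w⁻¹ * t)) * (z⁻¹ * s) := by rw [h.comm hz' hw, c2 (z⁻¹ * s)]; group
      _ = t * s := by rw [c2 z]; group
  have hp := h.perfect le_top (by rw [NN_top, hgen]; exact hf)
  rw [NN_top, hgen] at hp
  intro p hp'
  obtain ⟨z, hz', e⟩ := h3 p (hPS hp')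
  have := eq_one_of_central hS h4 (mul_mem (inv_mem (hPS (hZP hz'))) (hPS hp')) (hz e)
    (by rw [commutator_def, hp]; trivial)
  exact inv_mul_eq_one.1 this ▸ hz'

theorem lemT2 (hB : BScStmt.{u}) (hQ : QN.{u} n) (hn : Nat.card G < n) (h : F4 T Z)
    (hgen : closure T = ⊤) {Y : Subgroup G} (ho : Odd #|Y|)
    (hY : Z ≤ 𝐍(Y)) (hne : ¬ ⁅Y, Z⁆ ≤ oddCore G) :
    Mx Z ⊤ ∧ ∀ a ∈ Z, a ≠ 1 → ¬ IsIsolatedInvolution a := by
  have hs := QuotientGroup.mk'_surjective (oddCore G)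
  have hk : ∀ P : Subgroup G, IsPGroup 2 P → ∀ x ∈ P, x ∈ oddCore G → x = 1 :=
    fun P hP x hx h1 => eq_one_of_odd odd_oddCore hP h1 hx
  obtain ⟨h1, h2⟩ := lemT0 hB hQ (lt_of_le_of_lt (Nat.le_of_dvd Nat.card_pos
      (card_quotient_dvd_card (oddCore G))) hn) h.quot_odd
    (by rw [← MonoidHom.map_closure, hgen, map_top_of_surjective _ hs]) core_quot
    (Y := Y.map (QuotientGroup.mk' _)) (ho.of_dvd_nat (card_map_dvd _ _)) (norms_map _ hY)
    fun h3 => hne (by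
      rw [← commG1P, ← map_commutator, Subgroup.map_eq_bot_iff, QuotientGroup.ker_mk'] at h3
      exact h3)
  refine ⟨fun P hP hZP _ p hp => ?_, fun a ha a1 hi => ?_⟩
  · obtain ⟨z, hz, e⟩ := h1 _ (hP.map _) (map_mono hZP) le_top (mem_map_of_mem _ hp)
    have := hk P hP _ (mul_mem (inv_mem (hZP hz)) hp) (QuotientGroup.eq.1 e)
    exact inv_mul_eq_one.1 this ▸ hz
  · have a1' : QuotientGroup.mk' (oddCore G) a ≠ 1 := fun e =>
      a1 (hk Z h.two a ha ((QuotientGroup.eq_one_iff a).1 e))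
    exact h2 _ (mem_map_of_mem _ ha) a1' (Tr.Iso.map hi hs a1')

/-- Lemma T -/
theorem lemT (hB : BScStmt.{u}) (hQ : QN.{u} n) (h : F4 T Z) {H : Subgroup G} (hZ : Z ≤ H)
    (hn : #|H| < n) {X : Subgroup G} (hX : X ≤ H) (ho : Odd #|X|) (hY : Z ≤ 𝐍(X))
    (hne : ¬ ⁅X, Z⁆ ≤ 𝐎(H)) :
    Mx Z (NN T H) ∧ ⁅NN T H, NN T H⁆ = NN T H ∧
      ∀ a ∈ Z, a ≠ 1 → ∃ n ∈ NN T H, n ∈ 𝐍(Z) ∧ n * a * n⁻¹ ≠ a := by
  have hN := h.fam.NN_nrm H
  have hZN := h.le_NN hZ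
  have hYN : ⁅X, Z⁆ ≤ NN T H := (commgS X hZN).trans (hN.commutator_le_right hX)
  obtain ⟨h1, h2⟩ := lemT2 hB hQ (lt_of_le_of_lt (card_le_of_le hN.le) hn) (h.subgroupOf hZN) (by
      apply map_injective (NN T H).subtype_injective
      rw [← NN_eq_map, ← MonoidHom.range_eq_map, range_subtype, NN, inter_NN]
      rfl) (Y := ⁅X, Z⁆.subgroupOf (NN T H)) (by
      rw [Fit.card_subgroupOf_of_le hYN]
      exact odd_of_le (commg_subl.2 hY) ho) (norms_comap _ (commg_normr X Z)) fun h3 => hne (by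
      rw [← commGid2 ho h.two hY]
      refine le_trans ?_ (pcore_normal_le _ hN)
      have h4 := map_mono (f := (NN T H).subtype) h3
      rwa [map_commutator, map_subgroupOf_eq_of_le hYN, map_subgroupOf_eq_of_le hZN,
        ← p'core_eq_pPrimeCore] at h4)
  have h3 : ∀ a ∈ Z, a ≠ 1 → ∃ n ∈ NN T H, n ∈ 𝐍(Z) ∧ n * a * n⁻¹ ≠ a := fun a ha a1 =>
    h.exists_fuse hZN ha a1 (h2 _ ha fun e => a1 (congrArg Subtype.val e))
  exact ⟨fun P hP hZP hPN p hp => h1 (P.subgroupOf _) (Tr.isPGroup_subgroupOf hP _)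
    (comap_mono hZP) le_top (show (⟨p, hPN hp⟩ : NN T H) ∈ _ from hp), h.perfect hZ h3, h3⟩

end Cfsg.Agent.SC
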