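import Cfsg.Agent.Lib.SC.Red1

/-! Row BEN of `docs/SC_PLAN.md`, part (b): the action on `Q / Q0`. -/

set_option autoImplicit false
set_option linter.unusedSectionVars false
set_option linter.unusedVariables false

namespace Cfsg.Agent.SC.Ben

open Subgroup Cfsg.Agent.FT Cfsg.Agent.SF Cfsg.Agent.SF.GP

universe u

/-- `K` and `C` act on the elementary abelian group `V`, the actions commute -/
structure Ctx {G : Type*} [Group G] (V K C : Subgroup G) : Prop where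
  ab : Abelem 2 V
  nK : K ≤ 𝐍(V)
  nC : C ≤ 𝐍(V)
  comm : ∀ c ∈ C, ∀ k ∈ K, ∀ v ∈ V, c * (k * v * k⁻¹) * c⁻¹ = k * (c * v * c⁻¹) * k⁻¹
  sqf : ∀ c ∈ C, ∀ k ∈ K, ∀ v ∈ V, c * v * c⁻¹ = k * v * k⁻¹ → k = 1 ∨ v = 1
  card : #|V| ≤ (#|K| + 1) ^ 2

/-- a proper nontrivial `K`-invariant subgroup -/
structure Line {G : Type*} [Group G] (V K Y : Subgroup G) : Prop where
  lt : Y < V
  ne : Y ≠ ⊥
  nz : K ≤ 𝐍(Y)

namespace Ctx

variable {G : Type u} [Group G] [Finite G] {V K C Y : Subgroup G} (h : Ctx V K C)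
include h

theorem surj (hY : Y ≤ V) (hn : K ≤ 𝐍(Y)) {k : G} (hk : k ∈ K) (h1 : k ≠ 1) {y : G} (hy : y ∈ Y) :
    ∃ z ∈ Y, k * z * k⁻¹ * z⁻¹ = y := by
  let f : Y → Y := fun z => ⟨k * z * k⁻¹ * (z : G)⁻¹,
    mul_mem ((memJ_norm (hn hk)).2 z.2) (inv_mem z.2)⟩
  have hf : Function.Injective f := fun a b e => by
    have e1 : k * a * k⁻¹ * (a : G)⁻¹ = k * b * k⁻¹ * (b : G)⁻¹ := congrArg Subtype.val e
    have h2 : (b : G)⁻¹ * a ∈ V := hY (mul_mem (inv_mem b.2) a.2)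
    refine (h.sqf 1 (one_mem C) k hk _ h2 ?_).elim (fun e => absurd e h1) fun e =>
      Subtype.ext (inv_mul_eq_one.1 e).symm
    calc _ = (b : G)⁻¹ * a := by group
      _ = (k * b * k⁻¹)⁻¹ * (k * b * k⁻¹ * (b : G)⁻¹) * a := by group
      _ = _ := by rw [← e1]; group
  obtain ⟨z, hz⟩ := Finite.injective_iff_surjective.1 hf ⟨y, hy⟩
  exact ⟨z, z.2, congrArg Subtype.val hz⟩

theorem fpf (hY : Y ≤ V) (hn : K ≤ 𝐍(Y)) {k x : G} (hk : k ∈ K) (hx : x ∈ V) (hxY : x ∉ Y)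
    {c : G} (hc : c ∈ C) (hcY : Y ≤ 𝐂[c]) {y : G} (hy : y ∈ Y)
    (e : c * x * c⁻¹ = k * x * k⁻¹ * y) : k = 1 := by
  by_contra h1
  obtain ⟨z, hz, rfl⟩ := h.surj hY hn hk h1 hy
  refine (h.sqf c hc k hk _ (mul_mem hx (hY hz)) ?_).elim h1 fun e =>
    hxY (eq_inv_of_mul_eq_one_left e ▸ inv_mem hz)
  calc _ = c * x * c⁻¹ * (c * z * c⁻¹) := by group
    _ = _ := by rw [e, cent1_conj'.1 (hcY hz)]; group

theorem step {Y' : Subgroup G} (hle : Y ≤ Y') (hV : Y' ≤ V) (hn : K ≤ 𝐍(Y)) (hn' : K ≤ 𝐍(Y'))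
    {x : G} (hx : x ∈ Y') (hxY : x ∉ Y) : (#|K| + 1) * #|Y| ≤ #|Y'| ∧
      (#|Y'| ≤ (#|K| + 1) * #|Y| → ∀ z ∈ Y', z ∉ Y → ∃ k ∈ K, ∃ y ∈ Y, z = k * x * k⁻¹ * y) := by
  let f : Option K × Y → Y' := fun p => match p with
    | (none, y) => ⟨y, hle y.2⟩
    | (some k, y) => ⟨k * x * (k : G)⁻¹ * y, mul_mem ((memJ_norm (hn' k.2)).2 hx) (hle y.2)⟩
  have h0 : ∀ (k : K) (y y' : Y), (y' : G) ≠ k * x * (k : G)⁻¹ * y := fun k y y' e =>
    hxY ((memJ_norm (hn k.2)).1 (by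
      rw [eq_mul_inv_iff_mul_eq.2 e.symm]
      exact mul_mem y'.2 (inv_mem y.2)))
  have hf : Function.Injective f := by
    rintro ⟨_ | k, y⟩ ⟨_ | k', y'⟩ e
    · exact Prod.ext rfl (Subtype.ext (congrArg Subtype.val e :))
    · exact absurd (congrArg Subtype.val e) (h0 k' y' y)
    · exact absurd (congrArg Subtype.val e).symm (h0 k y y')
    · have e1 : k * x * (k : G)⁻¹ * y = k' * x * (k' : G)⁻¹ * y' := congrArg Subtype.val e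
      have h1 : (k' : G)⁻¹ * k = 1 := h.fpf (hle.trans hV) hn (mul_mem (inv_mem k'.2) k.2) (hV hx)
        hxY (one_mem C) (cent1_one.ge.trans' le_top)
        ((memJ_norm' (hn k'.2)).2 (mul_mem y.2 (inv_mem y'.2))) (by
          calc _ = (k' : G)⁻¹ * (k' * x * (k' : G)⁻¹ * y') * (y' : G)⁻¹ * k' := by group
            _ = _ := by rw [← e1]; group)
      obtain rfl : k' = k := Subtype.ext (inv_mul_eq_one.1 h1)
      exact Prod.ext rfl (Subtype.ext (mul_left_cancel e1))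
  have hc : Nat.card (Option K × Y) = (#|K| + 1) * #|Y| := by
    rw [Nat.card_prod, Finite.card_option]
  refine ⟨hc ▸ Nat.card_le_card_of_injective f hf, fun hle' z hz hzY => ?_⟩
  obtain ⟨⟨_ | k, y⟩, e⟩ := (hf.bijective_of_nat_card_le (hc ▸ hle')).2 ⟨z, hz⟩
  · have e1 : (y : G) = z := congrArg Subtype.val e
    exact absurd (e1 ▸ y.2) hzY
  · exact ⟨k, k.2, y, y.2, (congrArg Subtype.val e).symm⟩

theorem cover (hY : Line V K Y) {x z : G} (hx : x ∈ Y) (h1 : x ≠ 1) (hz : z ∈ Y) (hz1 : z ≠ 1) :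
    ∃ k ∈ K, z = k * x * k⁻¹ := by
  obtain ⟨v, hv, hvY⟩ := SetLike.exists_of_lt hY.lt
  have h2 := ((h.step hY.lt.le le_rfl hY.nz h.nK hv hvY).1).trans h.card
  obtain ⟨k, hk, y, hy, e⟩ := (h.step bot_le hY.lt.le (norms1 K) hY.nz hx h1).2 (by
    rw [card_bot, mul_one]
    exact Nat.le_of_mul_le_mul_left (sq (#|K| + 1) ▸ h2) (Nat.succ_pos _)) z hz hz1
  exact ⟨k, hk, by rw [e, mem_bot.1 hy, mul_one]⟩

theorem cover' (hY : Line V K Y) {x z : G} (hx : x ∈ V) (h1 : x ∉ Y) (hz : z ∈ V) (hz1 : z ∉ Y) :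
    ∃ k ∈ K, ∃ y ∈ Y, z = k * x * k⁻¹ * y := by
  obtain ⟨y, hy, hy1⟩ := trivgPn.1 hY.ne
  have h2 := (h.step bot_le hY.lt.le (norms1 K) hY.nz hy hy1).1
  rw [card_bot, mul_one] at h2
  exact (h.step hY.lt.le le_rfl hY.nz h.nK hx h1).2
    (h.card.trans (sq (#|K| + 1) ▸ Nat.mul_le_mul_left _ h2)) z hz hz1

theorem cent_of_norm (hY : Line V K Y) {c : G} (hc : c ∈ C) (hn : c ∈ 𝐍(Y)) : Y ≤ 𝐂[c] := by
  intro y hy
  by_cases h1 : y = 1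
  · exact h1 ▸ one_mem _
  obtain ⟨k, hk, e⟩ := h.cover hY hy h1 ((memJ_norm hn).2 hy) (by simpa using h1)
  rw [(h.sqf c hc k hk y (hY.lt.le hy) e).resolve_right h1] at e
  exact cent1_conj'.2 (by simpa using e)

theorem line_eq {Y' : Subgroup G} (hY : Line V K Y) (hY' : Line V K Y') (hle : Y ≤ Y') :
    Y' = Y := by
  obtain ⟨y, hy, hy1⟩ := trivgPn.1 hY.ne
  refine le_antisymm (fun z hz => ?_) hle
  by_cases h1 : z = 1
  · exact h1 ▸ one_mem _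
  obtain ⟨k, hk, rfl⟩ := h.cover hY' (hle hy) hy1 hz h1
  exact (memJ_norm (hY.nz hk)).2 hy

theorem sq_cent (hY : Line V K Y) {c : G} (hc : c ∈ C) (hcY : Y ≤ 𝐂[c]) : c * c ∈ 𝐂(V) := by
  refine sub_cent1.1 fun x hx => cent1_conj'.2 ?_
  by_cases h1 : x ∈ Y
  · calc _ = c * (c * x * c⁻¹) * c⁻¹ := by group
      _ = x := by rw [cent1_conj'.1 (hcY h1), cent1_conj'.1 (hcY h1)]
  obtain ⟨k, hk, y, hy, e⟩ := h.cover' hY hx h1 ((memJ_norm (h.nC hc)).2 hx)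
    fun h2 => h1 ((memJ_norm (cent_sub Y (sub_cent1.1 hcY))).1 h2)
  obtain rfl := h.fpf hY.lt.le hY.nz hk hx h1 hc hcY hy e
  have h2 := abelem_pow h.ab (hY.lt.le hy)
  calc _ = c * (c * x * c⁻¹) * c⁻¹ := by group
    _ = c * (1 * x * 1⁻¹ * y) * c⁻¹ := by rw [e]
    _ = c * x * c⁻¹ * (c * y * c⁻¹) := by group
    _ = x * y ^ 2 := by rw [e, cent1_conj'.1 (hcY hy), sq]; group
    _ = x := by rw [h2, mul_one]

theorem nK_cent {P : Subgroup G} (hP : P ≤ C) : K ≤ 𝐍(V ⊓ 𝐂(P)) :=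
  norms_of_conj_mem fun k hk v hv => mem_inf.2 ⟨(memJ_norm (h.nK hk)).2 hv.1, mem_cent.2
    fun c hc => by
      have := h.comm c (hP hc) k hk v hv.1
      rw [mem_cent.1 hv.2 c hc, mul_inv_cancel_right] at this
      exact mul_inv_eq_iff_eq_mul.1 this⟩

theorem perf [Fact OddOrderThm.{u}] {L : Subgroup G} (hL : ⁅L, L⁆ = L) (hLC : L ≤ C) :
    L ≤ 𝐂(V) := by
  by_cases hV : V = ⊥
  · rw [hV, cent1T]
    exact le_top
  have hLN := hLC.trans h.nC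
  have hN : L ≤ 𝐍(𝐂(V)) := norms_cent hLN
  obtain ⟨P, hP⟩ := Sylow_exists 2 L
  have hPC := hP.le.trans hLC
  have hl : ∀ x ∈ P, x ∉ 𝐂(V) → Line V K (V ⊓ 𝐂(P)) ∧ V ⊓ 𝐂[x] = V ⊓ 𝐂(P) := fun x hx h1 => by
    have h2 : V ⊓ 𝐂(P) ≤ V ⊓ 𝐂[x] := inf_le_inf_left V (cent_le_cent1 hx)
    have h3 : V ⊓ 𝐂[x] < V := lt_of_le_of_ne inf_le_left fun e =>
      h1 (sub_cent1.1 (e.ge.trans inf_le_right))
    have h4 := pgroup_fix_ne_bot hP.pgroup (abelem_pgroup h.ab) (hP.le.trans hLN) hV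
    have h5 : Line V K (V ⊓ 𝐂(P)) := ⟨h2.trans_lt h3, h4, h.nK_cent hPC⟩
    refine ⟨h5, h.line_eq h5 ⟨h3, fun e => h4 (eq_bot_iff.2 (e ▸ h2)), ?_⟩ h2⟩
    rw [← cent_cycle]
    exact h.nK_cent (cycle_subG.2 (hPC hx))
  have h1 : P ≤ 𝐂(V) := by
    refine (le_inf (hP.le.trans hL.ge) le_rfl).trans
      ((sylowIn_iff.2 hP).commutator_inf_le_of_fusion fun x hx g hg hgx => ?_)
    by_cases h2 : x ∈ 𝐂(V)
    · exact mul_mem ((memJ_norm (hN hg)).2 h2) (inv_mem h2)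
    obtain ⟨h3, h4⟩ := hl x hx h2
    obtain ⟨-, h5⟩ := hl _ hgx fun h5 => h2 ((memJ_norm (hN hg)).1 h5)
    have h6 : g ∈ 𝐍(V ⊓ 𝐂(P)) := Tr.cj_eq_iff.1 (by
      nth_rw 1 [← h4]
      rw [Tr.cj_inf, Tr.cj_eq_iff.2 (hLN hg), ← cent1J, h5])
    have h7 := sub_cent1.1 (h.cent_of_norm h3 (hLC hg) h6)
    have h8 : x ∈ 𝐂(V ⊓ 𝐂(P)) := sub_cent1.1 (h4.ge.trans inf_le_right)
    have h9 := h.sq_cent h3 (hLC hg) (sub_cent1.2 h7)
    have h10 := h.sq_cent h3 (hPC hx) (sub_cent1.2 h8)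
    have h11 := h.sq_cent h3 (mul_mem (hLC hg) (hPC hx)) (sub_cent1.2 (mul_mem h7 h8))
    have := mul_mem (mul_mem h11 ((memJ_norm' (hN (hP.le hx))).2 (inv_mem h9))) (inv_mem h10)
    convert this using 1
    group
  rw [← quotient_eq_bot hN]
  refine Red.perf_sol (by rw [← quotientR hN hN, hL]) (odd_sol ?_)
  rw [card_quotient hN, ← Nat.not_even_iff_odd, even_iff_two_dvd]
  exact fun h2 => hP.not_dvd (h2.trans (indexgS L h1))

end Ctx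

end Cfsg.Agent.SC.Ben
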