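import Cfsg.Agent.Lib.SF.Defs

/-!
Statements of the project on strongly closed 2-subgroups (see `docs/SC_PLAN.md`).
-/

namespace Cfsg.Agent.SC

open Subgroup Cfsg.Agent.FT

universe u

/-- Theorem Q: a simple group with a strongly closed four-group. -/
def QStmt : Prop :=
  ∀ (G : Type u) [Group G] [Finite G] [IsSimpleGroup G] (S : Sylow 2 G) (Z : Subgroup G),
    IsElementaryAbelian 2 Z → Nat.card Z = 4 → IsStronglyClosed Z (S : Subgroup G) →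
      (S : Subgroup G) = Z ∨ ∃ H : Subgroup G, IsStronglyEmbedded H

/-- The weak form of Lyons' theorem. -/
def LyonsStmt : Prop :=
  ∀ (G : Type u) [Group G] [Finite G] [IsSimpleGroup G] (S : Sylow 2 G) (Z : Subgroup G),
    Nat.card Z = 4 → (∀ x, x ∈ Z ↔ x ∈ (S : Subgroup G) ∧ x * x = 1) → (S : Subgroup G) ≤ 𝐂(Z) →
    (∃ x ∈ (S : Subgroup G), ∃ y ∈ (S : Subgroup G), ¬ Commute x y) →
      ∃ H : Subgroup G, IsStronglyEmbedded H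

/-- Lemma E. -/
def LemEStmt : Prop :=
  ∀ (H : Type u) [Group H] [Finite H] (E : Sylow 2 H), oddCore H = ⊥ →
    IsElementaryAbelian 2 (E : Subgroup H) → 8 ≤ Nat.card (E : Subgroup H) →
    (∀ e ∈ (E : Subgroup H), e ≠ 1 → ∃ K : Subgroup H, Odd (Nat.card K) ∧ 𝐂[e] ≤ 𝐍(K) ∧
      K ⊔ (E : Subgroup H) = 𝐂[e]) →
    (∃ e ∈ (E : Subgroup H), ∃ f ∈ (E : Subgroup H), e ≠ 1 ∧ f ≠ 1 ∧ ¬ IsConj e f) →
      (E : Subgroup H).Normal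

/-- Lemma K. -/
def LemKStmt : Prop :=
  ∀ (H : Type u) [Group H] [Finite H] (P : Sylow 2 H), IsElementaryAbelian 2 (P : Subgroup H) →
    Nat.card (P : Subgroup H) = 4 → commutator H = ⊤ → ∀ a : H, orderOf a = 2 →
      3 * Nat.card {u : H // orderOf u = 2 ∧ Even (orderOf (a * u))} <
        2 * Nat.card {u : H // orderOf u = 2}

/-- The counting argument for a Sylow 2-subgroup of type `L₃(4)`. -/
def CountStmt : Prop :=
  ∀ (G : Type u) [Group G] [Finite G] (S : Sylow 2 G) (Z T₀ T₁ : Subgroup G),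
    IsElementaryAbelian 2 T₀ → IsElementaryAbelian 2 T₁ → Nat.card T₀ = 16 → Nat.card T₁ = 16 →
    T₀ ⊓ T₁ = Z → Nat.card Z = 4 → T₀ ⊔ T₁ = (S : Subgroup G) →
    IsStronglyClosed T₀ (S : Subgroup G) → IsStronglyClosed T₁ (S : Subgroup G) →
    (∀ y ∈ T₀, y ∉ Z → ∀ v ∈ T₁, v ∉ Z → ¬ Commute y v) →
    (∀ a ∈ Z, a ≠ 1 → ∀ b ∈ Z, b ≠ 1 → IsConj a b) →
    (∃ e ∈ 𝐍((S : Subgroup G)), e ∈ 𝐂(Z) ∧
      ∀ x ∈ (S : Subgroup G), e * x * e⁻¹ * x⁻¹ ∈ Z → x ∈ Z) →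
    (∀ y, y ∈ T₀ ∨ y ∈ T₁ → y ∉ Z → ∃ H : Subgroup G, Z ≤ H ∧ H ≤ 𝐂[y] ∧ 𝐂[y] ≤ 𝐍(H) ∧
      ⁅H, H⁆ = H ∧ Odd (Z.relIndex H)) → False

/-- The end game for Bender groups. -/
def BenEndStmt : Prop :=
  ∀ (G : Type u) [Group G] [Finite G] (S : Sylow 2 G) (J Z L : Subgroup G) [J.Normal]
    [IsSimpleGroup J], 𝐂(J) = ⊥ → (∃ H : Subgroup J, IsStronglyEmbedded H) → Z ≤ J →
    IsElementaryAbelian 2 Z → 4 ≤ Nat.card Z → IsStronglyClosed Z (S : Subgroup G) →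
    ⁅L, L⁆ = L → L ≤ 𝐂(Z) → L = ⊥

/-- Every `Z`-invariant odd order subgroup `X` of `H` has `[X, Z] ≤ O(H)`. -/
def Good {G : Type*} [Group G] (H Z : Subgroup G) : Prop :=
  ∀ X : Subgroup G, X ≤ H → Odd (Nat.card X) → Z ≤ 𝐍(X) →
    ⁅X, Z⁆ ≤ (oddCore H).map H.subtype

end Cfsg.Agent.SC
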