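import Cfsg.Agent.Lib.SC.Defs
import Cfsg.Agent.Lib.SF.Sft4
import Cfsg.Agent.Lib.SF.Gen
import Cfsg.Agent.Lib.Transfer.StrongEmb
import Cfsg.Agent.Lib.Transfer.Frobenius

/-! Lemma E: elementary abelian Sylow 2-subgroups with 2-nilpotent involution centralizers. -/

set_option autoImplicit false

namespace Cfsg.Agent.SC

open Subgroup Cfsg.Agent.FT Cfsg.Agent.SF.GP
open Cfsg.Agent.Tr (SylowIn)

universe u

variable {G : Type*} [Group G] [Finite G]

/-- A subgroup containing the normalizer of an abelian Sylow 2-subgroup and the centralizers of its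
involutions is everything or strongly embedded. -/
theorem eq_top_or_se {E M : Subgroup G} (hE : SylowIn 2 E ⊤) (hc : E ≤ 𝐂(E)) (h0 : E ≠ ⊥)
    (hN : 𝐍(E) ≤ M) (hC : ∀ e ∈ E, orderOf e = 2 → 𝐂[e] ≤ M) :
    M = ⊤ ∨ IsStronglyEmbedded M := by
  have hEM : E ≤ M := le_normalizer.trans hN
  have hE' := hE.mono hEM le_top
  refine or_iff_not_imp_left.2 fun hM => Tr.isStronglyEmbedded_iff.2 ⟨hM, ?_, fun t ht t2 g hg => ?_⟩
  · obtain ⟨t, ht, t2⟩ := Tr.exists_involution_of_even (H := E) (by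
      obtain ⟨k, hk⟩ := IsPGroup.iff_card.1 hE.isPGroup
      rcases k with _ | k
      · exact absurd (card_eq_one.1 hk) h0
      · rw [hk, pow_succ]; exact even_two.mul_left _)
    exact ⟨t, hEM ht, t2⟩
  · obtain ⟨x, hx, h1⟩ := hE'.exists_conj_mem ht (k := 1) (by simpa using Tr.sq_of_orderOf_two t2)
    obtain ⟨y, hy, h2⟩ := hE'.exists_conj_mem hg (k := 1) (by
      simpa using Tr.sq_of_orderOf_two ((Tr.orderOf_conj g t).trans t2))
    have e : y * g * x⁻¹ * (x * t * x⁻¹) * (y * g * x⁻¹)⁻¹ = y * (g * t * g⁻¹) * y⁻¹ := by group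
    obtain ⟨n, -, hn, h3⟩ := hE.exists_normalizer_conj (mem_top (y * g * x⁻¹)) (hc h1)
      (hc (e ▸ h2))
    have h4 : n⁻¹ * (y * g * x⁻¹) ∈ 𝐂[x * t * x⁻¹] := by
      rw [mem_centralizer_singleton_iff, mul_assoc n⁻¹, ← mul_inv_eq_iff_eq_mul, mul_inv_rev,
        inv_inv, ← mul_assoc, mul_assoc n⁻¹, ← h3]
      group
    have h5 := mul_mem (mul_mem (inv_mem hy) (mul_mem (hN hn)
      (hC _ h1 ((Tr.orderOf_conj x t).trans t2) h4))) hx
    simpa [mul_assoc] using h5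

theorem lemE : LemEStmt.{u} := by
  intro H _ _ P hO hP h8 hC ⟨a, ha, b, hb, a1, b1, hab⟩
  set E : Subgroup H := (P : Subgroup H)
  have hE : SylowIn 2 E ⊤ := SylowIn.top P
  have hc : E ≤ 𝐂(E) := abelem_cent hP
  have sq : ∀ x ∈ E, x * x = 1 := fun x hx => by simpa [pow_two] using hP.2 x hx
  have h0 : E ≠ ⊥ := fun e => a1 (mem_bot.1 (e ▸ ha))
  have nse : ∀ M : Subgroup H, ¬ IsStronglyEmbedded M := fun M hM =>
    hab (Tr.SE.isConj hM (Tr.orderOf_eq_two (sq a ha) a1) (Tr.orderOf_eq_two (sq b hb) b1))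
  have cE : ∀ e ∈ E, E ≤ 𝐂[e] := fun e he x hx =>
    mem_centralizer_singleton_iff.2 (mem_centralizer_iff.1 (hc he) x hx)
  have dec : ∀ e ∈ E, e ≠ 1 → 𝐂[e] ≤ 𝐎(𝐂[e]) ⊔ E := fun e he e1 => by
    obtain ⟨K, ho, hn, hs⟩ := hC e he e1
    exact hs.ge.trans (sup_le_sup_right (le_core ho ⟨le_sup_left.trans hs.le, hn⟩) _)
  have big : ∀ e ∈ E, e ≠ 1 → ∀ X : Subgroup H, X ≤ 𝐂[e] → Odd #|X| → X ≤ 𝐎(𝐂[e]) := by
    intro e he e1 X hX ho x hx
    refine Tr.mem_of_mul_self_mem_of_odd (Tr.odd_orderOf_of_odd_card ho hx) ?_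
    obtain ⟨k, hk, s, hs, rfl⟩ := (Tr.mem_sup_of_le_normalizer'
      ((cE e he).trans (pcore_norm _ _))).1 (dec e he e1 (hX hx))
    have : k * s * (k * s) = k * (s * k * s⁻¹) := by
      rw [Tr.inv_eq_of_mul_self (sq s hs)]; group
    rw [this]
    exact mul_mem hk ((pcore_normal _ _).conj_mem (cE e he hs) hk)
  obtain ⟨W, hW, hEW, hθ⟩ := SF.sft H E (fun e => 𝐎(𝐂[e])) hP h8
    ⟨fun e _ _ => odd_core _, fun e _ _ => pcore_sub _ _,
      fun e he _ => (cE e he).trans (pcore_norm _ _), fun e _ _ f hf f1 =>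
        big f hf f1 _ inf_le_right ((odd_core _).of_dvd_nat (card_dvd_of_le inf_le_left))⟩
  obtain ⟨F, hFE, hF⟩ := exists_sub_card_pow (p := 2) (n := 2) (H := E) (by
    obtain ⟨n, hn⟩ := abelem_card hP
    rw [hn] at h8 ⊢
    exact pow_dvd_pow 2 ((Nat.pow_le_pow_iff_right one_lt_two).1
      (show 2 ^ 2 ≤ 2 ^ n from le_trans (by norm_num) h8)))
  have hF4 := four_of_abelem (abelemS hFE hP) hF
  have hNW : 𝐍(E) ≤ 𝐍(W) := by
    refine norms_of_conj_mem fun n hn w hw => ?_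
    have h1 : W ≤ cj n⁻¹ W := gen4 hF4 hW (hFE.trans hEW) fun f hf f1 => by
      have h2 : n * f * n⁻¹ ∈ E := Tr.conj_mem_of_mem_normalizer hn (hFE hf)
      have h3 := hθ _ h2 (by simpa using f1)
      rw [hθ f (hFE hf) f1, ← Tr.cj_le_iff_le_cj_inv, ← pcoreJ, ← cent1J, ← h3]
      exact inf_le_left
    exact Tr.mem_cj_inv.1 (h1 hw)
  have hW0 : W = ⊥ := by
    have h1 := (eq_top_or_se hE hc h0 hNW fun e he e2 => by
      have e1 := Tr.ne_one_of_orderOf_two e2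
      exact (dec e he e1).trans (sup_le (((hθ e he e1).ge.trans inf_le_left).trans le_normalizer)
        hEW)).resolve_right (nse _)
    rw [eq_bot_iff, ← hO, ← core_top_eq]
    exact le_core hW ⟨le_top, h1.ge⟩
  have h1 := (eq_top_or_se hE hc h0 le_rfl fun e he e2 => by
    have e1 := Tr.ne_one_of_orderOf_two e2
    refine (dec e he e1).trans (sup_le ?_ le_normalizer)
    rw [← hθ e he e1, hW0, bot_inf_eq]
    exact bot_le).resolve_right (nse _)
  exact normalizer_eq_top_iff.1 h1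

end Cfsg.Agent.SC
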