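import Cfsg.Agent.Lib.SC.LyG
import Cfsg.Agent.Lib.SC.QZ

/-!
# The local structure of a simple group with Sylow 2-subgroups of type `U₃(4)`
-/

set_option autoImplicit false
set_option linter.unusedSectionVars false

namespace Cfsg.Agent.SC.Ly

open Subgroup Cfsg.Agent.FT TwoGrp TwoGrp.Tri Cfsg.Agent.SF.GP
open Cfsg.Agent.Tr (SylowIn)

universe u

variable {G : Type u} [Group G] [Finite G] {S : Sylow 2 G} {Z : Subgroup G} {F : Set G}

theorem kd_of (z : ZC F Z) {D : U (S : Subgroup G)} (hV : D.V = Z.subgroupOf S)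
    {a : (S : Subgroup G)} (ha : a ∈ D.V) (a1 : a ≠ 1) : KD D (io ha) where
  inj := (injective_iff_map_eq_one _).2 fun x hx => Subtype.ext (congrArg (fun y : 𝐂[(a : G)] => (y : G))
    (eq_one_of_odd odd_oddCore (Tr.isPGroup_subgroupOf S.isPGroup' _)
      ((QuotientGroup.eq_one_iff (inclusion (le_cent ha) x)).1 hx) x.2) : (x : G) = 1)
  syl := by
    have := (SylowIn.of_sylow_le S (le_cent ha)).subgroupOf_top.map (pr (a : G))
    rwa [map_top_of_surjective _ (QuotientGroup.mk'_surjective _), ← inclusion_range (le_cent ha),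
      MonoidHom.map_range] at this
  core := Fit.pPrimeCore_quotient_pPrimeCore 2 _
  cen v hv := by
    have ha' : (a : G) ∈ Z := hV.le ha
    have a1' : (a : G) ≠ 1 := fun e => a1 (Subtype.ext e)
    refine mem_center_iff.2 fun k => ?_
    obtain ⟨g, rfl⟩ := QuotientGroup.mk'_surjective _ k
    obtain ⟨_, hk, hn⟩ := z.frattini le_sup_right (z.lemN (z.cent1 ha') ha' a1' le_rfl) g.2
    have hZ := (z.cent1 ha').trans (pcore_norm ({2}ᶜ) _)
    obtain ⟨o, ho, w, hw, rfl⟩ := (mem_join_norm hZ).1 hk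
    have h4 := mul_mem (inv_mem (z.cent hw)) (z.fix_cent hn ha' a1'
      (cent1_conj.1 (mul_mem (mul_mem (pcore_sub _ _ ho) (z.cent1 ha' hw)) g.2)))
    have ho' := (memJ_norm (hZ (inv_mem hw))).2 (inv_mem ho)
    have h2 : g = ⟨_, pcore_sub _ _ ho'⟩ * ⟨_, mem_cent1.2 (mem_cent.1 h4 _ ha').symm⟩ :=
      Subtype.ext (by simp [mul_assoc])
    have h3 : pr (a : G) ⟨_, pcore_sub _ _ ho'⟩ = 1 :=
      (QuotientGroup.eq_one_iff _).2 (core_top_eq (G := 𝐂[(a : G)]) ▸ (mem_core_iff _).2 ho')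
    rw [h2, map_mul, h3, one_mul]
    simp only [io, MonoidHom.comp_apply, ← map_mul]
    exact congrArg _ (Subtype.ext (mem_cent.1 h4 v (hV.le hv)).symm)

theorem setup [IsSimpleGroup G] (h4 : #|Z| = 4)
    (hZ : ∀ x, x ∈ Z ↔ x ∈ (S : Subgroup G) ∧ x * x = 1) (hc : (S : Subgroup G) ≤ 𝐂(Z))
    (hne : ∃ x ∈ (S : Subgroup G), ∃ y ∈ (S : Subgroup G), ¬ Commute x y) :
    ∃ D : U (S : Subgroup G), D.V = Z.subgroupOf S ∧ (∀ x : (S : Subgroup G), IsConj (x : G) (D.ψ x)) ∧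
      ∀ a (ha : a ∈ D.V), a ≠ 1 → KD D (io ha) := by
  have hZS : Z ≤ S := fun x hx => ((hZ x).1 hx).1
  have z := zc_of (S := S) (abelemP.2 ⟨abelianE.2 (hZS.trans hc), fun x hx => by rw [sq, ((hZ x).1 hx).2]⟩) h4
    ⟨hZS, fun x hx g hg => (hZ _).2 ⟨hg, Tr.conj_mul_self ((hZ x).1 hx).2 g⟩⟩ hc
  obtain ⟨x, hx, y, hy, hxy⟩ := hne
  obtain ⟨a, ha, a1, -⟩ := z.exists_ne 1
  have hO : oddCore G = ⊥ := (Normal.eq_bot_or_eq_top inferInstance).resolve_right fun e =>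
    a1 (eq_one_of_odd odd_oddCore z.two (e.ge (mem_top a)) ha)
  obtain ⟨n, -, hn, hna⟩ := z.exists_fuse le_top ha a1 fun h' => by
    have h1 := ZStar.zstar_center hO (t := a) (by
      simpa using Tr.Iso.map h' (f := (⊤ : Subgroup G).subtype) (fun g => ⟨⟨g, trivial⟩, rfl⟩) a1)
    rcases Normal.eq_bot_or_eq_top (inferInstance : (center G).Normal) with e | e
    · exact a1 (mem_bot.1 (e ▸ h1))
    · exact hxy (mem_center_iff.1 (e.ge (mem_top y)) x)
  obtain ⟨d, hd, c, hc', rfl⟩ := (SylowIn.of_sylow_le S hc).frattini' (cent_norm Z hn)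
  have hd' : d ∉ 𝐂(Z) := fun e => hna (by rw [← mem_cent.1 (mul_mem e hc') a ha, mul_inv_cancel_right])
  have hV := (z.toF4.subgroupOf hZS).four
  have hcc : ∀ v ∈ Z.subgroupOf S, ∀ x : (S : Subgroup G), x * v = v * x := fun v hv x =>
    Subtype.ext (mem_cent.1 (hc x.2) _ hv).symm
  have hΩ : ∀ x : (S : Subgroup G), x * x = 1 → x ∈ Z.subgroupOf S := fun x hx =>
    (hZ _).2 ⟨x.2, congrArg Subtype.val hx⟩
  let φ := (S : Subgroup G).normalizerMonoidHom ⟨d, hd⟩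
  obtain ⟨m, h1, h2⟩ := exists_aut_three' S.isPGroup' hV hcc hΩ (φ := φ) fun v hv v1 e =>
    v1 (Subtype.ext (z.fpf (z.norm_le S.isPGroup' hZS hd) hd' v hv (congrArg Subtype.val e)))
  let T : Tri (S : Subgroup G) := ⟨S.isPGroup', _, hV, hcc, hΩ, φ ^ m, fun x => by
    simpa [pow_succ] using DFunLike.congr_fun h1 x, h2⟩
  have hne : ¬ ∀ a b : (S : Subgroup G), a * b = b * a := fun e =>
    hxy (congrArg Subtype.val (e ⟨x, hx⟩ ⟨y, hy⟩))
  refine ⟨⟨T, exists_U T hne, hne⟩, rfl, fun x => ?_, fun a ha a1 => kd_of z rfl ha a1⟩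
  change IsConj _ (((φ ^ m) x : (S : Subgroup G)) : G)
  rw [← map_pow]
  exact isConj_iff.2 ⟨d ^ m, rfl⟩

end Cfsg.Agent.SC.Ly
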