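import Cfsg.Agent.Lib.SC.Defs
import Cfsg.Prelude.Def_Characters

/-!
Statements used in the proof of `LyonsStmt` (see `docs/LYONS_PLAN.md`).
-/

namespace Cfsg.Agent.SC

open Subgroup Cfsg.Agent.FT

universe u

/-- If the fixed points of `Z` and of `S` in a nontrivial irreducible module are the same nonzero
subspace, its stabilizer is strongly embedded. -/
def WStmt : Prop :=
  ∀ (G : Type u) [Group G] [Finite G] [IsSimpleGroup G] (S : Sylow 2 G) (Z : Subgroup G),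
    Nat.card Z = 4 → (∀ x, x ∈ Z ↔ x ∈ (S : Subgroup G) ∧ x * x = 1) → (S : Subgroup G) ≤ 𝐂(Z) →
    (∀ a ∈ Z, a ≠ 1 → ∃ u ∈ (S : Subgroup G), ∃ v ∈ (S : Subgroup G), u * u = a ∧ v * v = a ∧
      u * v * u⁻¹ * v⁻¹ ∈ Z ∧ u * v * u⁻¹ * v⁻¹ ≠ 1 ∧ u * v * u⁻¹ * v⁻¹ ≠ a) →
    ∀ (χ : IrrCharacter G) (m : ℕ), χ.1 ≠ (fun _ => 1) → m ≠ 0 →
      ∑ᶠ x : Z, χ.1 x = 4 * m → ∑ᶠ x : (S : Subgroup G), χ.1 x = Nat.card (S : Subgroup G) * m →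
      ∃ H : Subgroup G, IsStronglyEmbedded H

end Cfsg.Agent.SC
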