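import Cfsg.Agent.Lib.SC.ArFin

/-!
# Discrete Fourier transform of the values on the section of an involution
-/

set_option autoImplicit false

namespace Cfsg.Agent.SC.Ly

open Finset
open scoped ComplexConjugate

theorem geom {μ : ℂ} {n : ℕ} (h : μ ^ n = 1) [Decidable (μ = 1)] :
    ∑ k ∈ range n, μ ^ k = if μ = 1 then (n : ℂ) else 0 := by
  split_ifs with e
  · simp [e]
  · rw [geom_sum_eq e, h, sub_self, zero_div]

theorem fourier_int {r q : ℕ} (hq : q ≠ 0) (ε : Fin r → ℤ) (l : Fin r → ℂ)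
    (hl : ∀ i, l i ^ (5 * q) = 1) {x : ℕ → ℂ} (hx : ∀ k, x k = ∑ i, ε i * l i ^ k)
    (hp : ∀ k, x k = x (k % 5)) {ω : ℂ} (hω : ω ^ 5 = 1) :
    ∃ z : ℤ, ∑ k ∈ range 5, x k * ω ^ k = 5 * z := by
  classical
  have h1 : ∀ q : ℕ, ∑ k ∈ range (5 * q), x k * ω ^ k = q * ∑ k ∈ range 5, x k * ω ^ k := by
    intro q
    induction q with
    | zero => simp
    | succ q ih =>
      rw [mul_add, sum_range_add, ih, sum_congr rfl fun k _ => show x (5 * q + k) * ω ^ (5 * q + k) =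
        x k * ω ^ k by rw [hp, Nat.mul_add_mod, ← hp, pow_add, pow_mul, hω, one_pow, one_mul]]
      push_cast
      ring
  refine ⟨∑ i, if l i * ω = 1 then ε i else 0, mul_left_cancel₀ (Nat.cast_ne_zero.2 hq) ?_⟩
  rw [← h1]
  simp only [hx, sum_mul, mul_assoc, ← mul_pow]
  rw [sum_comm]
  push_cast
  rw [mul_sum, mul_sum]
  refine sum_congr rfl fun i _ => ?_
  rw [← mul_sum, geom (by rw [mul_pow, hl, pow_mul, hω, one_pow, one_mul])]
  split_ifs
  · push_cast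
    ring
  · simp

variable {ι : Type*} [Fintype ι] [DecidableEq ι]

theorem z15' (o : ι) (x : ℕ → ι → ℂ) (A t : ι → ℤ) (D m₁ m₂ m₃ : ι → ℕ) (σ : Equiv.Perm ι)
    (hint : ∀ ω : ℂ, ω ^ 5 = 1 → ∀ i, ∃ z : ℤ, ∑ k ∈ range 5, x k i * ω ^ k = 5 * z)
    (hσx : ∀ k i, x k (σ i) = x (2 * k % 5) i) (hσt : ∀ i, t (σ i) = t i)
    (hσD : ∀ i, D (σ i) = D i) (hox : ∀ k, x k o = 1) (hot : t o = 1) (hoD : D o = 1)
    (hA : ∀ i, x 0 i = A i) (hA0 : ∀ i, A i ≠ 0)
    (hm₁ : ∀ i, 64 * (m₁ i : ℤ) = D i + 3 * A i + 60 * t i)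
    (hm₂ : ∀ i, 64 * (m₂ i : ℤ) = D i + 3 * A i - 4 * t i) (hm₃ : ∀ i, 16 * (m₃ i : ℤ) = D i - A i)
    (h3 : ∀ i, i ≠ o → m₃ i ≠ 0) (hW : ∀ i, i ≠ o → m₂ i ≠ 0 ∨ m₁ i = 0)
    (gxx : ∀ k < 5, ∀ l < 5, ∑ i, x k i * conj (x l i) =
      if k = l then if k = 0 then 320 else 20 else 0)
    (gxt : ∀ k, ∑ i, t i * conj (x k i) = 0) (gtt : ∑ i, t i * t i = 16)
    (ex : ∀ k, ∑ i, x k i * conj (D i : ℂ) = 0) (et : ∑ i, t i * D i = 0)
    (c1 : ∑ i, ((A i ^ 2 * t i : ℤ) : ℚ) / D i = 0)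
    (c2 : ∀ k, k % 5 ≠ 0 → ∑ i, conj (x k i) * (A i * A i / D i) = 0)
    (c3 : 0 ≤ ∑ i, ((A i ^ 2 * A i : ℤ) : ℚ) / D i) : False := by
  classical
  have hζ := Complex.isPrimitiveRoot_exp 5 (by norm_num)
  generalize Complex.exp _ = ζ at hζ
  have h5 : ∀ j : ℕ, (ζ ^ j) ^ 5 = 1 := fun j => by
    rw [← pow_mul, mul_comm, pow_mul, hζ.pow_eq_one, one_pow]
  choose d hd using fun (j : Fin 5) i => hint _ (h5 j) i
  have hd' : ∀ j i, ∑ k ∈ range 5, conj (x k i) * conj (ζ ^ j.1) ^ k = 5 * d j i := fun j i => by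
    simpa [map_ofNat] using congrArg conj (hd j i)
  have hc : ∀ j : ℕ, ζ ^ j * conj (ζ ^ j) = 1 := fun j => by
    rw [Complex.mul_conj, Complex.normSq_eq_norm_sq, norm_pow, hζ.norm'_eq_one (by norm_num)]
    simp
  have h5' : (5 : ℂ) ≠ 0 := by norm_num
  have hne : ∀ j : ℕ, j % 5 ≠ 0 → ζ ^ j ≠ 1 := fun j hj e =>
    hj (Nat.mod_eq_zero_of_dvd (hζ.dvd_of_pow_eq_one j e))
  refine Ar.z15 o d A t D m₁ m₂ m₃ σ (fun j i => ?_) hσt hσD ?_ (fun j hj => ?_) hot hoD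
    (fun i => ?_) hA0 hm₁ hm₂ hm₃ h3 hW (fun j k => ?_) (fun j => ?_) gtt (fun j => ?_) et c1 ?_ c3
  · refine Int.cast_injective (α := ℂ) (mul_left_cancel₀ h5' ?_)
    rw [← hd, ← hd, Fin.val_mul, ← pow_eq_pow_mod _ hζ.pow_eq_one, mul_comm, pow_mul]
    have := h5 j
    generalize ζ ^ j.1 = ω at *
    simp only [sum_range_succ, sum_range_zero, hσx, show (3 : Fin 5).1 = 3 from rfl]
    linear_combination (-x 2 i * ω - x 3 i * ω ^ 4 - x 4 i * (ω ^ 7 + ω ^ 2)) * this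
  · refine Int.cast_injective (α := ℂ) (mul_left_cancel₀ h5' ?_)
    rw [← hd]
    simp [hox]
  · refine Int.cast_injective (α := ℂ) (mul_left_cancel₀ h5' ?_)
    rw [← hd]
    simp only [hox, one_mul]
    rw [geom (h5 j), if_neg (hne _ (by omega))]
    simp
  · refine Int.cast_injective (α := ℂ) (mul_left_cancel₀ h5' ?_)
    push_cast
    rw [mul_sum, ← hA]
    simp only [← hd]
    rw [sum_comm, sum_congr rfl fun k hk => show ∑ j : Fin 5, x k i * (ζ ^ j.1) ^ k =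
      if k = 0 then x k i * 5 else 0 by
        simp only [← mul_sum, pow_right_comm ζ _ k]
        rw [Fin.sum_univ_eq_sum_range, geom (h5 k)]
        by_cases e : k = 0
        · simp [e]
        · rw [if_neg e, if_neg (hne _ (by have := mem_range.1 hk; omega)), mul_zero]]
    simp [mul_comm]
  · refine Int.cast_injective (α := ℂ) (mul_left_cancel₀ (mul_ne_zero h5' h5') ?_)
    push_cast
    rw [mul_sum, sum_congr rfl fun i _ => show 5 * 5 * ((d j i : ℂ) * d k i) = ∑ a ∈ range 5,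
      ∑ b ∈ range 5, (ζ ^ j.1) ^ a * conj (ζ ^ k.1) ^ b * (x a i * conj (x b i)) by
        rw [mul_mul_mul_comm, ← hd, ← hd', sum_mul_sum]
        exact sum_congr rfl fun _ _ => sum_congr rfl fun _ _ => by ring, sum_comm,
      sum_congr rfl fun a ha => show ∑ i, ∑ b ∈ range 5,
        (ζ ^ j.1) ^ a * conj (ζ ^ k.1) ^ b * (x a i * conj (x b i)) =
        (ζ ^ j.1 * conj (ζ ^ k.1)) ^ a * if a = 0 then 320 else 20 by
          rw [sum_comm, sum_eq_single_of_mem a ha fun b hb e => by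
            rw [← mul_sum, gxx a (mem_range.1 ha) b (mem_range.1 hb), if_neg e.symm, mul_zero],
            ← mul_sum, gxx a (mem_range.1 ha) a (mem_range.1 ha), if_pos rfl, mul_pow]]
    have h1 := geom (μ := ζ ^ j.1 * conj (ζ ^ k.1)) (n := 5) (by
      rw [mul_pow, ← map_pow, h5, h5, map_one, one_mul])
    have h2 : ζ ^ j.1 * conj (ζ ^ k.1) = 1 ↔ j = k := ⟨fun e => Fin.ext (hζ.pow_inj j.2 k.2 (by
      rw [← mul_one (ζ ^ j.1), ← hc k, mul_left_comm, e, mul_one])), fun e => e ▸ hc j⟩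
    simp only [h2, sum_range_succ, sum_range_zero, if_true, OfNat.ofNat_ne_zero, one_ne_zero,
      if_false] at h1 ⊢
    split_ifs at h1 ⊢ <;> push_cast at h1 <;> linear_combination 20 * h1
  · refine Int.cast_injective (α := ℂ) (mul_left_cancel₀ h5' ?_)
    push_cast
    simp only [mul_sum, mul_left_comm (5 : ℂ), ← hd']
    simp only [← mul_assoc]
    rw [sum_comm]
    simp [← sum_mul, gxt]
  · refine Int.cast_injective (α := ℂ) (mul_left_cancel₀ h5' ?_)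
    push_cast
    simp only [mul_sum, ← mul_assoc, ← hd, sum_mul, mul_right_comm _ _ (D _ : ℂ)]
    rw [sum_comm]
    simp only [map_natCast] at ex
    simp [← sum_mul, ex]
  · refine Rat.cast_injective (α := ℂ) ?_
    push_cast
    refine Eq.trans ?_ ((congrArg₂ (· + ·) (congrArg₂ (· + ·) (c2 1 (by norm_num))
      (c2 2 (by norm_num))) (congrArg₂ (· + ·) (c2 3 (by norm_num)) (c2 4 (by norm_num)))).trans
        (by simp))
    simp only [← sum_add_distrib, ← hd']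
    refine sum_congr rfl fun i _ => ?_
    simp only [sum_range_succ, sum_range_zero, hA, Fin.val_zero, pow_zero, map_one, map_intCast]
    ring

end Cfsg.Agent.SC.Ly
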