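import Cfsg.Agent.Lib.SC.LyA
import Cfsg.Agent.Lib.SC.LyF
import Cfsg.Agent.Lib.SC.ArZ3
import Cfsg.Agent.Lib.SC.LyDefs
import Cfsg.Agent.S0944

/-!
# The weak form of Lyons' theorem, from `WStmt`
-/

set_option autoImplicit false
set_option linter.unusedSectionVars false

namespace Cfsg.Agent.SC.Ly

open Subgroup Cfsg.Agent.FT TwoGrp TwoGrp.Tri Finset Cfsg.Agent.Char Cfsg.Agent.Block Cfsg.Agent.ZStar
open Cfsg.Agent.Tr (SylowIn)
open scoped ComplexConjugate

universe u

variable {G : Type u} [Group G] [Fintype G]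

theorem gram {B : Set (IrrCharacter G)} [Fintype B] {x y : G} {f g : B → ℤ}
    (hf : ∀ χ : B, χ.1.1 x = f χ) (hg : ∀ χ : B, χ.1.1 y = g χ) {n : ℤ} (h : kb B x y = n) :
    ∑ χ, f χ * g χ = n := by
  refine Int.cast_injective (α := ℂ) ?_
  rw [← h, kb_sub]
  simp [hf, hg]

theorem coef {B : Set (IrrCharacter G)} [Fintype B] {t x : G} {A f : B → ℤ}
    (hA : ∀ χ : B, χ.1.1 t = A χ) (hf : ∀ χ : B, χ.1.1 x = f χ) :
    ∑ g, kb B (g * t * g⁻¹ * t) x =
      (Nat.card G * ∑ χ : B, ((A χ ^ 2 * f χ : ℤ) : ℚ) / deg χ.1 : ℚ) := by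
  rw [sum_pairs]
  push_cast
  refine congrArg _ (sum_congr rfl fun χ _ => ?_)
  rw [hA, hf, deg_spec, map_intCast]
  ring

theorem coef0 {B : Set (IrrCharacter G)} [Fintype B] {t x : G} {A f : B → ℤ}
    (hA : ∀ χ : B, χ.1.1 t = A χ) (hf : ∀ χ : B, χ.1.1 x = f χ)
    (h : ∀ g, kb B (g * t * g⁻¹ * t) x = 0) :
    ∑ χ : B, ((A χ ^ 2 * f χ : ℤ) : ℚ) / deg χ.1 = 0 := by
  have := coef hA hf
  simp only [h, sum_const_zero] at this
  exact (mul_eq_zero.1 (Rat.cast_eq_zero.1 this.symm)).resolve_left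
    (Nat.cast_ne_zero.2 Nat.card_pos.ne')

theorem deg_one : deg (irrOne G) = 1 := Nat.cast_eq_one.1 (deg_spec (irrOne G)).symm

variable {S : Sylow 2 G} {D : U (S : Subgroup G)} {a : (S : Subgroup G)}
  {u : Fin 5 → (S : Subgroup G)} {M : Ideal AlgInt} [hM : M.IsMaximal] [CharP (Res M) 2]
  [Fintype (principalBlock M G)]

/-- The values of the characters of the principal block on the Sylow subgroup. -/
structure Val (M : Ideal AlgInt) (a : G) (u : Fin 5 → G) where
  A : principalBlock M G → ℤ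
  t : Fin 5 → principalBlock M G → ℤ
  m₁ : principalBlock M G → ℕ
  m₂ : Fin 5 → principalBlock M G → ℕ
  m₃ : principalBlock M G → ℕ
  hA : ∀ χ : principalBlock M G, χ.1.1 a = A χ
  ht : ∀ j, ∀ χ : principalBlock M G, χ.1.1 (u j) = t j χ
  hm₁ : ∀ i, 64 * (m₁ i : ℤ) = deg i.1 + 3 * A i + 12 * ∑ j, t j i
  hm₂ : ∀ j i, 64 * (m₂ j i : ℤ) = deg i.1 + 3 * A i + 16 * t j i - 4 * ∑ j, t j i
  hm₃ : ∀ i, 16 * (m₃ i : ℤ) = deg i.1 - A i

theorem exists_val (R : D.Reps a u) (hψ : ∀ x : (S : Subgroup G), IsConj (x : G) (D.ψ x)) :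
    ∃ v : Val M (a : G) fun j => u j,
      ∀ χ, ∑ᶠ x : (S : Subgroup G), χ.1.1 x = Nat.card (S : Subgroup G) * v.m₁ χ := by
  classical
  have h1 := fun χ : principalBlock M G => isChar_restrict (isChar_irr χ.1) (S : Subgroup G)
  have h2 := fun (χ : principalBlock M G) (x : (S : Subgroup G)) =>
    (isClass_apply_of_isConj (isClass_irr χ.1) (hψ x)).symm
  choose A hA _ using fun χ : principalBlock M G => S0944.result χ.1 a (by
    rw [orderOf_coe]
    exact orderOf_eq_prime (by rw [sq, D.sq_V R.mem]) R.ne)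
  choose t ht using fun j (χ : principalBlock M G) => exists_int (D.notMem (R.sq' j) R.ne) χ.1
  choose m₁ hs hm₁ using fun χ => R.m₁ (h1 χ) (h2 χ)
  choose m₂ hm₂ using fun j χ => R.m₂ (h1 χ) (h2 χ) j
  choose m₃ hm₃ using fun χ => R.m₃ (h1 χ) (h2 χ)
  simp only [OneMemClass.coe_one, deg_spec, hA, ht] at hm₁ hm₂ hm₃
  refine ⟨⟨A, t, m₁, m₂, m₃, hA, ht, fun i => ?_, fun j i => ?_, fun i => ?_⟩, fun χ => ?_⟩
  · exact_mod_cast hm₁ i
  · exact_mod_cast hm₂ j i
  · exact_mod_cast hm₃ i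
  · rw [finsum_eq_sum_of_fintype, hs, D.card_T]
    rfl

/-- The trivial character. -/
abbrev triv (M : Ideal AlgInt) [M.IsMaximal] (G : Type u) [Group G] [Finite G] :
    principalBlock M G := ⟨irrOne G, irrOne_mem_principalBlock⟩

theorem ne_triv {χ : principalBlock M G} (h : χ ≠ triv M G) : χ.1.1 ≠ fun _ => 1 := fun e =>
  h (Subtype.ext (Subtype.ext e))

theorem exists_five {ha : a ∈ D.V} (h : KD D (io ha)) (h5 : (io ha).range.index = 5) :
    ∃ c : 𝐂[(a : G)], Odd (orderOf c) ∧ orderOf (pr _ c) = 5 := by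
  obtain ⟨k, hk⟩ : ∃ k, k ∉ (io ha).range := by
    by_contra e
    push Not at e
    rw [(Subgroup.eq_top_iff' _).2 e, index_top] at h5
    omega
  obtain ⟨g, rfl⟩ := QuotientGroup.mk'_surjective _ k
  obtain ⟨b, -, c, -, h1, h2, rfl⟩ := exists_parts g
  refine ⟨c, h2, ?_⟩
  have h3 := orderOf_dvd_natCard (pr _ c)
  rw [h.card_K, h5] at h3
  refine ((Nat.dvd_prime (by norm_num)).1 (Nat.Coprime.dvd_of_dvd_mul_left
    (Nat.Coprime.pow_right 6 (Nat.coprime_two_right.2 (h2.of_dvd_nat (orderOf_map_dvd _ _))))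
    h3)).resolve_left fun e => hk ?_
  rw [map_mul, orderOf_eq_one_iff.1 e, mul_one]
  exact h.mem_P (by rw [← MonoidHom.map_zpowers]; exact h1.map _)

theorem isConj_cancel {K : Type*} [Group K] {z x y : K} (hz : z ∈ center K)
    (h : IsConj (z * x) (z * y)) : IsConj x y := by
  obtain ⟨c, hc⟩ := isConj_iff.1 h
  rw [← mul_assoc, mem_center_iff.1 hz c, mul_assoc z, mul_assoc z] at hc
  exact isConj_iff.2 ⟨c, mul_left_cancel hc⟩

theorem cent_cancel {K : Type*} [Group K] {z : K} (hz : z ∈ center K) (x : K) :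
    𝐂[z * x] = 𝐂[x] := by
  ext c
  rw [mem_cent1, mem_cent1, ← mul_assoc, mem_center_iff.1 hz c, mul_assoc, mul_assoc,
    mul_right_inj]

theorem card_cent_of {K : Type*} [Group K] {z : K} (hz : z ∈ center K) : #|𝐂[z]| = Nat.card K := by
  rw [centralizer_eq_top_iff_subset.2 (by simpa using hz), card_top]

namespace Val

variable (v : Val M (a : G) fun j => u j)
include v

theorem oA : v.A (triv M G) = 1 := Int.cast_eq_one.1 (v.hA (triv M G)).symm

theorem ot (j : Fin 5) : v.t j (triv M G) = 1 := Int.cast_eq_one.1 (v.ht j (triv M G)).symm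

theorem m₃_ne [IsSimpleGroup G] (a1 : a ≠ 1) (χ : principalBlock M G) (h : χ ≠ triv M G) :
    v.m₃ χ ≠ 0 := fun e => a1 (Subtype.ext (eq_one_of_simple χ.1.2 (ne_triv h) (by
  have := v.hm₃ χ
  rw [v.hA, deg_spec, show v.A χ = deg χ.1 by omega]
  rfl)))

theorem one [IsSimpleGroup G] (R : D.Reps a u) (h : KD D (io R.mem))
    (h1 : (io R.mem).range.index = 1) : False := by
  classical
  have gAA : ∑ i, v.A i * v.A i = 64 := gram v.hA v.hA (by
    refine (h.kb_sec (g := inclusion (le_cent R.mem) a) (g' := inclusion (le_cent R.mem) a)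
      (isPPart_self order_four) (isPPart_self order_four)).trans ?_
    rw [kb_univ, classInd_of_isConj (IsConj.refl _), card_cent_of (z := pr _ _) (h.cen a R.mem),
      h.card_K, h1]
    norm_num)
  refine Ar.z3 (triv M G) v.t v.A (fun χ => deg χ.1) v.m₁ v.m₃ v.m₂ v.ot v.oA deg_one
    (fun i hi e => ?_) v.hm₁ v.hm₂ v.hm₃ (fun j k => gram (v.ht j) (v.ht k) ?_)
    (fun j => gram (v.ht j) v.hA (by
      simpa using kb_u_sec (D.notMem (R.sq' j) R.ne) R.mem (isPPart_self order_four))) gAA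
    fun j => coef0 v.hA (v.ht j) (kb_pair_u (D.notMem (R.sq' j) R.ne) R.mem)
  · have h2 := v.m₃_ne R.ne i hi
    have h3 := v.hm₃ i
    have h4 := gAA ▸ single_le_sum (f := fun i => v.A i * v.A i) (fun i _ => mul_self_nonneg _)
      (mem_univ i)
    have h5 : v.A i ≤ -15 := by omega
    nlinarith
  · split_ifs with e
    · simpa [e] using h.kb_u R.ne (R.sq' k)
    · simpa using kb_eq_zero 2 (idem_principal_mem_SG 2) (isPPart_self order_four)
        (isPPart_self order_four) fun c => e (R.inj _ _ (h.mem_V h1 (R.sq' k) (R.sq' j) c.symm))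

theorem five [IsSimpleGroup G] (R : D.Reps a u) (h : KD D (io R.mem))
    (h5 : (io R.mem).range.index = 5) (ht : ∀ j i, v.t j i = v.t 0 i)
    (hW : ∀ i, i ≠ triv M G → v.m₂ 0 i ≠ 0 ∨ v.m₁ i = 0) : False := by
  classical
  obtain ⟨c, hc, c5⟩ := exists_five h h5
  have aa : (a : G) * a = 1 := congrArg Subtype.val (D.sq_V R.mem)
  have ao : ∀ m, Odd m → (a : G) ^ m = a := by
    rintro _ ⟨m, rfl⟩
    rw [pow_succ, pow_mul, sq, aa, one_pow, one_mul]
  have ca : Commute (a : G) c := (mem_cent1.1 c.2).symm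
  let g : ℕ → 𝐂[(a : G)] := fun k => inclusion (le_cent R.mem) a * c ^ k
  have g1 : ∀ k, (g k : G) = a * c ^ k := fun k => rfl
  have hg : ∀ k, IsPPart 2 (g k : G) a := fun k => ⟨c ^ k, rfl, ca.pow_right k, order_four, by
    rw [← Subgroup.coe_pow, orderOf_coe]
    exact (hc.of_dvd_nat (orderOf_pow_dvd k)).not_two_dvd_nat⟩
  have hp : ∀ k, pr _ (g k) = io R.mem a * pr _ c ^ k := fun k => by
    rw [map_mul, map_pow]; rfl
  have per : ∀ k l, k % 5 = l % 5 → ∀ χ : principalBlock M G, χ.1.1 (g k) = χ.1.1 (g l) :=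
    fun k l e χ => apply_sec (hg k) (hg l) (by
      rw [hp, hp, ← pow_mod_orderOf, c5, e, ← c5, pow_mod_orderOf]) χ.2
  obtain ⟨m, hm, mp, m5⟩ := Nat.forall_exists_prime_gt_and_modEq (Nat.card G) (q := 5) (a := 2)
    (by norm_num) (by norm_num)
  have mc : m.Coprime (Nat.card G) := (Nat.coprime_of_lt_prime Nat.card_pos.ne' hm mp)
  have mo := odd_of_coprime D mc
  let σ : Equiv.Perm (principalBlock M G) := Equiv.ofBijective
    (fun χ => ⟨_, pow_mem_principal χ.2 mc⟩) (Finite.injective_iff_bijective.1 fun χ χ' e =>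
      Subtype.ext (Subtype.ext (funext fun x => by
        obtain ⟨y, rfl⟩ := (powCoprime mc.symm).surjective x
        exact congrFun (congrArg (fun ξ => ξ.1.1) e) y)))
  have hσ : ∀ χ x, (σ χ).1.1 x = χ.1.1 (x ^ m) := fun _ _ => rfl
  have hu := D.notMem (R.sq' 0) R.ne
  have a1 : (a : G) ≠ 1 := fun e => R.ne (Subtype.ext e)
  have hz := h.cen a R.mem
  refine z15' (triv M G) (fun k χ => χ.1.1 (g k)) v.A (v.t 0) (fun χ => deg χ.1) v.m₁ (v.m₂ 0)
    v.m₃ σ (fun ω hω χ => ?_) (fun k χ => ?_) (fun χ => ?_) (fun χ => ?_) (fun _ => rfl) (v.ot 0)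
    deg_one (fun χ => by rw [g1, pow_zero, mul_one, v.hA]) (fun χ e => ?_) (fun i => ?_)
    (fun i => ?_) v.hm₃ (v.m₃_ne R.ne) hW (fun k hk l hl => ?_) (fun k => ?_)
    (gram (v.ht 0) (v.ht 0) (by simpa using h.kb_u R.ne (R.sq' 0))) (fun k => ?_)
    (gram (g := fun χ => deg χ.1) (v.ht 0) (fun χ => deg_spec χ.1) (by
      simpa using kb_one (isPPart_self order_four) fun e => hu (by
        rw [show u 0 = 1 from Subtype.ext e]; exact one_mem _)))
    (coef0 v.hA (v.ht 0) (kb_pair_u hu R.mem)) (fun k hk => ?_) ?_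
  · obtain ⟨q, hq⟩ : 5 ∣ orderOf c := c5 ▸ orderOf_map_dvd _ _
    obtain ⟨r, l, -, h1, h2⟩ := exists_zpow_eq_sum_of_isChar (isChar_irr χ.1) ((a : G) * c)
    have c1 : (c : G) ^ (5 * q) = 1 := by rw [← hq, ← orderOf_coe, pow_orderOf_eq_one]
    have e1 : ((a : G) * c) ^ (5 * q) = a := by rw [ca.mul_pow, c1, ao _ (hq ▸ hc), mul_one]
    have e2 : ((a : G) * c) ^ (5 * q + 1) = c := by rw [pow_succ, e1, ← mul_assoc, aa, one_mul]
    have h3 : ∀ i n, ((a : G) * c) ^ n = 1 → l i ^ n = 1 := fun i n e => by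
      obtain ⟨j, rfl⟩ := orderOf_dvd_of_pow_eq_one e
      rw [pow_mul, h1, one_pow]
    choose ε hε using fun i => show ∃ ε : ℤ, l i ^ (5 * q) = ε from by
      rcases mul_self_eq_one_iff.1 ((pow_add _ _ _).symm.trans (h3 i _ (by rw [pow_add, e1, aa])))
        with e | e
      exacts [⟨1, by simpa using e⟩, ⟨-1, by simpa using e⟩]
    refine fourier_int (q := q) (by rintro rfl; exact (orderOf_pos c).ne' hq) ε
      (fun i => l i ^ (5 * q + 1)) (fun i => ?_) (fun k => ?_) (fun k => per _ _ (by simp) χ) hω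
    · rw [← pow_mul]
      exact h3 i _ (by rw [pow_mul, e2, c1])
    · have := h2 (5 * q + (5 * q + 1) * k : ℕ)
      simp only [zpow_natCast, pow_add _ (5 * q) (_ * _), pow_mul _ (5 * q + 1), e1, e2, hε] at this
      exact this
  · rw [hσ, g1, (ca.pow_right k).mul_pow, ao m mo, ← pow_mul, ← g1]
    exact per _ _ (by rw [Nat.mod_mod, mul_comm]; exact m5.mul_right k) χ
  · refine Int.cast_injective (α := ℂ) ?_
    rw [← v.ht, ← v.ht, hσ]
    exact (isClass_apply_of_isConj (isClass_irr χ.1) (int_of_notMem hu mo)).symm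
  · refine Nat.cast_injective (R := ℂ) ?_
    rw [← deg_spec, ← deg_spec, hσ, one_pow]
  · exact apply_ne_zero_of_mem_principalBlock χ.2
      (not_dvd_index_of_sylowIn (SylowIn.top S) (le_cent R.mem)) (by rw [v.hA, e, Int.cast_zero])
  · have := v.hm₁ i
    simp only [ht, Fin.sum_univ_five] at this
    omega
  · have := v.hm₂ 0 i
    simp only [ht, Fin.sum_univ_five] at this
    omega
  · rw [← kb_sub, h.kb_sec (hg k) (hg l), kb_univ, hp, hp, cent_cancel hz]
    split_ifs with e e'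
    · rw [e, classInd_of_isConj (IsConj.refl _), ← e, e', pow_zero, card_cent_of (one_mem _),
        h.card_K, h5]
      norm_num
    · rw [e, classInd_of_isConj (IsConj.refl _), h.card_cent_five h5 (by
        rw [Nat.Coprime.orderOf_pow (by rw [c5]; interval_cases l <;> first | omega | decide), c5])]
      norm_num
    · rw [classInd_of_not_isConj fun e' => e (by
        have := h.conj_pow h5 c5 (isConj_cancel hz e'); omega), mul_zero]
  · simp only [← v.ht]
    rw [← kb_sub, kb_u_sec hu R.mem (hg k)]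
  · simp only [← deg_spec]
    rw [← kb_sub, kb_one (hg k) a1]
  · have := sum_pairs (principalBlock M G) (a : G) (g k)
    rw [sum_eq_zero fun x _ => (h.kb_pair (hg k) x).elim id fun e => by
      rw [e, kb_univ, hp, classInd_of_not_isConj fun e' => hk (h.conj_pow h5 c5 (j := 0)
        (isConj_cancel hz (by simpa using e'))), mul_zero]] at this
    simpa only [v.hA, deg_spec] using (mul_eq_zero.1 this.symm).resolve_left
      (Nat.cast_ne_zero.2 Nat.card_pos.ne')
  · choose n hn using fun x : G => show ∃ n : ℕ, kb (principalBlock M G) (x * a * x⁻¹ * a) a = n from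
      (h.kb_pair (g' := inclusion (le_cent R.mem) a) (isPPart_self order_four) x).elim
        (fun e => ⟨0, e.trans Nat.cast_zero.symm⟩) fun e => ⟨_, e.trans (by
          rw [kb_univ, classInd_of_isConj (g := pr _ _) (x := io R.mem a) (IsConj.refl _), mul_one])⟩
    have := coef v.hA v.hA
    simp only [hn] at this
    refine nonneg_of_mul_nonneg_right ?_ (Nat.cast_pos.2 (Nat.card_pos (α := G)))
    rw [← Rat.cast_injective (α := ℂ) ((show ((∑ x, n x : ℕ) : ℚ) = (_ : ℂ) by simp).trans this)]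
    positivity

end Val

theorem lyons_of (hW : WStmt.{u}) : LyonsStmt.{u} := by
  intro G _ _ _ S Z h4 hZ hc hne
  by_contra hH
  classical
  letI := Fintype.ofFinite G
  obtain ⟨D, hV, hψ, hK⟩ := setup h4 hZ hc hne
  obtain ⟨a, ha, a1, -⟩ := kleinFour_exists_ne D.hV 1
  obtain ⟨u, R⟩ := D.exists_reps ha a1
  obtain ⟨M, hM⟩ := exists_isPModular 2
  haveI := hM.2.1
  haveI := charP_res hM
  letI := Fintype.ofFinite (principalBlock M G)
  obtain ⟨v, hv⟩ := exists_val (M := M) R hψ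
  have h := hK a ha a1
  rcases h.index_cases ha a1 with h1 | ⟨h5, hc5⟩
  · exact v.one R h h1
  have ht : ∀ j i, v.t j i = v.t 0 i := fun j i => Int.cast_injective (α := ℂ) (by
    rw [← v.ht, ← v.ht]
    exact isClass_apply_of_isConj (isClass_irr i.1) (h.isConj (hc5 _ _ (R.sq' j) (R.sq' 0))))
  refine v.five R h h5 ht fun χ hχ => or_iff_not_imp_right.2 fun h1 h2 => hH ?_
  have hZS : Z ≤ S := fun x hx => ((hZ x).1 hx).1
  refine hW G S Z h4 hZ hc (fun b hb b1 => ?_) χ.1 (v.m₁ χ) (ne_triv hχ) h1 ?_ (hv χ)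
  · obtain ⟨x, y, e1, e2, e0, e3, e4⟩ := D.exists_uv (a := ⟨b, hZS hb⟩) (hV.ge hb)
      fun e => b1 (congrArg Subtype.val e)
    exact ⟨x, x.2, y, y.2, congrArg Subtype.val e1, congrArg Subtype.val e2,
      hV.le e0, fun e => e3 (Subtype.ext e), fun e => e4 (Subtype.ext e)⟩
  · have h3 := v.hm₁ χ
    have h4 := v.hm₂ 0 χ
    simp only [ht, Fin.sum_univ_five, h2] at h3 h4
    have h6 := fun x : (S : Subgroup G) => (isClass_apply_of_isConj (isClass_irr χ.1) (hψ x)).symm
    rw [← finsum_comp_equiv ((MulEquiv.subgroupCongr hV).trans (subgroupOfEquivOfLe hZS)).toEquiv,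
      finsum_eq_sum_of_fintype]
    refine (R.sum_V fun x => χ.1.1 x).trans ?_
    simp only [h6, v.hA, OneMemClass.coe_one, deg_spec]
    exact_mod_cast (by omega : (deg χ.1 : ℤ) + v.A χ + v.A χ + v.A χ = 4 * v.m₁ χ)

end Cfsg.Agent.SC.Ly
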