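import Cfsg.Agent.Lib.SC.LyK
import Cfsg.Agent.Lib.Char.Galois

/-!
# The principal 2-block of a group with Sylow 2-subgroups of type `U₃(4)`
-/

set_option autoImplicit false
set_option linter.unusedSectionVars false

namespace Cfsg.Agent.SC.Ly

open Subgroup Cfsg.Agent.FT TwoGrp TwoGrp.Tri Finset Cfsg.Agent.Char Cfsg.Agent.Block Cfsg.Agent.ZStar
open Cfsg.Agent.Tr (SylowIn)
open scoped ComplexConjugate

universe u

variable {G : Type u} [Group G] [Finite G] {S : Sylow 2 G} {D : U (S : Subgroup G)}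
  {a : (S : Subgroup G)}

theorem le_cent (ha : a ∈ D.V) : (S : Subgroup G) ≤ 𝐂[(a : G)] := fun x hx =>
  mem_centralizer_singleton_iff.2 (congrArg Subtype.val (D.hc a ha ⟨x, hx⟩))

/-- The quotient map modulo the core. -/
abbrev pr (a : G) : 𝐂[a] →* 𝐂[a] ⧸ oddCore 𝐂[a] := QuotientGroup.mk' _

/-- The embedding of the Sylow subgroup. -/
abbrev io (ha : a ∈ D.V) : (S : Subgroup G) →* 𝐂[(a : G)] ⧸ oddCore 𝐂[(a : G)] :=
  (pr (a : G)).comp (inclusion (le_cent ha))

theorem sq_part {s t w : G} (D : U (S : Subgroup G)) (hs : s * s = 1) (ht : t * t = 1)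
    (hw : IsPPart 2 (s * t) w) : s * w * s⁻¹ = w⁻¹ ∧ w * w = 1 := by
  have h1 : s * w * s⁻¹ = w⁻¹ := Tr.conj_eq_inv_of_mem_zpowers (by
    rw [mul_inv_rev, Tr.inv_eq_of_mul_self hs, Tr.inv_eq_of_mul_self ht, ← mul_assoc, hs, one_mul])
    (IsPPart.mem_zpowers hw)
  refine ⟨h1, ?_⟩
  obtain ⟨k, hk⟩ := IsPPart.pow_eq_one hw
  obtain ⟨c, hc⟩ := exists_conj_mem S (pgroup_sup_elt (Tr.isPGroup_zpowers hk)
    (Tr.isPGroup_zpowers (k := 1) (x := s) (by simpa [pow_two] using hs))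
    (mem_norm_cycle.2 (by rw [h1]; exact inv_mem (mem_zpowers w))))
  have h2 := congrArg Subtype.val (D.hc ⟨_, hc s (mem_sup_elt _ _)⟩
    (D.hΩ _ (Subtype.ext (Tr.conj_mul_self hs c))) ⟨_, hc w (mem_sup_left (mem_zpowers w))⟩)
  have h3 : w * s = s * w := by simpa [conj_mul] using h2
  rw [← h3, mul_inv_cancel_right] at h1
  exact mul_eq_one_iff_eq_inv.2 h1

theorem int_of_notMem {x : (S : Subgroup G)} (hx : x ∉ D.V) {m : ℕ} (hm : Odd m) :
    IsConj (x : G) (x ^ m) := by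
  obtain ⟨k, rfl⟩ := hm
  have := (S : Subgroup G).subtype.map_isConj (D.conj_mul hx (pow_mem (D.h4 x) k))
  simpa [pow_succ, pow_mul, pow_two] using this

theorem odd_of_coprime (D : U (S : Subgroup G)) {m : ℕ} (hm : m.Coprime (Nat.card G)) : Odd m :=
  odd_of_not_two (hm.coprime_dvd_right ((show 2 ∣ #|(S : Subgroup G)| by
    rw [D.card_T]; norm_num).trans (card_subgroup_dvd_card _)))

theorem exists_int {x : (S : Subgroup G)} (hx : x ∉ D.V) (χ : IrrCharacter G) :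
    ∃ n : ℤ, χ.1 x = n := by
  refine exists_int_of_forall_ringEquiv (isIntegral_of_isChar (isChar_irr χ) _) fun τ => ?_
  obtain ⟨m, hm, h⟩ := exists_char_pow_of_ringHom G τ.toRingHom
  exact (h _ (isGen_of_isIrr χ.2) x).trans
    (isClass_apply_of_isConj (isClass_irr χ) (int_of_notMem hx (odd_of_coprime D hm))).symm

theorem order_four {x : (S : Subgroup G)} : ∃ k, orderOf (x : G) = 2 ^ k := by
  simpa using IsPGroup.iff_orderOf.1 S.isPGroup' x

variable {M : Ideal AlgInt} [hM : M.IsMaximal] [CharP (Res M) 2]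

theorem kb_sub (B : Set (IrrCharacter G)) [Fintype B] (g h : G) :
    kb B g h = ∑ χ : B, χ.1.1 g * conj (χ.1.1 h) := by
  classical
  rw [kb_eq, ← sum_filter]
  exact sum_subtype _ (by simp) _

theorem sum_pairs [Fintype G] (B : Set (IrrCharacter G)) [Fintype B] (t x : G) :
    ∑ g, kb B (g * t * g⁻¹ * t) x =
      Nat.card G * ∑ χ : B, conj (χ.1.1 x) * (χ.1.1 t * χ.1.1 t / χ.1.1 1) := by
  classical
  rw [sum_conj_mul_eq (isClass_kb B x)]
  simp only [inner_kb, ite_mul, zero_mul]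
  rw [← sum_filter]
  exact congrArg _ (sum_subtype _ (by simp) _)

theorem pow_mem_principal {χ : IrrCharacter G} (hχ : χ ∈ principalBlock M G) {m : ℕ}
    (hm : m.Coprime (Nat.card G)) :
    (⟨_, isIrr_pow_coprime χ.2 hm⟩ : IrrCharacter G) ∈ principalBlock M G := fun g => by
  have h := hχ (g ^ m)
  have e : 𝐂[g ^ m] = 𝐂[g] := by
    ext c
    simp only [mem_centralizer_singleton_iff]
    refine ⟨fun e => ?_, fun e => Commute.pow_right e m⟩
    obtain ⟨k, hk⟩ := exists_pow_eq_self_of_coprime (x := g)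
      (hm.coprime_dvd_right (orderOf_dvd_natCard g))
    exact hk ▸ Commute.pow_right e k
  simpa only [centralChar, e, one_pow] using h

variable {ha : a ∈ D.V} (h : KD D (io ha))
include h

theorem KD.kb_sec {g g' : 𝐂[(a : G)]} (hg : IsPPart 2 (g : G) a) (hg' : IsPPart 2 (g' : G) a) :
    kb (principalBlock M G) g g' = kb Set.univ (pr _ g) (pr _ g') := by
  have := h.normal
  rw [kb_centralizer 2 order_four hg hg', kb_infl (pr _) (QuotientGroup.mk'_surjective _)
    (principalBlock_infl_image 2 _ _ (by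
      rw [QuotientGroup.ker_mk']; exact odd_oddCore.not_two_dvd_nat)),
    show principalBlock M _ = Set.univ from Set.eq_univ_of_forall fun χ =>
      Cover.sameBlock_of_centralizer_le 2 h.syl.isPGroup h.cent_le (irrOne _) χ]

omit h in
theorem apply_sec {g g' : 𝐂[(a : G)]} (hg : IsPPart 2 (g : G) a) (hg' : IsPPart 2 (g' : G) a)
    (e : pr _ g = pr _ g') {χ : IrrCharacter G} (hχ : χ ∈ principalBlock M G) : χ.1 g = χ.1 g' := by
  refine apply_eq_of_mem_principal 2 (f := 𝐂[(a : G)].subtype) (subtype_injective _)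
    (exists_induces_centralizer order_four) hg (by simp) hχ hg' (by simp) fun ξ hξ => ?_
  rw [← principalBlock_infl_image 2 (pr _) (QuotientGroup.mk'_surjective _) (by
      rw [QuotientGroup.ker_mk']; exact odd_oddCore.not_two_dvd_nat)] at hξ
  obtain ⟨η, -, rfl⟩ := hξ
  exact congrArg η.1 e

theorem KD.kb_u (a1 : a ≠ 1) {x : (S : Subgroup G)} (hx : x * x = a) :
    kb (principalBlock M G) x x = 16 := by
  have le : 𝐂[(x : G)] ≤ 𝐂[(a : G)] := fun g hg => mem_centralizer_singleton_iff.2 (by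
    have : Commute g x := mem_centralizer_singleton_iff.1 hg
    rw [← hx]
    exact this.mul_right this)
  let f := (pr (a : G)).comp (inclusion le)
  have h1 : f.range = 𝐂[io ha x] := by
    refine le_antisymm ?_ ?_
    · rintro _ ⟨g, rfl⟩
      refine mem_centralizer_singleton_iff.2 ?_
      simp only [f, io, MonoidHom.comp_apply, ← map_mul]
      exact congrArg _ (Subtype.ext (mem_centralizer_singleton_iff.1 g.2))
    · intro k hk
      have hk' := mem_centralizer_singleton_iff.1 hk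
      obtain ⟨y, rfl⟩ := h.mem_of_fix (D.notMem hx a1) (mul_inv_eq_iff_eq_mul.2 hk')
      exact ⟨⟨y, mem_centralizer_singleton_iff.2
        (congrArg Subtype.val (h.inj (by simpa only [← map_mul] using hk')))⟩, rfl⟩
  have h2 : f.ker.index = 2 ^ 4 := by rw [index_ker, h1, h.card_cent (D.notMem hx a1)]; rfl
  rw [kb_self_of_complement 2 order_four f.ker ?_ h2, h2]
  · norm_num
  · rw [← MonoidHom.comap_ker, QuotientGroup.ker_mk']
    exact fun e => odd_oddCore.not_two_dvd_nat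
      (e.trans (card_comap_dvd_of_injective _ _ (inclusion_injective le)))

theorem KD.isConj {x y : (S : Subgroup G)} (e : IsConj (io ha x) (io ha y)) : IsConj (x : G) y := by
  obtain ⟨k, hk⟩ := isConj_iff.1 e
  obtain ⟨g, rfl⟩ := QuotientGroup.mk'_surjective _ k
  have hS := (SylowIn.of_sylow_le S (le_cent ha)).subgroupOf_top
  obtain ⟨P, hP, h1, h2⟩ := exists_lift' (pr (a : G)) h.syl.isPGroup hS.isPGroup (by
    rintro _ ⟨z, hz, rfl⟩
    exact ⟨⟨z, hz⟩, rfl⟩)
  obtain rfl := hS.eq_of_le hP h1 le_top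
  obtain ⟨j, hj⟩ := S.isPGroup' x
  obtain ⟨n, hn, h3⟩ := h2 (g * inclusion (le_cent ha) x * g⁻¹) (Tr.isPGroup_zpowers (k := j) (by
    rw [_root_.conj_pow, ← map_pow, hj]; simp)) ⟨y, by rw [map_mul, map_mul, map_inv]; exact hk.symm⟩
  have h4 := h.inj (a₁ := ⟨_, h3⟩) (a₂ := y) (by
    rw [← hk]
    change pr _ (n * (g * inclusion (le_cent ha) x * g⁻¹) * n⁻¹) = _
    rw [map_mul, map_mul, map_inv, MonoidHom.mem_ker.1 hn]
    simp)
  exact isConj_iff.2 ⟨n * g, by rw [← h4]; simp [mul_assoc]⟩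

theorem KD.mem_V (h1 : (io ha).range.index = 1) {x y : (S : Subgroup G)} (hx : x * x = a)
    (hy : y * y = a) (e : IsConj (x : G) y) : y * x⁻¹ ∈ D.V := by
  obtain ⟨g, hg⟩ := isConj_iff.1 e
  have h2 : g ∈ 𝐂[(a : G)] := mem_centralizer_singleton_iff.2 (mul_inv_eq_iff_eq_mul.1 (by
    nth_rewrite 1 [← hx]
    rw [← hy, Subgroup.coe_mul, Subgroup.coe_mul, ← hg, conj_mul]))
  obtain ⟨s, hs⟩ := (index_eq_one.1 h1).ge (mem_top (pr _ ⟨g, h2⟩))
  have h3 : s * x * s⁻¹ = y := h.inj (by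
    rw [map_mul, map_mul, map_inv, hs]
    simp only [io, MonoidHom.comp_apply, ← map_inv, ← map_mul]
    exact congrArg _ (Subtype.ext hg))
  rw [← h3]
  exact D.cm_mem D.h4 s x

theorem KD.kb_pair {g' : 𝐂[(a : G)]} (hg' : IsPPart 2 (g' : G) a) (g : G) :
    kb (principalBlock M G) (g * a * g⁻¹ * a) g' = 0 ∨
      kb (principalBlock M G) (g * a * g⁻¹ * a) g' = kb Set.univ (io ha a) (pr _ g') := by
  have aa : (a : G) * a = 1 := congrArg Subtype.val (D.sq_V ha)
  obtain ⟨w, hw⟩ := exists_isPPart (p := 2) (g * a * g⁻¹ * a)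
  by_cases hc : IsConj w a
  swap
  · exact Or.inl (kb_eq_zero 2 (idem_principal_mem_SG 2) hw hg' hc)
  right
  obtain ⟨c, hc⟩ := isConj_iff.1 hc
  have h1 := IsPPart.conj hw c
  rw [hc, ← conj_mul] at h1
  have s2 := Tr.conj_mul_self (Tr.conj_mul_self aa g) c
  have t2 := Tr.conj_mul_self aa c
  rw [kb_conj_left _ (isConj_iff.2 ⟨c, rfl⟩), ← conj_mul]
  generalize c * (g * a * g⁻¹) * c⁻¹ = s at *
  generalize c * a * c⁻¹ = t at *
  have h2 := (sq_part D s2 t2 h1).1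
  rw [Tr.inv_eq_of_mul_self aa] at h2
  have hs : s ∈ 𝐂[(a : G)] := mem_centralizer_singleton_iff.2 (mul_inv_eq_iff_eq_mul.1 h2)
  have hst : s * t ∈ 𝐂[(a : G)] := mem_centralizer_singleton_iff.2 (IsPPart.commute h1)
  have ht : t ∈ 𝐂[(a : G)] := (mul_mem_cancel_left hs).1 hst
  refine (h.kb_sec (g := ⟨_, hst⟩) h1 hg').trans (congrArg (kb Set.univ · _) ?_)
  obtain ⟨v, hv, hc, -, ho⟩ := h1
  have hv' : v ∈ 𝐂[(a : G)] := mem_centralizer_singleton_iff.2 hc.symm
  have e : (⟨_, hst⟩ : 𝐂[(a : G)]) = inclusion (le_cent ha) a * ⟨v, hv'⟩ := Subtype.ext hv.symm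
  have z1 := h.mem_Z (k := pr _ ⟨s, hs⟩) (by rw [← map_mul]; exact congrArg _ (Subtype.ext s2))
  have z2 := h.mem_Z (k := pr _ ⟨t, ht⟩) (by rw [← map_mul]; exact congrArg _ (Subtype.ext t2))
  have z3 := mul_mem z1 z2
  rw [← map_mul, show (⟨s, hs⟩ * ⟨t, ht⟩ : 𝐂[(a : G)]) = ⟨_, hst⟩ from rfl, e, map_mul] at z3
  obtain ⟨z, hz, z4⟩ := (mul_mem_cancel_left (mem_map_of_mem (io ha) ha)).1 z3
  rw [e, map_mul, Tr.eq_one_of_odd_of_mul_self (x := pr _ ⟨v, hv'⟩)
    (by rw [← z4, ← map_mul, D.sq_V hz, map_one]) ((Nat.odd_iff.2 (Nat.two_dvd_ne_zero.1 ho)).of_dvd_nat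
      ((orderOf_map_dvd _ _).trans (by rw [← orderOf_coe]))), mul_one]
  rfl

omit h in
theorem kb_pair_u {x : (S : Subgroup G)} (hx : x ∉ D.V) (ha : a ∈ D.V) (g : G) :
    kb (principalBlock M G) (g * a * g⁻¹ * a) x = 0 := by
  have aa : (a : G) * a = 1 := congrArg Subtype.val (D.sq_V ha)
  obtain ⟨w, hw⟩ := exists_isPPart (p := 2) (g * a * g⁻¹ * a)
  refine kb_eq_zero 2 (idem_principal_mem_SG 2) hw (isPPart_self order_four) fun hc => ?_
  obtain ⟨c, hc⟩ := isConj_iff.1 hc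
  exact D.sq_ne hx (Subtype.ext (by
    simpa [hc] using Tr.conj_mul_self (sq_part D (Tr.conj_mul_self aa g) aa hw).2 c))

omit h in
theorem kb_u_sec {x : (S : Subgroup G)} (hx : x ∉ D.V) (ha : a ∈ D.V) {g : G}
    (hg : IsPPart 2 g a) : kb (principalBlock M G) x g = 0 := by
  refine kb_eq_zero 2 (idem_principal_mem_SG 2) (isPPart_self order_four) hg fun hc => ?_
  obtain ⟨c, hc⟩ := isConj_iff.1 hc.symm
  exact D.sq_ne hx (Subtype.ext (by
    simpa [hc] using Tr.conj_mul_self (congrArg Subtype.val (D.sq_V ha)) c))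

omit h in
theorem kb_one {x g : G} (hg : IsPPart 2 g x) (hx : x ≠ 1) : kb (principalBlock M G) g 1 = 0 :=
  kb_eq_zero 2 (idem_principal_mem_SG 2) hg (isPPart_self ⟨0, by simp⟩) (by simpa using hx)

end Cfsg.Agent.SC.Ly
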