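import Cfsg.Agent.Lib.SC.Cnt1
import Cfsg.Agent.Lib.Transfer.Focal

/-! `S O(C(Z))` is normal in `C(Z)`. -/

set_option autoImplicit false
set_option linter.unusedSectionVars false

namespace Cfsg.Agent.SC

open Subgroup Cfsg.Agent.FT Cfsg.Agent.SF.GP
open Cfsg.Agent.Tr (SylowIn)

universe u

/-- an element of odd order acting on `a` as a translation by a 2-element centralizes `a`. -/
theorem transl {G : Type*} [Group G] {P : Subgroup G} (hP : IsPGroup 2 P) {n a : G}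
    (hn : Odd (orderOf n)) (hb : n * a * n⁻¹ * a⁻¹ ∈ P) (hc : Commute n (n * a * n⁻¹ * a⁻¹)) :
    Commute n a := by
  generalize hz : n * a * n⁻¹ * a⁻¹ = z at hb hc
  have h1 : n * a = z * a * n := by rw [← hz]; group
  have h2 : ∀ k : ℕ, n ^ k * a = z ^ k * a * n ^ k := fun k => by
    induction k with
    | zero => simp
    | succ k ih =>
      rw [pow_succ', mul_assoc, ih, ← mul_assoc, ← mul_assoc, (hc.pow_right k).eq, mul_assoc _ n,
        h1, pow_succ]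
      group
  have h3 := h2 (orderOf n)
  rw [pow_orderOf_eq_one, one_mul, mul_one, eq_comm, mul_eq_right] at h3
  obtain ⟨k, hk⟩ := Tr.isPGroup_iff_forall_mem.1 hP z hb
  have h4 : z = 1 := by
    rw [← orderOf_eq_one_iff]
    exact Nat.eq_one_of_dvd_coprimes (Nat.Coprime.pow_right k (Nat.coprime_two_right.2 hn))
      (orderOf_dvd_of_pow_eq_one h3) (orderOf_dvd_of_pow_eq_one hk)
  rw [h4, one_mul] at h1
  exact h1

theorem cent_of_fix {G : Type*} [Group G] [Finite G] {S Z : Subgroup G} (hS : IsPGroup 2 S)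
    (hZ4 : #|Z| = 4) (hZS : Z ≤ S) (hZ : Z ≤ center G) (hsq : ∀ x ∈ S, x * x ∈ Z) {x n : G}
    (hx : x ∈ S) (hx' : x ∉ Z) (hC : #|S ⊓ 𝐂[x]| = 16) (hn : Odd (orderOf n)) (hnS : n ∈ 𝐍(S))
    (hf : n * x * n⁻¹ * x⁻¹ ∈ Z) {s : G} (hs : s ∈ S) : Commute n s := by
  have cz : ∀ g, ∀ z ∈ Z, Commute g z := fun g z hz => mem_center_iff.1 (hZ hz) g
  have := ZStar.normal_of_le_center' hZ
  have hnx : Commute n x := transl hS hn (hZS hf) (cz n _ hf)
  have hB : Z ⊔ zpowers x ≤ S ⊓ 𝐂[x] ⊓ 𝐂[n] := sup_le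
    (fun z hz => ⟨⟨hZS hz, mem_centralizer_singleton_iff.2 (cz x z hz).symm⟩,
      mem_centralizer_singleton_iff.2 (cz n z hz).symm⟩)
    (zpowers_le.2 ⟨⟨hx, mem_centralizer_singleton_iff.2 rfl⟩,
      mem_centralizer_singleton_iff.2 hnx.symm⟩)
  have nA : ∀ a ∈ S ⊓ 𝐂[x], n * a * n⁻¹ ∈ S ⊓ 𝐂[x] := fun a ha =>
    mem_inf.2 ⟨Tr.conj_mem_of_mem_normalizer hnS ha.1, mul_mem (mul_mem
      (mem_centralizer_singleton_iff.2 hnx) (mem_inf.1 ha).2)
      (inv_mem (mem_centralizer_singleton_iff.2 hnx))⟩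
  have hA : ∀ a ∈ S ⊓ 𝐂[x], Commute n a := by
    set B := S ⊓ 𝐂[x] ⊓ 𝐂[n]
    have h1 := Tr.card_mul_relIndex (show B ≤ S ⊓ 𝐂[x] from inf_le_left)
    have h2 : #|Z| < #|B| := by
      refine lt_of_le_of_ne (card_le_of_le (le_sup_left.trans hB)) fun e => hx' ?_
      rw [eq_of_le_of_card_ge (le_sup_left.trans hB) e.ge]
      exact hB (mem_sup_right (mem_zpowers x))
    obtain ⟨k, hk⟩ := card_dvd_of_le (le_sup_left.trans hB)
    rw [hC] at h1
    rw [hZ4] at h2 hk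
    have h3 : B.relIndex (S ⊓ 𝐂[x]) = 1 ∨ B.relIndex (S ⊓ 𝐂[x]) = 2 := by
      generalize B.relIndex (S ⊓ 𝐂[x]) = r at h1
      have : r ≤ 2 := by
        by_contra h4
        have : 8 * 3 ≤ #|B| * r := Nat.mul_le_mul (by omega) (by omega)
        omega
      rcases r with _ | r <;> omega
    intro a ha
    by_cases haB : a ∈ B
    · exact (mem_centralizer_singleton_iff.1 haB.2).symm
    rcases h3 with h3 | h3
    · exact absurd (relIndex_eq_one.1 h3 ha) haB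
    have h4 : n * a * n⁻¹ * a⁻¹ ∈ B := by
      rw [Tr.mul_mem_iff_of_relIndex_two h3 (nA a ha) (inv_mem ha), inv_mem_iff]
      refine iff_of_false (fun e => haB ⟨ha, ?_⟩) haB
      have h5 : n ∈ 𝐂[n] := mem_centralizer_singleton_iff.2 rfl
      simpa [mul_assoc] using mul_mem (mul_mem (inv_mem h5) (mem_inf.1 e).2) h5
    exact transl hS hn h4.1.1 (mem_centralizer_singleton_iff.1 h4.2).symm
  have h1 : n * s * n⁻¹ * s⁻¹ ∈ S ⊓ 𝐂[x] := by
    refine mem_inf.2 ⟨mul_mem (Tr.conj_mem_of_mem_normalizer hnS hs) (inv_mem hs), ?_⟩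
    have h2 : s⁻¹ * x * s * x⁻¹ ∈ Z := by
      have := mul_mem (mul_mem (inv_mem (hsq s hs)) (hsq _ (mul_mem hs hx))) (inv_mem (hsq x hx))
      convert this using 1; group
    have h3 := (cz n _ h2).eq
    have h4 := (cz s _ h2).eq
    generalize hz : s⁻¹ * x * s * x⁻¹ = z at h3 h4
    have h5 : s⁻¹ * x = z * x * s⁻¹ := by rw [← hz]; group
    have h6 : s * z * x = x * s := by rw [← hz]; group
    rw [mem_centralizer_singleton_iff]
    calc n * s * n⁻¹ * s⁻¹ * x = n * s * n⁻¹ * (z * x * s⁻¹) := by rw [← h5]; group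
      _ = n * s * n⁻¹ * (z * n) * (n⁻¹ * x) * s⁻¹ := by group
      _ = n * (s * z * x) * n⁻¹ * s⁻¹ := by rw [← h3, hnx.inv_left.eq]; group
      _ = _ := by rw [h6, ← mul_assoc, hnx.eq]; group
  exact transl hS hn h1.1 (hA _ h1)

theorem normS_core {G : Type u} [Group G] [Finite G] {S Z : Subgroup G} (hS : SylowIn 2 S ⊤)
    (hO : oddCore G = ⊥) (hZ4 : #|Z| = 4) (hZS : Z ≤ S) (hZ : Z ≤ center G)
    (hsq : ∀ x ∈ S, x * x ∈ Z) (h8 : 32 ≤ #|S|) (hC : ∀ x ∈ S, x ∉ Z → #|S ⊓ 𝐂[x]| = 16)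
    (hn : ∃ x ∈ S, ∃ y ∈ S, x ∉ Z ∧ y ∉ Z ∧ ∀ c, c * x * c⁻¹ * y⁻¹ ∉ Z) : S.Normal := by
  have := ZStar.normal_of_le_center' hZ
  let f := QuotientGroup.mk' Z
  have fs : Function.Surjective f := QuotientGroup.mk'_surjective Z
  have f1 : ∀ x, f x = 1 ↔ x ∈ Z := fun x => QuotientGroup.eq_one_iff x
  have hfS : ∀ x, f x ∈ S.map f ↔ x ∈ S := fun x => by
    rw [← mem_comap, comap_map_eq, QuotientGroup.ker_mk', sup_eq_left.2 hZS]
  have hE : SylowIn 2 (S.map f) ⊤ := Tr.sylowIn_map_mk hS.toSylowTop Z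
  have sq : ∀ x ∈ S.map f, x * x = 1 := by
    rintro _ ⟨x, hx, rfl⟩
    rw [← map_mul, f1]
    exact hsq x hx
  have ab : IsElementaryAbelian 2 (S.map f) :=
    ⟨abelianP.2 fun _ hx _ hy => comm_of_sq sq hx hy, fun x hx => by rw [pow_two, sq x hx]⟩
  have nS : ∀ n, f n ∈ 𝐍(S.map f) → n ∈ 𝐍(S) := fun n hn =>
    Tr.mem_normalizer_of_forall fun s hs => (hfS _).1 (by
      simpa using Tr.conj_mem_of_mem_normalizer hn ((hfS s).2 hs))
  have fc : ∀ n x, n * x * n⁻¹ * x⁻¹ ∈ Z ↔ f n * f x = f x * f n := fun n x => by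
    rw [← f1, map_mul, map_mul, map_mul, map_inv, map_inv, mul_inv_eq_one, mul_inv_eq_iff_eq_mul]
  have hn := lemE (G ⧸ Z) hE.toSylowTop
    (Tr.pPrimeCore_quotient_central hO hZ (hS.isPGroup.to_le hZS)) ab ?_ ?_ ?_
  · have := hn.comap f
    rwa [Tr.SylowIn.coe_toSylowTop, comap_map_eq, QuotientGroup.ker_mk', sup_eq_left.2 hZS] at this
  · have h1 := Fit.card_map_mul_card_inf_ker f S
    rw [QuotientGroup.ker_mk', inf_eq_left.2 hZS, hZ4] at h1
    change 8 ≤ #|S.map f|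
    omega
  · rintro _ ⟨x, hx, rfl⟩ x1
    have h1 : SylowIn 2 (S.map f) 𝐂[f x] := hE.mono (fun s hs =>
      mem_centralizer_singleton_iff.2 (comm_of_sq sq hs ((hfS x).2 hx))) le_top
    refine has_compl h1 (h1.hasNormalPComplement_of_burnside fun n hn => ?_)
    obtain ⟨n, rfl⟩ := fs n
    have hK : ∀ π, f (piPart π n) ∈ 𝐍(S.map f) ⊓ 𝐂[f x] := fun π =>
      mem_comap.1 (mem_constt π (mem_comap.2 hn))
    have hx' : x ∉ Z := fun hx' => x1 ((f1 x).2 hx')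
    rw [← consttC {2} n, map_mul]
    refine mul_mem (abelem_cent ab (mem_map_of_mem _ ?_)) ?_
    · exact hS.le_of_le_normalizer' (pgroupE.1 (p_elt_cycle.2 (p_elt_constt {2} n))) le_top
        (zpowers_le.2 (nS _ (hK _).1)) (mem_zpowers _)
    · rw [mem_centralizer_iff]
      rintro _ ⟨s, hs, rfl⟩
      rw [← map_mul, ← map_mul, (cent_of_fix hS.isPGroup hZ4 hZS hZ hsq hx hx' (hC x hx hx')
        (by rw [← Nat.card_zpowers, ← piG_odd, p_elt_cycle]; exact p_elt_constt _ n)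
        (nS _ (hK _).1) ((fc _ x).2 (mem_centralizer_singleton_iff.1 (hK _).2)) hs).eq]
  · obtain ⟨y, hy, v, hv, hy', hv', hc⟩ := hn
    refine ⟨f y, (hfS y).2 hy, f v, (hfS v).2 hv, fun e => hy' ((f1 y).1 e),
      fun e => hv' ((f1 v).1 e), fun hyv => ?_⟩
    obtain ⟨g, hg⟩ := isConj_iff.1 hyv
    obtain ⟨g, rfl⟩ := fs g
    refine hc g ?_
    rw [← f1, map_mul, map_mul, map_mul, map_inv, map_inv, hg, mul_inv_cancel]

theorem normS {G : Type u} [Group G] [Finite G] (S : Sylow 2 G) {Z : Subgroup G} (hZ4 : #|Z| = 4)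
    (hZS : Z ≤ S) (hc : (S : Subgroup G) ≤ 𝐂(Z)) (hsq : ∀ x ∈ (S : Subgroup G), x * x ∈ Z)
    (h8 : 32 ≤ #|(S : Subgroup G)|)
    (hC : ∀ x ∈ (S : Subgroup G), x ∉ Z → #|(S : Subgroup G) ⊓ 𝐂[x]| = 16)
    (hn : ∃ x ∈ (S : Subgroup G), ∃ y ∈ (S : Subgroup G), x ∉ Z ∧ y ∉ Z ∧
      ∀ c ∈ 𝐂(Z), c * x * c⁻¹ * y⁻¹ ∉ Z) :
    ∀ g ∈ 𝐂(Z), ∃ o ∈ (oddCore 𝐂(Z)).map (𝐂(Z)).subtype, ∃ n ∈ 𝐍((S : Subgroup G)),
      n ∈ 𝐂(Z) ∧ g = o * n := by
  have hZC := hZS.trans hc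
  generalize hX : 𝐂(Z) = X at *
  have hN : Odd #|oddCore X| := Nat.coprime_two_right.1 (Fit.coprime_card_pPrimeCore 2 _)
  have : (oddCore X).Normal := inferInstanceAs (pPrimeCore 2 X).Normal
  let f := QuotientGroup.mk' (oddCore X)
  have fs : Function.Surjective f := QuotientGroup.mk'_surjective _
  have hS : SylowIn 2 ((S : Subgroup G).subgroupOf X) ⊤ :=
    (SylowIn.of_sylow_le S hc).subgroupOf_top
  have inj : ∀ x ∈ (S : Subgroup G).subgroupOf X, ∀ y ∈ (S : Subgroup G).subgroupOf X,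
      f x = f y → x = y := fun x hx y hy e => by
    rw [← mul_inv_eq_one, ← map_inv, ← map_mul] at e
    exact mul_inv_eq_one.1 (eq_one_of_odd hN hS.isPGroup ((QuotientGroup.eq_one_iff _).1 e)
      (mul_mem hx (inv_mem hy)))
  have cm : ∀ A ≤ (S : Subgroup G), #|(A.subgroupOf X).map f| = #|A| := fun A hA => by
    have h1 := Fit.card_map_mul_card_inf_ker f (A.subgroupOf X)
    rwa [QuotientGroup.ker_mk', (eq_bot_iff_forall (oddCore X ⊓ _)).2 fun x hx =>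
      eq_one_of_odd hN hS.isPGroup hx.1 (hA hx.2), card_bot, mul_one,
      Fit.card_subgroupOf_of_le (hA.trans hc)] at h1
  have mZ : ∀ x ∈ (S : Subgroup G).subgroupOf X, f x ∈ (Z.subgroupOf X).map f → (x : G) ∈ Z :=
    fun x hx ⟨_, hy, e⟩ => inj _ (hZS hy) x hx e ▸ hy
  have hn := normS_core (S := ((S : Subgroup G).subgroupOf X).map f) (Z := (Z.subgroupOf X).map f)
    (Tr.sylowIn_map_mk hS.toSylowTop _) (Fit.pPrimeCore_quotient_pPrimeCore 2 _)
    ((cm Z hZS).trans hZ4) (map_mono fun _ hx => hZS hx) ?_ ?_ (h8.trans (cm _ le_rfl).ge) ?_ ?_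
  · intro g hg
    have h1 := hn.comap f
    rw [comap_map_eq, QuotientGroup.ker_mk'] at h1
    obtain ⟨m, hm, y, hy, e⟩ := (hS.mono le_sup_left le_top).frattini (x := ⟨g, hg⟩)
      (N := _ ⊔ oddCore X) (by rw [normalizer_eq_top]; trivial)
    rw [sup_comm] at hm
    obtain ⟨o, ho, s, hs, rfl⟩ := (Tr.mem_sup_of_le_normalizer' le_normalizer_of_normal).1 hm
    refine ⟨o, mem_map_of_mem _ ho, s * y, mul_mem (le_normalizer hs)
      (Tr.mem_normalizer_of_forall fun a ha => ?_), mul_mem s.2 y.2, ?_⟩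
    · exact Tr.conj_mem_of_mem_normalizer (a := ⟨a, hc ha⟩) hy ha
    · rw [← mul_assoc]; exact congrArg Subtype.val e
  · rintro _ ⟨z, hz, rfl⟩
    rw [mem_center_iff]
    intro g
    obtain ⟨g, rfl⟩ := fs g
    rw [← map_mul, ← map_mul]
    exact congrArg f (Subtype.ext (mem_centralizer_iff.1 (hX ▸ g.2 : (g : G) ∈ 𝐂(Z)) z hz).symm)
  · rintro _ ⟨x, hx, rfl⟩
    exact ⟨x * x, hsq x hx, map_mul _ _ _⟩
  · rintro _ ⟨x, hx, rfl⟩ hx'
    rw [← hC x hx fun e => hx' (mem_map_of_mem _ e), ← cm _ inf_le_left]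
    congr 2
    refine le_antisymm ?_ ?_
    · rintro _ ⟨⟨s, hs, rfl⟩, h2⟩
      refine mem_map_of_mem _ ⟨hs, mem_centralizer_singleton_iff.2 (congrArg Subtype.val
        (inj _ (mul_mem hs hx) _ (mul_mem hx hs) ?_))⟩
      rw [map_mul, map_mul]
      exact mem_centralizer_singleton_iff.1 h2
    · rintro _ ⟨s, hs, rfl⟩
      refine ⟨mem_map_of_mem _ hs.1, mem_centralizer_singleton_iff.2 ?_⟩
      rw [← map_mul, ← map_mul]
      exact congrArg f (Subtype.ext (mem_centralizer_singleton_iff.1 hs.2))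
  · obtain ⟨x, hx, y, hy, hx', hy', h⟩ := hn
    refine ⟨f ⟨x, hc hx⟩, mem_map_of_mem _ hx, f ⟨y, hc hy⟩, mem_map_of_mem _ hy,
      fun e => hx' (mZ _ hx e), fun e => hy' (mZ _ hy e), fun c e => ?_⟩
    obtain ⟨c, rfl⟩ := fs c
    obtain ⟨o, ho, h1⟩ := Tr.exists_conj_mem_of_map hS.toSylowTop (oddCore X) (a := ⟨x, hc hx⟩)
      (g := c) hx (by
        rw [map_mul, map_mul, map_inv]
        exact (mul_mem_cancel_right (inv_mem (mem_map_of_mem f (x := ⟨y, hc hy⟩) hy))).1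
          (map_mono (K' := (S : Subgroup G).subgroupOf X) (fun _ hx => hZS hx) e))
    refine h _ (o * c).2 (mZ (o * c * ⟨x, hc hx⟩ * (o * c)⁻¹ * ⟨y, hc hy⟩⁻¹)
      (mul_mem h1 (inv_mem hy)) ?_)
    have : f o = 1 := (QuotientGroup.eq_one_iff o).2 ho
    simpa only [map_mul, map_inv, this, one_mul] using e

end Cfsg.Agent.SC
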