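import Cfsg.Agent.Lib.SC.LyS
import Cfsg.Agent.Lib.SC.NormS
import Cfsg.Agent.Lib.SC.Bas1

/-!
# The centralizer of an involution modulo its core
-/

set_option autoImplicit false
set_option linter.unusedSectionVars false

namespace Cfsg.Agent.SC.Ly

open Subgroup Cfsg.Agent.FT TwoGrp TwoGrp.Tri Finset Cfsg.Agent.Char
open Cfsg.Agent.Tr (SylowIn)

universe u

variable {T : Type*} {K : Type u} [Group T] [Finite T] [Group K] [Finite K] {D : U T} {ι : T →* K}

theorem card_inf_cent (D : U T) (hι : Function.Injective ι) {x : T} (hx : x ∉ D.V) :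
    #|ι.range ⊓ 𝐂[ι x]| = 16 := by
  rw [← D.card_cent hx, ← card_map_of_injective hι]
  congr 2
  ext k
  simp only [Subgroup.mem_inf, Subgroup.mem_map, mem_centralizer_singleton_iff]
  constructor
  · rintro ⟨⟨y, rfl⟩, h⟩
    exact ⟨y, hι (by simpa using h), rfl⟩
  · rintro ⟨y, h, rfl⟩
    exact ⟨⟨y, rfl⟩, by rw [← map_mul, h, map_mul]⟩

/-- `T` is a Sylow subgroup of a group with trivial core centralizing `V`. -/
structure KD (D : U T) (ι : T →* K) : Prop where
  inj : Function.Injective ι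
  syl : SylowIn 2 ι.range ⊤
  core : oddCore K = ⊥
  cen : ∀ v ∈ D.V, ι v ∈ center K

namespace KD

variable (h : KD D ι)
include h

theorem card_P : #|ι.range| = 64 := by
  rw [MonoidHom.range_eq_map, card_map_of_injective h.inj, card_top, D.card_T]

theorem card_Z : #|D.V.map ι| = 4 := by rw [card_map_of_injective h.inj, D.card_V]

theorem Z_le : D.V.map ι ≤ center K := by
  rintro _ ⟨v, hv, rfl⟩
  exact h.cen v hv

theorem sq : ∀ x ∈ ι.range, x * x ∈ D.V.map ι := by
  rintro _ ⟨x, rfl⟩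
  exact ⟨_, D.h4 x, map_mul _ _ _⟩

theorem normal : ι.range.Normal := by
  refine normS_core h.syl h.core h.card_Z (map_le_range _ _) h.Z_le h.sq (by rw [h.card_P]; norm_num)
    ?_ ?_
  · rintro _ ⟨x, rfl⟩ hx
    exact card_inf_cent D h.inj fun e => hx (mem_map_of_mem _ e)
  · obtain ⟨x, hx⟩ := D.exists_notMem
    refine ⟨_, ⟨x, rfl⟩, _, ⟨D.ψ x, rfl⟩, by rwa [mem_map_iff_mem h.inj], by
      rw [mem_map_iff_mem h.inj]; exact D.ψ_notMem hx, ?_⟩
    rintro c ⟨v, hv, e⟩
    refine D.fpf _ (D.h4 x) (D.sq_ne hx) (h.inj ?_)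
    have e1 : c * ι x * c⁻¹ = ι (v * D.ψ x) := by rw [map_mul, e]; simp
    rw [map_mul D.ψ, ← D.sq_mul_V hv, map_mul, ← e1, conj_mul, ← map_mul,
      mem_center_iff.1 (h.cen _ (D.h4 x)) c, mul_inv_cancel_right]

theorem mem_P {k : K} (hk : IsPGroup 2 (zpowers k)) : k ∈ ι.range := by
  obtain ⟨g, -, hg⟩ := h.syl.exists_cj_le hk le_top
  simpa [mul_assoc] using h.normal.conj_mem _ (hg (Tr.conj_mem_cj.2 (mem_zpowers k))) g⁻¹

theorem cent_le : 𝐂(ι.range) ≤ ι.range := by
  have e : pCore 2 K = ι.range :=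
    h.syl.eq_of_le (Fit.isPGroup_pCore 2 K) (Fit.le_pCore h.normal h.syl.isPGroup) le_top
  rw [← e]
  refine Cover.centralizer_pCore_le ⟨2, ![⊥, ι.range, ⊤], rfl, rfl, ?_, ?_, ?_⟩ h.core
  · refine Fin.monotone_iff_le_succ.2 fun i => ?_
    fin_cases i
    exacts [bot_le, le_top]
  · intro i
    fin_cases i
    exacts [normal_bot, h.normal, normal_top]
  · intro i
    fin_cases i
    · exact Or.inl ⟨6, (relIndex_bot_left _).trans h.card_P⟩
    · exact Or.inr ((Nat.Prime.coprime_iff_not_dvd Nat.prime_two).2 h.syl.not_dvd).symm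

theorem mem_of_fix {x : T} (hx : x ∉ D.V) {k : K} (hk : k * ι x * k⁻¹ = ι x) : k ∈ ι.range := by
  obtain ⟨a, -, b, hb, h1, h2, e⟩ := exists_parts k
  rw [e]
  refine mul_mem (h.mem_P h1) (h.cent_le (mem_cent.2 fun s hs => ?_))
  have hc : Commute b (ι x) := by
    obtain ⟨j, rfl⟩ := hb
    exact (show Commute k (ι x) from mul_inv_eq_iff_eq_mul.1 hk).zpow_left j
  exact (cent_of_fix h.syl.isPGroup h.card_Z (map_le_range _ _) h.Z_le h.sq ⟨x, rfl⟩
    (by rwa [mem_map_iff_mem h.inj]) (card_inf_cent D h.inj hx) h2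
    (by rw [normalizer_eq_top_iff.2 h.normal]; trivial) (by simp [hc.eq]) hs).symm

theorem card_cent {x : T} (hx : x ∉ D.V) : #|𝐂[ι x]| = 16 := by
  rw [← card_inf_cent D h.inj hx, inf_eq_right.2 fun k hk => h.mem_of_fix hx
    (mul_inv_eq_iff_eq_mul.2 (mem_centralizer_singleton_iff.1 hk))]

theorem mem_Z {k : K} (hk : k * k = 1) : k ∈ D.V.map ι := by
  obtain ⟨x, rfl⟩ := h.mem_P (k := k) (Tr.isPGroup_zpowers (k := 1) (by simpa [pow_two] using hk))
  exact mem_map_of_mem _ (D.hΩ x (h.inj (by simpa using hk)))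

theorem card_K : Nat.card K = 64 * ι.range.index := by rw [← h.card_P, card_mul_index]

theorem index_cases {a : T} (ha : a ∈ D.V) (a1 : a ≠ 1) : ι.range.index = 1 ∨
    ι.range.index = 5 ∧ ∀ x y, x * x = a → y * y = a → IsConj (ι x) (ι y) := by
  classical
  letI := Fintype.ofFinite K
  have hX : ∀ k : K, k * k = ι a → ∃ x, x * x = a ∧ ι x = k := fun k hk => by
    obtain ⟨x, rfl⟩ := h.mem_P (k := k) (Tr.isPGroup_zpowers (k := 2) (by
      rw [show 2 ^ 2 = 2 * 2 from rfl, pow_mul, pow_two k, hk, pow_two, ← map_mul, D.sq_V ha,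
        map_one]))
    exact ⟨x, h.inj (by simpa using hk), rfl⟩
  have h20 : #{k : K | k * k = ι a} = 20 := by
    rw [← D.card_sq ha a1, ← Fintype.card_subtype, ← Nat.card_eq_fintype_card]
    refine (Nat.card_congr (Equiv.ofBijective
      (fun x => ⟨ι x.1, by rw [← map_mul, x.2]⟩) ⟨fun x y e => ?_, fun k => ?_⟩)).symm
    · exact Subtype.ext (h.inj (congrArg Subtype.val e))
    · obtain ⟨x, h1, h2⟩ := hX k.1 k.2
      exact ⟨⟨x, h1⟩, Subtype.ext h2⟩
  have h1 := card_eq_sum_card_image ConjClasses.mk {k : K | k * k = ι a}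
  rw [sum_congr rfl (g := fun _ => 4 * ι.range.index) fun q hq => by
    obtain ⟨k, hk, rfl⟩ := mem_image.1 hq
    obtain ⟨x, h2, rfl⟩ := hX k (mem_filter.1 hk).2
    have h3 := card_mul_index 𝐂[ι x]
    rw [h.card_cent (D.notMem h2 a1), h.card_K, ← card_filter_isConj] at h3
    rw [filter_filter, filter_congr (q := IsConj (ι x)) fun y _ => by
      rw [ConjClasses.mk_eq_mk_iff_isConj]
      refine ⟨fun e => e.2.symm, fun e => ⟨?_, e.symm⟩⟩
      obtain ⟨c, rfl⟩ := isConj_iff.1 e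
      rw [conj_mul, ← map_mul, h2, mem_center_iff.1 (h.cen a ha) c, mul_inv_cancel_right]]
    omega, h20, sum_const, smul_eq_mul] at h1
  have h2 : ι.range.index ∣ 5 := Dvd.intro_left _ (by
    apply Nat.eq_of_mul_eq_mul_left (show 0 < 4 by norm_num)
    rw [mul_left_comm, ← h1])
  refine ((Nat.dvd_prime (by norm_num)).1 h2).imp_right fun e => ⟨e, fun x y hx hy => ?_⟩
  rw [e] at h1
  exact ConjClasses.mk_eq_mk_iff_isConj.1 (card_le_one.1
    (show #(image ConjClasses.mk {k : K | k * k = ι a}) ≤ 1 by omega)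
    _ (mem_image_of_mem _ (by simp [← map_mul, hx])) _ (mem_image_of_mem _ (by simp [← map_mul, hy])))

theorem card_cent_five (h5 : ι.range.index = 5) {k : K} (hk : orderOf k = 5) : #|𝐂[k]| = 20 := by
  have hkP : k ∉ ι.range := fun e => by
    have := orderOf_dvd_natCard _ e
    rw [hk, h.card_P] at this
    omega
  have h1 : 𝐂[k] ⊓ ι.range = D.V.map ι := by
    refine le_antisymm ?_ (le_inf (fun z hz => mem_centralizer_singleton_iff.2
      (mem_center_iff.1 (h.Z_le hz) k).symm) (map_le_range _ _))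
    rintro _ ⟨h1, x, rfl⟩
    by_contra hx
    exact hkP (h.mem_of_fix (fun e => hx (mem_map_of_mem _ e))
      (mul_inv_eq_iff_eq_mul.2 (mem_centralizer_singleton_iff.1 h1).symm))
  have := h.normal
  have h2 := Tr.card_mul_relIndex (inf_le_left : 𝐂[k] ⊓ ι.range ≤ _)
  rw [inf_relIndex_left, h1, h.card_Z] at h2
  have h3 : ι.range.relIndex 𝐂[k] ∣ 5 := h5 ▸ relIndex_dvd_index_of_normal _ _
  rcases (Nat.dvd_prime (by norm_num)).1 h3 with e | e
  · exact absurd (relIndex_eq_one.1 e (mem_centralizer_singleton_iff.2 rfl)) hkP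
  · rw [← h2, e]

theorem conj_pow (h5 : ι.range.index = 5) {k : K} (hk : orderOf k = 5) {i j : ℕ}
    (e : IsConj (k ^ i) (k ^ j)) : i % 5 = j % 5 := by
  have := h.normal
  have : Fact (Nat.Prime 5) := ⟨by norm_num⟩
  have hc : IsCyclic (K ⧸ ι.range) := isCyclic_of_prime_card h5
  have h1 := (QuotientGroup.mk' ι.range).map_isConj e
  obtain ⟨c, hc'⟩ := isConj_iff.1 h1
  rw [hc.isMulCommutative.is_comm.comm c, mul_inv_cancel_right, map_pow, map_pow,
    pow_inj_mod, orderOf_eq_prime (p := 5) (by rw [← map_pow, ← hk, pow_orderOf_eq_one, map_one])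
      fun e => by
        have := orderOf_dvd_natCard _ ((QuotientGroup.eq_one_iff _).1 e)
        rw [hk, h.card_P] at this
        omega] at hc'
  exact hc'

end KD

end Cfsg.Agent.SC.Ly
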