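import Cfsg.Agent.Lib.TwoGrp.Tri2
import Cfsg.Agent.Lib.ZStar.BS

/-!
# The Sylow 2-subgroup of `U₃(4)`: counting and multiplicities of linear characters
-/

set_option autoImplicit false
set_option linter.unusedSectionVars false

namespace Cfsg.Agent.SC.Ly

open Subgroup TwoGrp TwoGrp.Tri Finset Cfsg.Agent.Char
open scoped ComplexConjugate

theorem exists_aut_three' {T : Type*} [Group T] [Finite T] (hT : IsPGroup 2 T) {V : Subgroup T}
    (hV : IsKleinFour V) (hc : ∀ v ∈ V, ∀ x, x * v = v * x) (hΩ : ∀ x, x * x = 1 → x ∈ V)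
    {φ : MulAut T} (h : ∀ v ∈ V, v ≠ 1 → φ v ≠ v) :
    ∃ m : ℕ, (φ ^ m) ^ 3 = 1 ∧ ∀ v ∈ V, v ≠ 1 → (φ ^ m) v ≠ v := by
  have h3 : ∀ (i : ℕ), ∀ v ∈ V, (φ ^ (3 * i)) v = v := by
    intro i v hv
    induction i with
    | zero => rfl
    | succ i ih =>
      rw [mul_add, pow_add, MulAut.mul_apply, show (φ ^ (3 * 1)) v = v from (aut_cube_eq hV hΩ h hv).2,
        ih]
  obtain ⟨k, m, hm, hk⟩ := Nat.exists_eq_pow_mul_and_not_dvd (orderOf_pos φ).ne' 3 (by norm_num)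
  refine ⟨m, ?_, fun v hv h1 h2 => ?_⟩
  · have key : ∀ j, (φ ^ m) ^ 3 ^ (j + 1) = 1 → (φ ^ m) ^ 3 = 1 := by
      intro j
      induction j with
      | zero => simp
      | succ j ih =>
        intro hj
        refine ih ?_
        rw [pow_succ, pow_mul]
        refine cube_eq_one_of_nine hT hV hc hΩ _ (by rw [← pow_mul, ← hj]; congr 1; ring)
          fun v hv => ?_
        rw [← pow_mul, ← pow_mul, ← mul_assoc, mul_comm _ 3, h3 _ v hv]
    exact key k (by rw [← pow_mul, pow_succ, ← mul_assoc, mul_comm m, ← hk, pow_mul,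
      pow_orderOf_eq_one, one_pow])
  · obtain ⟨i, hi | hi⟩ : ∃ i, m = 1 + 3 * i ∨ m = 2 + 3 * i := ⟨m / 3, by omega⟩
    · rw [hi, pow_add, MulAut.mul_apply, h3 i v hv] at h2
      exact h v hv h1 h2
    · rw [hi, pow_add, MulAut.mul_apply, h3 i v hv] at h2
      have h4 := (aut_cube_eq hV hΩ h hv).2
      rw [show φ (φ v) = v from h2] at h4
      exact h v hv h1 h4

/-- The nonabelian case of `Tri`. -/
structure U (T : Type*) [Group T] extends Tri T where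
  h4 : ∀ y : T, y * y ∈ V
  ne : ¬ ∀ a b : T, a * b = b * a

theorem exists_U {T : Type*} [Group T] [Finite T] (D : Tri T) (hne : ¬ ∀ a b : T, a * b = b * a) :
    ∀ y : T, y * y ∈ D.V := by
  obtain ⟨x, m, h1, h2⟩ := D.exists_max
  have h : ∃ y, y ∉ D.A x := by
    by_contra h
    push Not at h
    exact hne fun a b => D.A_comm (h a) (h b)
  obtain rfl := D.sq_mem_V_of h1 h2 h
  exact fun y => D.hΩ _ (by rw [← h2 y]; simp [pow_succ, mul_assoc])

namespace U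

variable {T : Type*} [Group T] [Finite T] (D : U T)

theorem card_V : Nat.card D.V = 4 := D.hV.card_four

theorem sq_ne {x : T} (hx : x ∉ D.V) : x * x ≠ 1 := fun h => hx (D.hΩ x h)

theorem notMem {x a : T} (hx : x * x = a) (a1 : a ≠ 1) : x ∉ D.V := fun h => a1 (hx ▸ D.sq_V h)

theorem ψ_notMem {x : T} (hx : x ∉ D.V) : D.ψ x ∉ D.V :=
  D.notMem rfl (by rw [← map_mul, Ne, map_eq_one_iff _ D.ψ.injective]; exact D.sq_ne hx)

theorem cent_eq {x : T} (hx : x ∉ D.V) : centralizer {x} = D.A x := by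
  ext g
  rw [mem_centralizer_singleton_iff]
  exact ⟨fun h => D.mem_A_of_cm D.h4 (D.sq_ne hx) (cm_eq_one_iff.2 (Commute.symm h)),
    fun h => D.A_comm h (D.self_mem_A x)⟩

theorem root {x : T} (hx : x ∉ D.V) {v : T} (hv : v ∈ D.V) : ∃ y ∈ D.A x, y * y = v := by
  obtain ⟨y, hy, h⟩ := D.exists_root (m := 1) (x := x) (by simpa [sq] using D.sq_ne hx)
    (by rw [← D.sq_V (D.h4 x)]; simp [pow_succ, mul_assoc]) hv
  exact ⟨y, hy, by simpa [sq] using h⟩

theorem V_le {x : T} (hx : x ∉ D.V) : D.V ≤ D.A x := fun v hv => by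
  obtain ⟨y, hy, rfl⟩ := D.root hx hv
  exact mul_mem hy hy

theorem card_cent {x : T} (hx : x ∉ D.V) : Nat.card (centralizer ({x} : Set T)) = 16 := by
  rw [D.cent_eq hx]
  let f : D.A x →* T := MonoidHom.mk' (fun y => y * y) fun a b =>
    (D.A_comm b.2 a.2).mul_mul_mul_comm _ _ |>.symm ▸ rfl
  have h1 : f.ker = D.V.subgroupOf _ := by
    ext y
    exact ⟨fun h => D.hΩ _ h, fun h => D.sq_V h⟩
  have h2 : f.range = D.V := by
    ext v
    refine ⟨?_, fun hv => ?_⟩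
    · rintro ⟨y, rfl⟩
      exact D.h4 y
    · obtain ⟨y, hy, h⟩ := D.root hx hv
      exact ⟨⟨y, hy⟩, h⟩
  rw [← card_mul_index f.ker, index_ker, h1, h2, Fit.card_subgroupOf_of_le (D.V_le hx), D.card_V]

/-- commutation with `x` -/
def kap (x : T) : T →* T := MonoidHom.mk' (cm x) (D.cm_mul_right D.h4 x)

theorem kap_ψ (x y : T) : D.kap x (D.ψ y) = D.ψ (D.ψ (D.kap x y)) :=
  (D.cm_ψ_right D.h4 x y).trans (D.cm_ψ_left D.h4 x y)

theorem range_kap {x : T} (hx : x ∉ D.V) : (D.kap x).range = D.V := by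
  obtain ⟨y, hy⟩ : ∃ y, D.kap x y ≠ 1 := by
    by_contra h
    push Not at h
    exact D.ne fun a b => D.A_comm (D.mem_A_of_cm D.h4 (D.sq_ne hx) (h a))
      (D.mem_A_of_cm D.h4 (D.sq_ne hx) (h b))
  ext v
  refine ⟨?_, fun hv => ?_⟩
  · rintro ⟨y, rfl⟩
    exact D.cm_mem D.h4 _ _
  · rcases (D.mem_V_iff (D.cm_mem D.h4 x y) hy v).1 hv with rfl | rfl | rfl | rfl
    · exact one_mem _
    · exact ⟨y, rfl⟩
    · exact ⟨D.ψ (D.ψ y), by rw [D.kap_ψ, D.kap_ψ, D.h3]; rfl⟩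
    · exact ⟨D.ψ y, by rw [D.kap_ψ, ← D.ψψ_V (D.cm_mem D.h4 x y)]; rfl⟩

theorem ker_kap (x : T) : (D.kap x).ker = centralizer {x} := by
  ext g
  rw [mem_centralizer_singleton_iff]
  exact cm_eq_one_iff.trans ⟨fun h => h.symm, fun h => Commute.symm h⟩

theorem exists_notMem : ∃ x, x ∉ D.V := by
  by_contra h
  push Not at h
  exact D.ne fun a b => D.hc b (h b) a

include D in
theorem card_T : Nat.card T = 64 := by
  obtain ⟨x, hx⟩ := D.exists_notMem
  rw [← card_mul_index (D.kap x).ker, index_ker, D.range_kap hx, D.ker_kap, D.card_cent hx, D.card_V]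

theorem conj_mul {x : T} (hx : x ∉ D.V) {v : T} (hv : v ∈ D.V) : IsConj x (v * x) := by
  obtain ⟨s, rfl⟩ := D.range_kap hx ▸ hv
  refine isConj_iff.2 ⟨s, ?_⟩
  change _ = cm x s * x
  rw [D.cm_symm D.h4]
  simp [cm]

theorem sq_cases {a : T} (ha : a ∈ D.V) (a1 : a ≠ 1) {x : T} (hx : x ∉ D.V) :
    x * x = a ∨ D.ψ (D.ψ x) * D.ψ (D.ψ x) = a ∨ D.ψ x * D.ψ x = a := by
  rcases (D.mem_V_iff ha a1 _).1 (D.h4 x) with h | h | h | h
  · exact absurd h (D.sq_ne hx)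
  · exact Or.inl h
  · exact Or.inr (Or.inl (by rw [← map_mul, ← map_mul, h, D.h3]))
  · exact Or.inr (Or.inr (by rw [← map_mul, h, ← D.ψψ_V ha, D.h3]))

theorem exists_uv {a : T} (ha : a ∈ D.V) (a1 : a ≠ 1) : ∃ u v : T, u * u = a ∧ v * v = a ∧
    u * v * u⁻¹ * v⁻¹ ∈ D.V ∧ u * v * u⁻¹ * v⁻¹ ≠ 1 ∧ u * v * u⁻¹ * v⁻¹ ≠ a := by
  obtain ⟨x, hx⟩ := D.exists_notMem
  obtain ⟨u, -, hu⟩ := D.root hx ha
  obtain ⟨y, hy⟩ := D.range_kap (D.notMem hu a1) ▸ ha
  have hy' : y ∉ D.V := fun h => a1 (hy.symm.trans (cm_eq_one_iff.2 (D.hc y h u)))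
  obtain ⟨v, h1, h2⟩ : ∃ v, v * v = a ∧ D.kap u v ≠ 1 := by
    rcases D.sq_cases ha a1 hy' with h | h | h
    · exact ⟨_, h, by rwa [hy]⟩
    · exact ⟨_, h, by simpa [D.kap_ψ, hy]⟩
    · exact ⟨_, h, by simpa [D.kap_ψ, hy]⟩
  refine ⟨u, v, hu, h1, D.cm_mem D.h4 u v, h2, fun h => ?_⟩
  have h3 := D.sq_mul D.h4 (D.ψ u) v
  rw [D.cm_ψ_left D.h4, show cm u v = a from h, D.ψψ_V ha, h1, ← map_mul, hu, D.hc _ ha (D.ψ _),
    D.sq_V (mul_mem ha (D.ψ_mem_V ha))] at h3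
  have h5 := cm_eq_one_iff.2 (D.hc _ (D.hΩ _ h3) u)
  rw [D.cm_mul_right D.h4, cm_eq_one_iff.2 (D.commute_ψ u), one_mul] at h5
  exact h2 h5

theorem sq_mul_V {v : T} (hv : v ∈ D.V) (x : T) : v * x * (v * x) = x * x := by
  rw [mul_assoc, ← mul_assoc x, D.hc v hv, ← mul_assoc, ← mul_assoc, D.sq_V hv, one_mul]

theorem card_sq {a : T} (ha : a ∈ D.V) (a1 : a ≠ 1) : Nat.card {x : T // x * x = a} = 20 := by
  classical
  letI := Fintype.ofFinite T
  have h1 : ∀ v : T, #{x | x * x = D.ψ v} = #{x | x * x = v} := fun v =>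
    (card_bij (fun x _ => D.ψ x) (fun x hx => by simpa [← map_mul] using hx)
      (fun _ _ _ _ h => D.ψ.injective h) fun x hx => ⟨D.ψ.symm x, by
        simpa [← map_mul, MulEquiv.symm_apply_eq] using hx, by simp⟩).symm
  have hψ := D.ψ_mem_V ha
  have n1 : D.ψ a ≠ 1 := by simpa using a1
  have n2 := D.fpf a ha a1
  have n3 : D.ψ (D.ψ a) ≠ a := fun h => n2 ((congrArg D.ψ h).symm.trans (D.h3 a))
  have h2 := card_eq_sum_card_fiberwise (s := univ) (t := {1, a, D.ψ a, D.ψ (D.ψ a)})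
    (f := fun x : T => x * x) fun x _ => by
      simpa [D.ψψ_V ha] using (D.mem_V_iff ha a1 _).1 (D.h4 x)
  rw [sum_insert (by simp [a1.symm, n1.symm, eq_comm (a := (1 : T)), a1]),
    sum_insert (by simp [n2.symm, n3.symm]), sum_pair (by simpa using n2.symm), h1 (D.ψ a), h1 a, card_univ,
    ← Nat.card_eq_fintype_card, D.card_T] at h2
  have h3 : #{x : T | x * x = 1} = 4 := by
    rw [← D.card_V, Nat.card_eq_fintype_card, Fintype.card_subtype]
    exact congrArg _ (filter_congr fun x _ => ⟨D.hΩ x, D.sq_V⟩)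
  rw [Nat.card_eq_fintype_card, Fintype.card_subtype]
  omega

/-- Representatives of the five cosets with square `a`. -/
structure Reps (a : T) (u : Fin 5 → T) : Prop where
  mem : a ∈ D.V
  ne : a ≠ 1
  sq' : ∀ i, u i * u i = a
  inj : ∀ i j, u i * (u j)⁻¹ ∈ D.V → i = j
  ex : ∀ x, x * x = a → ∃ i, ∃ v ∈ D.V, x = v * u i

theorem exists_reps {a : T} (ha : a ∈ D.V) (a1 : a ≠ 1) : ∃ u, D.Reps a u := by
  classical
  letI := Fintype.ofFinite T
  have hN : D.V.Normal := ⟨fun v hv g => by rwa [D.hc v hv, mul_inv_cancel_right]⟩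
  let π := QuotientGroup.mk' D.V
  have hπ : ∀ x y, π x = π y ↔ x * y⁻¹ ∈ D.V := fun x y => by
    rw [← mul_inv_eq_one, ← map_inv, ← map_mul]
    exact QuotientGroup.eq_one_iff _
  have h1 := card_eq_sum_card_image π {x | x * x = a}
  rw [sum_congr rfl (g := fun _ => 4) fun q hq => by
    obtain ⟨x, hx, rfl⟩ := mem_image.1 hq
    rw [← D.card_V, Nat.card_eq_fintype_card, Fintype.card_subtype]
    refine card_bij (fun y _ => y * x⁻¹) (fun y hy => by simpa [hπ] using (mem_filter.1 hy).2)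
      (fun _ _ _ _ h => by simpa using h) fun v hv => ⟨v * x, ?_, by simp⟩
    have hv := (mem_filter.1 hv).2
    simpa [hπ, hv, D.sq_mul_V hv] using hx, ← Fintype.card_subtype, ← Nat.card_eq_fintype_card,
    D.card_sq ha a1, sum_const, smul_eq_mul] at h1
  let e := (equivFinOfCardEq (show #(image π {x | x * x = a}) = 5 by omega)).symm
  choose u hu hu' using fun i => mem_image.1 (e i).2
  refine ⟨u, ha, a1, fun i => (mem_filter.1 (hu i)).2, fun i j h => e.injective (Subtype.ext ?_),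
    fun x hx => ⟨e.symm ⟨π x, mem_image_of_mem _ (by simpa using hx)⟩, x * (u _)⁻¹, ?_,
      (inv_mul_cancel_right _ _).symm⟩⟩
  · rw [← hu', ← hu', hπ]
    exact h
  · rw [← hπ, hu']
    simp

variable [Fintype T] {D} {a : T} {u : Fin 5 → T}

theorem Reps.sum_V (h : D.Reps a u) [Fintype D.V] (F : T → ℂ) :
    ∑ v : D.V, F v = F 1 + F a + F (D.ψ a) + F (D.ψ (D.ψ a)) := by
  have ha := h.mem
  let f : Fin 4 → D.V := ![1, ⟨a, ha⟩, ⟨_, D.ψ_mem_V ha⟩, ⟨_, D.ψ_mem_V (D.ψ_mem_V ha)⟩]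
  have hf : Function.Bijective f := by
    refine (Fintype.bijective_iff_surjective_and_card f).2 ⟨fun v => ?_, by
      rw [← Nat.card_eq_fintype_card (α := D.V), D.card_V]; rfl⟩
    rcases (D.mem_V_iff ha h.ne _).1 v.2 with e | e | e | e
    exacts [⟨0, Subtype.ext e.symm⟩, ⟨1, Subtype.ext e.symm⟩, ⟨2, Subtype.ext e.symm⟩,
      ⟨3, Subtype.ext ((D.ψψ_V ha).trans e.symm)⟩]
  rw [← hf.sum_comp fun v => F v, Fin.sum_univ_four]
  rfl

theorem Reps.sum_T (h : D.Reps a u) (F : T → ℂ) (hF : ∀ v ∈ D.V, ∀ x ∉ D.V, F (v * x) = F x) :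
    ∑ x, F x = F 1 + F a + F (D.ψ a) + F (D.ψ (D.ψ a)) +
      4 * ∑ i, (F (u i) + F (D.ψ (u i)) + F (D.ψ (D.ψ (u i)))) := by
  classical
  let f : D.V ⊕ (Fin 5 × D.V) ⊕ (Fin 5 × D.V) ⊕ (Fin 5 × D.V) → T :=
    Sum.elim (↑) (Sum.elim (fun p => p.2 * u p.1) (Sum.elim (fun p => p.2 * D.ψ (u p.1))
      fun p => p.2 * D.ψ (D.ψ (u p.1))))
  have c4 : Fintype.card D.V = 4 := by rw [← Nat.card_eq_fintype_card, D.card_V]
  have hf : Function.Bijective f := by
    refine (Fintype.bijective_iff_surjective_and_card f).2 ⟨fun x => ?_, by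
      rw [← Nat.card_eq_fintype_card (α := T), D.card_T]; simp [c4]⟩
    by_cases hx : x ∈ D.V
    · exact ⟨.inl ⟨x, hx⟩, rfl⟩
    rcases D.sq_cases h.mem h.ne hx with e | e | e <;> obtain ⟨i, v, hv, e⟩ := h.ex _ e
    · exact ⟨.inr (.inl (i, ⟨v, hv⟩)), e.symm⟩
    · exact ⟨.inr (.inr (.inl (i, ⟨_, D.ψ_mem_V hv⟩))), by rw [← D.h3 x, e, map_mul]; rfl⟩
    · exact ⟨.inr (.inr (.inr (i, ⟨_, D.ψ_mem_V (D.ψ_mem_V hv)⟩))), by
        rw [← D.h3 x, e, map_mul, map_mul]; rfl⟩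
  have n0 := fun i => D.notMem (h.sq' i) h.ne
  rw [← hf.sum_comp F]
  simp only [f, Fintype.sum_sum_type, Sum.elim_inl, Sum.elim_inr, Fintype.sum_prod_type,
    fun i (v : D.V) => hF v v.2 _ (n0 i), fun i (v : D.V) => hF v v.2 _ (D.ψ_notMem (n0 i)),
    fun i (v : D.V) => hF v v.2 _ (D.ψ_notMem (D.ψ_notMem (n0 i))), sum_const, card_univ, c4,
    h.sum_V, sum_add_distrib, nsmul_eq_mul, ← mul_sum]
  push_cast
  ring

variable {χ : T → ℂ}

theorem Reps.m₁ (h : D.Reps a u) (hχ : IsCharacter T χ) (hψ : ∀ x, χ (D.ψ x) = χ x) :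
    ∃ m : ℕ, ∑ x, χ x = 64 * m ∧ 64 * (m : ℂ) = χ 1 + 3 * χ a + 12 * ∑ i, χ (u i) := by
  obtain ⟨m, hm⟩ := exists_nat_inner hχ isChar_one
  simp only [classInner, map_one, mul_one, D.card_T] at hm
  have h1 : ∑ x, χ x = 64 * m := by rw [← hm]; push_cast; ring
  refine ⟨m, h1, ?_⟩
  rw [← h1, h.sum_T χ fun v hv x hx =>
    (isClass_apply_of_isConj (isClass_of_isChar hχ) (D.conj_mul hx hv)).symm]
  simp only [hψ, sum_add_distrib]
  ring

theorem sign_sum {x y z : ℂ} (hx : x = 1 ∨ x = -1) (hy : y = 1 ∨ y = -1) (h : x * y * z = 1)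
    (h1 : x ≠ 1 ∨ y ≠ 1 ∨ z ≠ 1) : x + y + z = -1 := by
  rcases hx with rfl | rfl <;> rcases hy with rfl | rfl
  · simp at h h1
    exact absurd h h1
  · linear_combination -h
  · linear_combination -h
  · linear_combination h

theorem Reps.m₂ (h : D.Reps a u) (hχ : IsCharacter T χ) (hψ : ∀ x, χ (D.ψ x) = χ x) (j : Fin 5) :
    ∃ m : ℕ, 64 * (m : ℂ) = χ 1 + 3 * χ a + 16 * χ (u j) - 4 * ∑ i, χ (u i) := by
  obtain ⟨μ, hμ⟩ := ZStar.exists_hom_ne_one (A := D.V)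
    (fun x y => Subtype.ext (D.hc _ y.2 x)) (a := ⟨a, h.mem⟩) (by simpa using h.ne)
  let κ : T →* D.V := (D.kap (u j)).codRestrict _ (D.cm_mem D.h4 _)
  let l : T →* ℂ := (Units.coeHom ℂ).comp (μ.comp κ)
  have lV : ∀ v ∈ D.V, l v = 1 := fun v hv => by
    have : κ v = 1 := Subtype.ext (cm_eq_one_iff.2 (D.hc v hv _))
    simp [l, this]
  have l2 : ∀ x, l x = 1 ∨ l x = -1 := fun x => mul_self_eq_one_iff.1 (by
    rw [← map_mul, lV _ (D.h4 x)])
  have lc : ∀ x, conj (l x) = l x := fun x => by rcases l2 x with e | e <;> simp [e]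
  have l3 : ∀ i, l (u i) + l (D.ψ (u i)) + l (D.ψ (D.ψ (u i))) = (if i = j then 4 else 0) - 1 := by
    intro i
    split_ifs with e
    · have k0 : D.kap (u j) (u i) = 1 := by rw [e]; exact cm_eq_one_iff.2 (Commute.refl _)
      have a0 : κ (u i) = 1 := Subtype.ext k0
      have a1 : κ (D.ψ (u i)) = 1 := Subtype.ext ((D.kap_ψ _ _).trans (by simp [k0]))
      have a2 : κ (D.ψ (D.ψ (u i))) = 1 := Subtype.ext ((D.kap_ψ _ _).trans (by simp [D.kap_ψ, k0]))
      simp only [l, MonoidHom.comp_apply, a0, a1, a2, map_one]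
      norm_num
    · rw [zero_sub]
      refine sign_sum (l2 _) (l2 _) (by rw [← map_mul, ← map_mul, D.prod_eq_one, map_one]) ?_
      have k0 : D.kap (u j) (u i) ≠ 1 := fun k => e (h.inj _ _ (D.hΩ _ (by
        have c : Commute (u j) (u i) := cm_eq_one_iff.1 k
        rw [← pow_two, c.symm.inv_right.mul_pow, inv_pow, pow_two, pow_two, h.sq', h.sq', mul_inv_cancel])))
      have ne : ∀ x, D.kap (u j) x = a → l x ≠ 1 := fun x hx e => hμ (Units.ext (by
        rw [← show κ x = ⟨a, h.mem⟩ from Subtype.ext hx]; exact e))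
      rcases (D.mem_V_iff (D.cm_mem D.h4 (u j) (u i)) k0 _).1 h.mem with e | e | e | e
      · exact absurd e h.ne
      · exact Or.inl (ne _ e.symm)
      · exact Or.inr (Or.inr (ne _ (by rw [D.kap_ψ, D.kap_ψ, D.h3, e]; rfl)))
      · exact Or.inr (Or.inl (ne _ (by
          rw [D.kap_ψ, e, ← D.ψψ_V (D.cm_mem D.h4 _ _)]; rfl)))
  obtain ⟨m, hm⟩ := exists_nat_inner hχ (isChar_of_isIrr (isIrr_monoidHom l))
  simp only [classInner, lc, D.card_T] at hm
  refine ⟨m, ?_⟩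
  rw [← hm, h.sum_T _ fun v hv x hx => by
    rw [← isClass_apply_of_isConj (isClass_of_isChar hχ) (D.conj_mul hx hv), map_mul, lV v hv, one_mul]]
  simp only [hψ, ← mul_add, l3, lV _ h.mem, lV _ (D.ψ_mem_V h.mem),
    lV _ (D.ψ_mem_V (D.ψ_mem_V h.mem)), map_one, mul_sub, mul_ite, sum_sub_distrib, mul_zero,
    sum_ite_eq', mem_univ, if_true, mul_one]
  push_cast
  ring

theorem Reps.m₃ (h : D.Reps a u) (hχ : IsCharacter T χ) (hψ : ∀ x, χ (D.ψ x) = χ x) :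
    ∃ m : ℕ, 16 * (m : ℂ) = χ 1 - χ a := by
  classical
  have h0 := D.notMem (h.sq' 0) h.ne
  let a' : D.A (u 0) := ⟨a, D.V_le h0 h.mem⟩
  obtain ⟨μ, hμ⟩ := ZStar.exists_hom_ne_one (A := D.A (u 0))
    (fun x y => Subtype.ext (D.A_comm x.2 y.2)) (a := a') fun e => h.ne (congrArg Subtype.val e)
  obtain ⟨m, hm⟩ := exists_nat_inner (isChar_restrict hχ (D.A (u 0)))
    (isChar_of_isIrr (isIrr_unitsHom μ))
  have c16 := D.card_cent h0
  rw [D.cent_eq h0] at c16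
  simp only [classInner, c16] at hm
  let F : T → ℂ := fun x => if x = 1 then χ a else χ x
  have FV : ∀ v ∈ D.V, F v = χ a := fun v hv => by
    simp only [F]
    split_ifs with e
    · rfl
    · rcases (D.mem_V_iff h.mem h.ne _).1 hv with e' | e' | e' | e'
      · exact absurd e' e
      · rw [e']
      · rw [e', hψ]
      · rw [e', ← D.ψψ_V h.mem, hψ, hψ]
  have hF : ∀ x, F (a * x) = F x := fun x => by
    by_cases hx : x ∈ D.V
    · rw [FV _ hx, FV _ (mul_mem h.mem hx)]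
    · simp only [F]
      rw [if_neg fun e : a * x = 1 => hx ((mul_mem_cancel_left h.mem).1 (e ▸ one_mem _)),
        if_neg fun e : x = 1 => hx (e ▸ one_mem _),
        ← isClass_apply_of_isConj (isClass_of_isChar hχ) (D.conj_mul hx h.mem)]
  have h1 : ∑ x : D.A (u 0), F x * conj (μ x : ℂ) = 0 := by
    have := Equiv.sum_comp (Equiv.mulLeft a') fun x : D.A (u 0) => F x * conj (μ x : ℂ)
    simp only [Equiv.coe_mulLeft, Subgroup.coe_mul, a', hF, map_mul, Units.val_mul,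
      mul_left_comm (F _), ← mul_sum] at this
    by_contra h2
    exact hμ (Units.ext ((starRingEnd ℂ).injective (by
      simpa using mul_right_cancel₀ h2 (this.trans (one_mul _).symm))))
  have h2 : ∀ x : D.A (u 0), χ x * conj (μ x : ℂ) =
      F x * conj (μ x : ℂ) + if x = 1 then χ 1 - χ a else 0 := fun x => by
    by_cases e : x = 1
    · simp [F, e]
    · simp [F, e]
  refine ⟨m, ?_⟩
  rw [← hm, sum_congr rfl fun x _ => h2 x, sum_add_distrib, h1]
  simp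

end U

end Cfsg.Agent.SC.Ly
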