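import Cfsg.Agent.Lib.SC.LyW1
import Cfsg.Agent.Lib.SC.LyDefs
import Cfsg.Agent.Lib.Char.Integral

/-! The stabilizer of the fixed space of `Z` is strongly embedded. -/

set_option autoImplicit false
set_option linter.unusedSectionVars false

namespace Cfsg.Agent.SC

open Subgroup Cfsg.Agent.FT Cfsg.Agent.SF.GP
open Cfsg.Agent.Tr (SylowIn)

universe u

variable {G : Type*} [Group G] [Finite G]

theorem eq_top_or_se2 {E M : Subgroup G} (hE : SylowIn 2 E ⊤)
    (hc : ∀ t ∈ E, t * t = 1 → t ∈ 𝐂(E)) (h0 : ∃ t ∈ E, orderOf t = 2)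
    (hN : 𝐍(E) ≤ M) (hC : ∀ e ∈ E, orderOf e = 2 → 𝐂[e] ≤ M) :
    M = ⊤ ∨ IsStronglyEmbedded M := by
  have hEM : E ≤ M := le_normalizer.trans hN
  have hE' := hE.mono hEM le_top
  refine or_iff_not_imp_left.2 fun hM => Tr.isStronglyEmbedded_iff.2 ⟨hM, ?_, fun t ht t2 g hg => ?_⟩
  · obtain ⟨t, ht, t2⟩ := h0
    exact ⟨t, hEM ht, t2⟩
  · have tt := Tr.mul_self_of_orderOf_two t2
    obtain ⟨x, hx, h1⟩ := hE'.exists_conj_mem ht (k := 1) (by simpa using Tr.sq_of_orderOf_two t2)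
    obtain ⟨y, hy, h2⟩ := hE'.exists_conj_mem hg (k := 1) (by
      simpa using Tr.sq_of_orderOf_two ((Tr.orderOf_conj g t).trans t2))
    have e : y * g * x⁻¹ * (x * t * x⁻¹) * (y * g * x⁻¹)⁻¹ = y * (g * t * g⁻¹) * y⁻¹ := by group
    obtain ⟨n, -, hn, h3⟩ := hE.exists_normalizer_conj (mem_top (y * g * x⁻¹))
      (hc _ h1 (Tr.conj_mul_self tt x))
      (hc _ (e ▸ h2) (Tr.conj_mul_self (Tr.conj_mul_self tt x) _))
    have h4 : n⁻¹ * (y * g * x⁻¹) ∈ 𝐂[x * t * x⁻¹] := by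
      rw [mem_centralizer_singleton_iff, mul_assoc n⁻¹, ← mul_inv_eq_iff_eq_mul, mul_inv_rev,
        inv_inv, ← mul_assoc, mul_assoc n⁻¹, ← h3]
      group
    have h5 := mul_mem (mul_mem (inv_mem hy) (mul_mem (hN hn)
      (hC _ h1 ((Tr.orderOf_conj x t).trans t2) h4))) hx
    simpa [mul_assoc] using h5

variable {V : Type*} [AddCommGroup V] [Module ℂ V] [FiniteDimensional ℂ V]

/-- Lemma W without faithfulness. -/
theorem lemW' (σ : Representation ℂ G V) {u v b : G} (uu : σ (u * u) = 1) (vv : σ (v * v) = 1)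
    (bb : b * b = 1) (bd : b = u * v * u⁻¹ * v⁻¹) (fu : ∀ w, σ b w = w → σ u w = w)
    (fv : ∀ w, σ b w = w → σ v w = w) {X : Subgroup G} [X.Normal] (ho : Odd #|X|) {x : G}
    (hx : x ∈ X) : σ (x * b) = σ (b * x) := by
  let f := (MonoidHom.toHomUnits σ).rangeRestrict
  have fs : Function.Surjective f := MonoidHom.rangeRestrict_surjective _
  have : Finite (MonoidHom.toHomUnits σ).range := Finite.of_surjective f fs
  let τ : Representation ℂ (MonoidHom.toHomUnits σ).range V :=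
    (Units.coeHom _).comp (MonoidHom.toHomUnits σ).range.subtype
  have e : ∀ g, τ (f g) = σ g := fun g => rfl
  have inj : ∀ g, τ g = LinearMap.id → g = 1 := fun g hg => Subtype.ext (Units.ext hg)
  have u2 : f u * f u = 1 := inj _ (by rw [← map_mul, e, uu]; rfl)
  have v2 : f v * f v = 1 := inj _ (by rw [← map_mul, e, vv]; rfl)
  have h : WD τ (f u) (f v) (f b) := ⟨inj, u2, v2, by rw [← map_mul, bb, map_one], by
    rw [bd, map_mul, map_mul, map_mul, map_inv, map_inv, Tr.inv_eq_of_mul_self u2,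
      Tr.inv_eq_of_mul_self v2, mul_assoc], fu, fv⟩
  have hn : (X.map f).Normal := Normal.map ‹_› f fs
  have := mem_centralizer_singleton_iff.1 (h.lemW _ (X.map f) rfl
    (ho.of_dvd_nat (card_map_dvd X f)) (by rw [normalizer_eq_top]; trivial)
    (by rw [normalizer_eq_top]; trivial) (mem_map_of_mem f hx))
  rw [← e, ← e, map_mul f, map_mul f, this]

theorem finrank_inv (ρ : Representation ℂ G V) (A : Subgroup G) {m : ℕ}
    (h : ∑ᶠ x : A, ρ.character x = Nat.card A * m) :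
    Module.finrank ℂ (Representation.invariants (ρ.comp A.subtype)) = m := by
  have := Fintype.ofFinite A
  have h0 : (Nat.card A : ℂ) ≠ 0 := Nat.cast_ne_zero.2 Nat.card_pos.ne'
  have := invertibleOfNonzero h0
  have h1 := Representation.card_inv_mul_sum_char_eq_finrank (ρ.comp A.subtype)
  rw [finsum_eq_sum_of_fintype] at h
  rw [show ∑ g : A, Representation.character (ρ.comp A.subtype) g = ∑ x : A, ρ.character x from rfl,
    h, inv_mul_cancel_left₀ h0] at h1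
  exact_mod_cast h1.symm

theorem lemW : WStmt.{u} := by
  intro G _ _ _ S Z h4 hZ hc huv χ m hχ hm s1 s2
  obtain ⟨n, ρ, hρ, e⟩ := χ.2
  rw [← e] at s1 s2
  have ZS : Z ≤ S := fun z hz => ((hZ z).1 hz).1
  have sq : ∀ z ∈ Z, z * z = 1 := fun z hz => ((hZ z).1 hz).2
  have h : F4 (cl Z) Z := ⟨scl_of_sc ⟨ZS, fun z hz g hg =>
    (hZ _).2 ⟨hg, Tr.conj_mul_self (sq z hz) g⟩⟩,
    ZStar.isKleinFour_of h4 fun x => Subtype.ext (sq x x.2)⟩
  set U := Representation.invariants (ρ.comp Z.subtype)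
  have mU : ∀ w, w ∈ U ↔ ∀ z ∈ Z, ρ z w = w := fun w =>
    ⟨fun hw z hz => hw ⟨z, hz⟩, fun hw z => hw z z.2⟩
  have d1 : Module.finrank ℂ U = m := finrank_inv ρ Z (by rw [s1, h4]; rfl)
  have hU : Representation.invariants (ρ.comp (S : Subgroup G).subtype) = U :=
    Submodule.eq_of_le_of_finrank_eq (fun w hw => (mU w).2 fun z hz => hw ⟨z, ZS hz⟩)
      ((finrank_inv ρ S s2).trans d1.symm)
  have fS : ∀ w ∈ U, ∀ s ∈ (S : Subgroup G), ρ s w = w := fun w hw s hs => (hU.ge hw) ⟨s, hs⟩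
  let M : Subgroup G :=
    { carrier := {g | ∀ w, w ∈ U ↔ ρ g w ∈ U}
      mul_mem' := fun {g k} hg hk w => by rw [rep_mul, ← hg, ← hk]
      one_mem' := fun w => by rw [map_one]; rfl
      inv_mem' := fun {g} hg w => by rw [hg (ρ g⁻¹ w), ← rep_mul, mul_inv_cancel, map_one]; rfl }
  have le : ∀ K : Subgroup G, (∀ g ∈ K, ∀ w ∈ U, ρ g w ∈ U) → K ≤ M := fun K hK g hg w =>
    ⟨hK g hg w, fun hw => by
      have := hK _ (inv_mem hg) _ hw
      rwa [← rep_mul, inv_mul_cancel, map_one] at this⟩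
  have hN : 𝐍(Z) ≤ M := le _ fun g hg w hw => (mU _).2 fun z hz => by
    rw [← rep_mul, show z * g = g * (g⁻¹ * z * g⁻¹⁻¹) by group, rep_mul,
      (mU w).1 hw _ ((memJ_norm (inv_mem hg)).2 hz)]
  obtain ⟨a₀, ha₀, a1, -⟩ := h.exists_ne 1
  refine (eq_top_or_se2 (SylowIn.top S) (fun t ht tt => le_centralizer_iff.1 hc ((hZ t).2 ⟨ht, tt⟩))
    ⟨a₀, ZS ha₀, h.order ha₀ a1⟩ ((h.norm_le S.isPGroup' ZS).trans hN) fun a haS a2 => ?_).elim
    (fun hM => ?_) fun hM => ⟨M, hM⟩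
  · have ha : a ∈ Z := (hZ a).2 ⟨haS, Tr.mul_self_of_orderOf_two a2⟩
    have a1 := Tr.ne_one_of_orderOf_two a2
    refine (h.le_core_sup_norm (h.cent1 ha) ha a1 le_rfl).trans (sup_le (le _ fun x hx w hw => ?_) hN)
    obtain ⟨u, hu, v, hv, uu, vv, hb, b1, ba⟩ := huv a ha a1
    have SC : (S : Subgroup G) ≤ 𝐂[a] := fun s hs =>
      mem_centralizer_singleton_iff.2 (mem_centralizer_iff.1 (hc hs) a ha).symm
    have key : ∀ w, ρ a w = w → ρ (u * v * u⁻¹ * v⁻¹) w = w → w ∈ U := fun w h1 h2 =>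
      (mU w).2 fun z hz => by
        rcases (h.mem_iff ha hb a1 b1 ba.symm z).1 hz with rfl | rfl | rfl | rfl
        · rw [map_one]; rfl
        · exact h1
        · exact h2
        · rw [rep_mul, h2, h1]
    let W : Submodule ℂ (Fin n → ℂ) := LinearMap.eqLocus (ρ a) LinearMap.id
    have hW : ∀ g : 𝐂[a], W ≤ W.comap ((ρ.comp (𝐂[a]).subtype) g) := fun g w (hw : ρ a w = w) => by
      change ρ a (ρ g w) = ρ g w
      rw [← rep_mul, ← mem_centralizer_singleton_iff.1 g.2, rep_mul, hw]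
    let σ := Representation.subrepresentation (ρ.comp (𝐂[a]).subtype) W hW
    have hxa : x ∈ 𝐂[a] := pcore_sub _ _ hx
    have : (𝐎((⊤ : Subgroup 𝐂[a]))).Normal := normalizer_eq_top_iff.1 (eq_top_iff.2 (pcore_norm _ _))
    have h1 := lemW' σ (u := ⟨u, SC hu⟩) (v := ⟨v, SC hv⟩) (b := ⟨_, SC (ZS hb)⟩)
      (LinearMap.ext fun w => Subtype.ext (show ρ (u * u) w = w by rw [uu]; exact w.2))
      (LinearMap.ext fun w => Subtype.ext (show ρ (v * v) w = w by rw [vv]; exact w.2))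
      (Subtype.ext (sq _ hb)) rfl
      (fun w hw => Subtype.ext (fS _ (key w w.2 (congrArg Subtype.val hw)) u hu))
      (fun w hw => Subtype.ext (fS _ (key w w.2 (congrArg Subtype.val hw)) v hv))
      (odd_core ⊤) (x := ⟨x, hxa⟩) ((mem_core_iff _).2 hx)
    have h2 : ρ a w = w := (mU w).1 hw a ha
    have h3 : ρ (x * (u * v * u⁻¹ * v⁻¹)) w = ρ (u * v * u⁻¹ * v⁻¹ * x) w :=
      congrArg Subtype.val (LinearMap.congr_fun h1 ⟨w, h2⟩)
    refine key _ (hW ⟨x, hxa⟩ h2) ?_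
    rw [← rep_mul, ← h3, rep_mul, (mU w).1 hw _ hb]
  · exfalso
    rcases hρ.eq_bot_or_eq_top ⟨U, fun g w hw => ((hM.ge (mem_top g) : g ∈ M) w).1 hw⟩ with e1 | e1
    · have e2 : U = ⊥ := congrArg Subrepresentation.toSubmodule e1
      rw [e2, finrank_bot] at d1
      exact hm d1.symm
    · have e2 : U = ⊤ := congrArg Subrepresentation.toSubmodule e1
      refine a1 (Char.eq_one_of_simple χ.2 hχ ?_)
      rw [← e, Representation.character, Representation.character, map_one,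
        show ρ a₀ = 1 from LinearMap.ext fun w => (mU w).1 (e2.ge trivial) a₀ ha₀]

end Cfsg.Agent.SC
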