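import Cfsg.Agent.Lib.SC.QZ
import Cfsg.Agent.Lib.BS.P1G
import Cfsg.Agent.Lib.Char.Rep

/-! Lemma W: a dihedral group of order eight acting on a group of odd order in a complex module. -/

set_option autoImplicit false
set_option linter.unusedSectionVars false

namespace Cfsg.Agent.SC

open Subgroup Cfsg.Agent.FT Cfsg.Agent.SF.GP

variable {H : Type*} [Group H] [Finite H] {V : Type*} [AddCommGroup V] [Module ℂ V]
  [FiniteDimensional ℂ V]

structure WD (σ : Representation ℂ H V) (u v b : H) : Prop where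
  inj : ∀ g, σ g = LinearMap.id → g = 1
  uu : u * u = 1
  vv : v * v = 1
  bb : b * b = 1
  bd : b = u * v * (u * v)
  fu : ∀ w, σ b w = w → σ u w = w
  fv : ∀ w, σ b w = w → σ v w = w

theorem rep_mul (σ : Representation ℂ H V) (g h : H) (w : V) : σ (g * h) w = σ g (σ h w) := by
  rw [map_mul]; rfl

theorem le_of_comm {X K : Subgroup H} {b : H} (bb : b * b = 1) (hX : X ≤ ⁅X, zpowers b⁆)
    (h : ∀ y ∈ X, y * b * y⁻¹ * b⁻¹ ∈ K) : X ≤ K :=
  hX.trans (commutator_le.2 fun y hy c hc => by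
    rcases mem_zp2 bb hc with rfl | rfl
    · simp
    · exact h y hy)

namespace WD

variable {σ : Representation ℂ H V} {u v b : H} (h : WD σ u v b)
include h

theorem ui : u⁻¹ = u := Tr.inv_eq_of_mul_self h.uu
theorem vi : v⁻¹ = v := Tr.inv_eq_of_mul_self h.vv
theorem bi : b⁻¹ = b := Tr.inv_eq_of_mul_self h.bb

theorem b' : b = v * u * (v * u) := by
  rw [← h.bi, h.bd, mul_inv_rev, mul_inv_rev, h.ui, h.vi]

theorem ub : u * b = b * u := by
  conv_lhs => rw [h.b']
  rw [h.bd]; group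

theorem vb : v * b = b * v := by
  conv_lhs => rw [h.bd]
  rw [h.b']; group

theorem uv : u * v = v * (u * b) := by
  rw [h.bd, ← mul_assoc u, ← mul_assoc u, h.uu, one_mul, ← mul_assoc, ← mul_assoc, h.vv, one_mul]

theorem sbb (w : V) : σ b (σ b w) = w := by rw [← rep_mul, h.bb, map_one]; rfl

theorem dagger {X : Subgroup H} (hX : X ≤ ⁅X, zpowers b⁆) {n : H} (hn : n ∈ X) (hc : n ∈ 𝐂(X))
    {ε : ℂ} (hε : ε * ε = 1) (he : ∀ w, σ b (σ n w - w) = ε • (σ n w - w)) : n = 1 := by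
  let K : Subgroup H :=
    { carrier := {g | ∀ w, σ g (σ n w - w) = σ n w - w}
      mul_mem' := fun {g k} hg hk w => by rw [rep_mul, hk, hg]
      one_mem' := fun w => by rw [map_one]; rfl
      inv_mem' := fun {g} hg w => by
        conv_lhs => rw [← hg w]
        rw [← rep_mul, inv_mul_cancel, map_one]; rfl }
  have h1 : ∀ w, σ n (σ n w - w) = σ n w - w := le_of_comm (K := K) h.bb hX (fun y hy w => by
    have e : ∀ y ∈ X, ∀ w, σ y (σ n w - w) = σ n (σ y w) - σ y w := fun y hy w => by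
      rw [map_sub, ← rep_mul, mem_centralizer_iff.1 hc y hy, rep_mul]
    rw [rep_mul, rep_mul, rep_mul, h.bi, he, map_smul, map_smul, map_smul, e _ (inv_mem hy), he,
      map_smul, smul_smul, hε, one_smul, ← e _ (inv_mem hy), ← rep_mul, mul_inv_cancel, map_one]
    rfl) hn
  refine h.inj n (LinearMap.ext fun w => ?_)
  have h2 : ∀ k : ℕ, σ (n ^ k) w = w + (k : ℂ) • (σ n w - w) := fun k => by
    induction k with
    | zero => simp
    | succ k ih =>
      rw [pow_succ', rep_mul, ih, map_add, map_smul, h1, Nat.cast_succ, add_smul, one_smul]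
      abel
  have h3 := h2 (orderOf n)
  rw [pow_orderOf_eq_one, map_one, Module.End.one_apply, left_eq_add, smul_eq_zero] at h3
  exact sub_eq_zero.1 (h3.resolve_left (Nat.cast_ne_zero.2 (orderOf_pos n).ne'))

theorem dagger1 {X : Subgroup H} (hX : X ≤ ⁅X, zpowers b⁆) {n : H} (hn : n ∈ X) (hc : n ∈ 𝐂(X))
    (hb : n * b = b * n) (he : ∀ w, σ b w = w → σ n w = w) : n = 1 :=
  h.dagger hX hn hc (ε := -1) (by simp) fun w => by
    have := he (σ b w + w) (by rw [map_add, h.sbb, add_comm])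
    rw [map_add, ← rep_mul, hb, rep_mul] at this
    rw [map_sub, neg_smul, one_smul, eq_neg_iff_add_eq_zero, sub_add_sub_comm, this, sub_self]

theorem dagger2 {X : Subgroup H} (hX : X ≤ ⁅X, zpowers b⁆) {n : H} (hn : n ∈ X) (hc : n ∈ 𝐂(X))
    (hb : n * b = b * n) (he : ∀ w, σ b w = -w → σ n w = w) : n = 1 :=
  h.dagger hX hn hc (ε := 1) (by simp) fun w => by
    have := he (σ b w - w) (by rw [map_sub, h.sbb, neg_sub])
    rw [map_sub, ← rep_mul, hb, rep_mul] at this
    rw [map_sub, one_smul, sub_eq_iff_eq_add, sub_eq_iff_eq_add.1 this]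
    abel

theorem neg_b {w : V} (hw : σ u w = -w) : σ b w = -w := by
  have h1 := h.fu (σ b w + w) (by rw [map_add, h.sbb, add_comm])
  rw [map_add, ← rep_mul, h.ub, rep_mul, hw, map_neg, ← neg_add, neg_eq_iff_add_eq_zero,
    ← two_smul ℂ, smul_eq_zero] at h1
  exact eq_neg_of_add_eq_zero_left (h1.resolve_left two_ne_zero)

theorem last {X : Subgroup H} (ho : Odd #|X|) (hu : u ∈ 𝐍(X)) (hv : v ∈ 𝐍(X))
    (hi : ∀ x ∈ X, b * x * b⁻¹ = x⁻¹) {y : H} (hy : y ∈ X) : y = 1 := by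
  obtain ⟨k, hk⟩ := Tr.mem_zpowers_sq_of_odd (Tr.odd_orderOf_of_odd_card ho hy)
  have hr : y ^ k ∈ X := zpow_mem hy k
  have e : y = y ^ k * y ^ k := by rw [← (Commute.refl y).mul_zpow]; exact hk.symm
  generalize y ^ k = r at hr e
  have hb : b ∈ 𝐍(X) := h.bd ▸ mul_mem (mul_mem hu hv) (mul_mem hu hv)
  have ab : ∀ x ∈ X, ∀ z ∈ X, x * z = z * x := fun x hx z hz => by
    rw [← inv_inj, ← hi _ (mul_mem hx hz), mul_inv_rev, ← hi x hx, ← hi z hz]; group
  have key : ∀ ω ∈ 𝐍(X), ω * ω = b → σ.character (y * ω) = σ.character ω := fun ω hn hω => by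
    rw [← σ.char_conj ω (r * (ω * r * ω⁻¹))]
    congr 1
    calc y * ω = r * (r * (ω * r * ω⁻¹)) * (ω * r * ω⁻¹)⁻¹ * ω := by rw [e]; group
      _ = r * ((ω * r * ω⁻¹) * (b * r * b⁻¹)⁻¹) * (ω * r * ω⁻¹)⁻¹ * ω := by
        rw [ab r hr _ ((memJ_norm hn).2 hr), hi r hr, inv_inv]
      _ = _ := by rw [← hω]; group
  have h1 : ∀ g, σ.character (g * (u * v)) + σ.character (g * (u * v * b)) =
      σ.character g + σ.character (g * b) := fun g => by
    simp only [Representation.character, ← map_add]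
    congr 1
    ext w
    have h2 : σ b (w + σ b w) = w + σ b w := by rw [map_add, h.sbb, add_comm]
    simp only [LinearMap.add_apply, rep_mul, ← map_add, h.fv _ h2, h.fu _ h2]
  have h2 := h1 y
  have h3 := h1 1
  have h4 : σ.character (y * b) = σ.character b := by
    rw [← σ.char_conj b r]
    congr 1
    calc y * b = r * (b * r * b⁻¹)⁻¹ * b := by rw [hi r hr, e, inv_inv]
      _ = r * b * r⁻¹ * (b * b)⁻¹ * (b * b) := by group
      _ = _ := by group
  rw [key _ (mul_mem hu hv) h.bd.symm, key _ (mul_mem (mul_mem hu hv) hb) (by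
    calc u * v * b * (u * v * b) = u * (v * b) * u * v * b := by group
      _ = (u * b) * v * u * v * b := by rw [h.vb]; group
      _ = b * (u * v * (u * v)) * b := by rw [h.ub]; group
      _ = b := by rw [← h.bd, h.bb, one_mul]), h4] at h2
  simp only [one_mul] at h3
  refine h.inj y ((Char.character_eq_finrank_iff σ y).1 ?_)
  rw [← σ.char_one]
  exact add_right_cancel (h2.symm.trans h3)

theorem lemW (n : ℕ) : ∀ X : Subgroup H, #|X| = n → Odd #|X| → u ∈ 𝐍(X) → v ∈ 𝐍(X) →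
    X ≤ 𝐂[b] := by
  induction n using Nat.strong_induction_on with
  | _ n ih =>
  intro X hn ho hu hv
  have ih' : ∀ Y < X, u ∈ 𝐍(Y) → v ∈ 𝐍(Y) → Y ≤ 𝐂[b] := fun Y hY =>
    ih _ (hn ▸ proper_card hY) Y rfl (ho.of_dvd_nat (card_dvd_of_le hY.le))
  have hb : b ∈ 𝐍(X) := h.bd ▸ mul_mem (mul_mem hu hv) (mul_mem hu hv)
  have nb : ∀ t, t * b = b * t → t ∈ 𝐍(zpowers b) := fun t ht =>
    cent_sub _ (cent_cycle b ▸ mem_centralizer_singleton_iff.2 ht)
  have nR : ∀ {A B : Subgroup H} {t}, t ∈ 𝐍(A) → t ∈ 𝐍(B) → t ∈ 𝐍(⁅A, B⁆) := fun h1 h2 =>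
    normsR (zpowers_le.2 h1) (zpowers_le.2 h2) (mem_zpowers _)
  by_cases hX : X ≤ ⁅X, zpowers b⁆
  swap
  · have h1 := ih' _ (lt_of_le_not_ge (commg_subl.2 (zpowers_le.2 hb)) hX) (nR hu (nb u h.ub))
      (nR hv (nb v h.vb))
    rw [← cent_cycle, ← commutator_eq_bot_iff_le_centralizer] at h1 ⊢
    rw [← commGid2 ho (pgroup_invol h.bb) (zpowers_le.2 hb), h1]
  by_cases h0 : X = ⊥
  · rw [h0]; exact bot_le
  have hlt := sol_der1_proper (SF.T.odd_sol ho) h0
  have cb := ih' _ hlt (nR hu hu) (nR hv hv)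
  set D := ⁅X, X⁆
  have cb' : ∀ z ∈ D, z * b = b * z := fun z hz => mem_centralizer_singleton_iff.1 (cb hz)
  have cX : D ≤ 𝐂(X) := by
    have h1 : ∀ Y ≤ D, ⁅Y, zpowers b⁆ = ⊥ := fun Y hY => by
      rw [commutator_eq_bot_iff_le_centralizer, cent_cycle]; exact hY.trans cb
    have h2 := three_subgroup (A := zpowers b) (B := D) (C := X)
      (by rw [commutator_comm (zpowers b), h1 D le_rfl, commutator_bot_left])
      (h1 _ (commutator_mono hlt.le le_rfl))
    rw [le_centralizer_iff, ← commutator_eq_bot_iff_le_centralizer, eq_bot_iff, ← h2]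
    exact commutator_mono hX le_rfl
  have cX' : ∀ z ∈ D, ∀ x ∈ X, x * z = z * x := fun z hz => mem_centralizer_iff.1 (cX hz)
  have cm : ∀ x ∈ X, ∀ y ∈ X, x * y * x⁻¹ * y⁻¹ ∈ D := fun x hx y hy =>
    commutator_mem_commutator hx hy
  have inv : ∀ x ∈ X, x * (b * x * b⁻¹) ∈ D := by
    let K : Subgroup H :=
      { carrier := {x | x ∈ X ∧ x * (b * x * b⁻¹) ∈ D}
        mul_mem' := fun {x y} hx hy => ⟨mul_mem hx.1 hy.1, by
          have h1 := (memJ_norm hb).2 hx.1
          have := mul_mem (mul_mem hx.2 (cm _ (inv_mem h1) _ hy.1)) hy.2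
          convert this using 1; group⟩
        one_mem' := ⟨one_mem _, by simp⟩
        inv_mem' := fun {x} hx => ⟨inv_mem hx.1, by
          have := inv_mem hx.2
          rw [show (x * (b * x * b⁻¹))⁻¹ = x * (x⁻¹ * (b * x⁻¹ * b⁻¹)) * x⁻¹ by group,
            memJ_norm (commg_norml X X hx.1)] at this
          exact this⟩ }
    exact fun x hx => (le_of_comm (K := K) h.bb hX (fun y hy =>
      ⟨by rw [mul_assoc, mul_assoc, ← mul_assoc b]; exact mul_mem hy ((memJ_norm hb).2 (inv_mem hy)),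
        by
          rw [show y * b * y⁻¹ * b⁻¹ * (b * (y * b * y⁻¹ * b⁻¹) * b⁻¹) =
            y * (b * b) * y⁻¹ * (b * b)⁻¹ by group, h.bb]
          simp⟩) hx).2
  have cent : ∀ t ∈ 𝐍(X), t * t = 1 → t * b = b * t → (∀ w, σ b w = w → σ t w = w) →
      ∀ z ∈ D, t * z * t⁻¹ = z := fun t ht tt tb ft z hz => by
    have h1 := mul_mem (inv_mem hz) ((memJ_norm (nR ht ht)).2 hz)
    refine (inv_mul_eq_one.1 (h.dagger1 hX (hlt.le h1) (cX h1) (cb' _ h1) fun w hw => ?_)).symm
    rw [Tr.inv_eq_of_mul_self tt, rep_mul, rep_mul, rep_mul, ft w hw,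
      ft _ (by rw [← rep_mul, ← cb' z hz, rep_mul, hw]), ← rep_mul, inv_mul_cancel, map_one]
    rfl
  have cu := cent u hu h.uu h.ub h.fu
  have cv := cent v hv h.vv h.vb h.fv
  -- the centralizer of `u` is abelian
  have abu : ∀ y ∈ X, u * y = y * u → ∀ y' ∈ X, u * y' = y' * u → y * y' = y' * y := by
    intro y hy yu y' hy' yu'
    refine Tr.commute_of_commute_mul_self_of_odd (Tr.odd_orderOf_of_odd_card ho hy) ?_
    have hn := cm _ (mul_mem hy hy) _ hy'
    have pres : ∀ x, u * x = x * u → ∀ w, σ u w = -w → σ u (σ x w) = -σ x w := fun x hx w hw => by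
      rw [← rep_mul, hx, rep_mul, hw, map_neg]
    have sqz : ∀ w, σ u w = -w → σ (y * y) w = σ (y * (b * y * b⁻¹)) w := fun w hw => by
      rw [h.bi, rep_mul, rep_mul, rep_mul, rep_mul, h.neg_b hw, map_neg, map_neg,
        h.neg_b (pres y yu w hw), neg_neg]
    have f1 : ∀ w, σ u w = -w → σ (y * y * y' * (y * y)⁻¹ * y'⁻¹) w = w := fun w hw => by
      have h1 := pres ((y * y)⁻¹ * y'⁻¹) (((Commute.mul_right yu yu).inv_right).mul_right
        (Commute.inv_right yu')) w hw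
      rw [mul_assoc (y * y * y'), rep_mul, rep_mul, sqz _ (pres y' yu' _ h1), ← rep_mul,
        ← cX' _ (inv y hy) y' hy', rep_mul, ← sqz _ h1, ← rep_mul, ← rep_mul,
        show y' * (y * y) * ((y * y)⁻¹ * y'⁻¹) = 1 by group, map_one]
      rfl
    generalize hz : y * y * y' * (y * y)⁻¹ * y'⁻¹ = z at hn f1
    have f2 : ∀ w, σ (u * b) w = -w → σ z w = w := fun w hw => by
      have := f1 (σ v w) (by rw [← rep_mul, h.uv, rep_mul, hw, map_neg])
      rw [← rep_mul, ← mul_inv_eq_iff_eq_mul.1 (cv z hn), rep_mul] at this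
      have h2 := congrArg (σ v) this
      rwa [← rep_mul, ← rep_mul σ v v, h.vv, map_one] at h2
    have := h.dagger2 hX (hlt.le hn) (cX hn) (cb' _ hn) fun w hw => by
      have h1 := f1 (w - σ u w) (by rw [map_sub, ← rep_mul, h.uu, map_one, neg_sub]; rfl)
      have h2 := f2 (w + σ u w) (by
        rw [map_add, rep_mul, hw, map_neg, ← rep_mul, h.ub, mul_assoc, h.uu, mul_one, hw]
        abel)
      have h3 := congrArg₂ (· + ·) h1 h2
      simp only [← map_add, sub_add_add_cancel, ← two_smul ℂ w, map_smul] at h3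
      exact smul_right_injective V two_ne_zero h3
    rw [this] at hz
    rw [Commute, SemiconjBy, ← mul_inv_eq_iff_eq_mul, ← mul_inv_eq_one, hz]
  have abX : ∀ x ∈ X, ∀ y ∈ X, x * y = y * x := by
    have k1 : ∀ k ∈ X, u * k * u = k⁻¹ → u * (v * k * v⁻¹) = v * k * v⁻¹ * u := fun k hk e => by
      have h1 := inv k hk
      have h2 : u * b * k * (u * b)⁻¹ = (k * (b * k * b⁻¹))⁻¹ * k := by
        calc _ = b * (u * k * u⁻¹) * b⁻¹ := by rw [h.ub]; group
          _ = _ := by rw [h.ui, e]; group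
      have h3 : u * b * (k * (b * k * b⁻¹)) * (u * b)⁻¹ = k * (b * k * b⁻¹) := by
        conv_rhs => rw [← cu _ h1]
        rw [mul_assoc u, ← cb' _ h1]; group
      generalize k * (b * k * b⁻¹) = z at h1 h2 h3
      have h4 : u * b * (u * b) = 1 := by
        rw [mul_assoc, ← mul_assoc b, ← h.ub, mul_assoc, h.bb, mul_one, h.uu]
      have h5 : z = 1 := eq_one_of_odd_sq ho (hlt.le h1) (by
        calc z * z = z * z * (u * b * (u * b) * k * (u * b * (u * b))⁻¹) * k⁻¹ := by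
              rw [h4]; group
          _ = z * z * (u * b * (u * b * k * (u * b)⁻¹) * (u * b)⁻¹) * k⁻¹ := by group
          _ = z * z * ((u * b * z * (u * b)⁻¹)⁻¹ * (u * b * k * (u * b)⁻¹)) * k⁻¹ := by
              conv_lhs => rw [h2]
              group
          _ = 1 := by rw [h2, h3]; group)
      rw [h5, inv_one, one_mul, mul_inv_eq_iff_eq_mul] at h2
      calc u * (v * k * v⁻¹) = v * (u * b * k) * v⁻¹ := by rw [← mul_assoc, ← mul_assoc, h.uv]; group
        _ = v * k * v⁻¹ * (v * (u * b)) * v⁻¹ := by rw [h2]; group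
        _ = _ := by rw [← h.uv]; group
    have k2 : ∀ k ∈ X, u * k * u = k⁻¹ → ∀ c ∈ X ⊓ 𝐂[u], c * k = k * c := fun k hk e c hc => by
      have h1 := cu _ (cm c hc.1 k hk)
      have h2 := mem_centralizer_singleton_iff.1 hc.2
      refine (Tr.commute_of_commute_mul_self_of_odd (Tr.odd_orderOf_of_odd_card ho hk) ?_).symm
      have h3 : u * c * u⁻¹ = c := by rw [← h2, mul_inv_cancel_right]
      rw [show u * (c * k * c⁻¹ * k⁻¹) * u⁻¹ = u * c * u⁻¹ * (u * k * u⁻¹) * (u * c * u⁻¹)⁻¹ *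
        (u * k * u⁻¹)⁻¹ by group, h3, show u * k * u⁻¹ = k⁻¹ by rwa [h.ui]] at h1
      refine Commute.inv_right_iff.1 ?_
      calc k * k * c⁻¹ = k * c⁻¹ * (c * k * c⁻¹ * k⁻¹) * k := by group
        _ = _ := by rw [← h1]; group
    intro x hx y hy
    obtain ⟨k, hk, e, c, hc, rfl⟩ := BS.P1.dec ho h.uu hu hx
    obtain ⟨l, hl, e', d, hd, rfl⟩ := BS.P1.dec ho h.uu hu hy
    have h1 : Commute k l := Tr.commute_conj_iff.1 (abu _ ((memJ_norm hv).2 hk) (k1 k hk e) _
      ((memJ_norm hv).2 hl) (k1 l hl e'))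
    have h2 : Commute c d := abu c hc.1 (mem_centralizer_singleton_iff.1 hc.2).symm d hd.1
      (mem_centralizer_singleton_iff.1 hd.2).symm
    exact (h1.mul_right (k2 k hk e d hd).symm).mul_left ((Commute.mul_right (k2 l hl e' c hc)) h2)
  have D0 : D = ⊥ := commutator_eq_bot_iff_le_centralizer.2 fun x hx =>
    mem_centralizer_iff.2 fun y hy => abX y hy x hx
  intro x hx
  rw [h.last ho hu hv (fun y hy => eq_inv_of_mul_eq_one_right (mem_bot.1 (D0 ▸ inv y hy))) hx]
  exact one_mem _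

end WD

end Cfsg.Agent.SC
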