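import Cfsg.Agent.Lib.SC.LyB
import Cfsg.Agent.Lib.SC.LyW

/-! The weak form of Lyons' theorem. -/

namespace Cfsg.Agent.SC

universe u

theorem lyons : LyonsStmt.{u} := Ly.lyons_of lemW

end Cfsg.Agent.SC
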