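import Cfsg.Agent.Lib.SC.Bas2
import Cfsg.Agent.Lib.SC.QDefs
import Cfsg.Agent.Lib.SF.S1172Of
import Cfsg.Agent.Lib.TwoGrp.Tri2
import Cfsg.Agent.S0949

/-! Row Q of `docs/SC_PLAN.md`: the steps Q1–Q4. -/

set_option autoImplicit false
set_option linter.unusedSectionVars false
set_option linter.unusedVariables false

namespace Cfsg.Agent.SC.QM

open Subgroup Cfsg.Agent.FT Cfsg.Agent.SF Cfsg.Agent.SF.GP
open Cfsg.Agent.Tr (SylowIn)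

universe u

/-- a minimal counterexample to Theorem Q -/
structure QC {G : Type u} [Group G] (T : Set G) (Z : Subgroup G) : Prop extends F4 T Z where
  simple : IsSimpleGroup G
  nse : ∀ M : Subgroup G, ¬ IsStronglyEmbedded M
  nmx : ¬ Mx Z ⊤
  ind : QN.{u} (Nat.card G)

/-- `w` is bad for `Z` -/
def Bad {G : Type*} [Group G] (Z : Subgroup G) (w : G) : Prop :=
  ∃ X : Subgroup G, X ≤ 𝐂[w] ∧ Odd #|X| ∧ Z ≤ 𝐍(X) ∧ ¬ ⁅X, Z⁆ ≤ 𝐎(𝐂[w])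

namespace QC

variable {G : Type u} [Group G] [Finite G] {T : Set G} {Z : Subgroup G} (c : QC T Z)
include c

theorem cj (g : G) : QC T (cj g Z) :=
  ⟨c.toF4.cj g, c.simple, c.nse, fun h => c.nmx fun P hP h1 _ => by
    have := h (Tr.cj g P) (Tr.isPGroup_cj g hP) (Tr.cj_mono g h1) le_top
    exact fun x hx => by simpa [mul_assoc] using Tr.mem_cj.1 (this (Tr.conj_mem_cj.2 hx)), c.ind⟩

theorem center_eq {x : G} (hx : x ∈ center G) : x = 1 := by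
  have := c.simple
  by_contra h1
  have h2 : center G = ⊤ := (Normal.eq_bot_or_eq_top inferInstance).resolve_left
    fun e => h1 (mem_bot.1 (e ▸ hx))
  obtain ⟨a, ha, a1, -⟩ := c.exists_ne 1
  obtain ⟨b, hb, b1, hab⟩ := c.exists_ne a
  have h3 : zpowers a = ⊤ := (Normal.eq_bot_or_eq_top ⟨fun y hy g => by
    rwa [mem_center_iff.1 (h2.ge (mem_top y)) g, mul_inv_cancel_right]⟩).resolve_left
    (mt cycle_eq1.1 a1)
  exact hab (TwoGrp.eq_of_mem_zpowers_of_sq (h3.ge (mem_top b)) (mem_zpowers a) (c.sq hb) (c.sq ha)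
    b1 a1)

theorem sol_bot {V : Subgroup G} (hV : Group.IsSolvable V) (h : ⊤ ≤ 𝐍(V)) : V = ⊥ := by
  have := c.simple
  refine (Normal.eq_bot_or_eq_top (FT.normal_top.1 ⟨le_top, h⟩)).resolve_right fun e => ?_
  subst e
  have : Group.IsSolvable G := Group.isSolvable_of_surjective (f := (⊤ : Subgroup G).subtype)
    fun g => ⟨⟨g, trivial⟩, rfl⟩
  obtain ⟨a, ha, a1, -⟩ := c.exists_ne 1
  exact a1 (c.center_eq (mem_center_iff.2 fun g => IsSimpleGroup.comm_iff_isSolvable.2 this g a))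

theorem two_bot {V : Subgroup G} (hV : IsPGroup 2 V) (h : ⊤ ≤ 𝐍(V)) : V = ⊥ :=
  c.sol_bot (pgroup_sol hV) h

theorem odd_bot {V : Subgroup G} (hV : Odd #|V|) (h : ⊤ ≤ 𝐍(V)) : V = ⊥ :=
  have : Fact OddOrderThm.{u} := ⟨FT.oddOrder⟩
  c.sol_bot (odd_sol hV) h

theorem hO : 𝐎((⊤ : Subgroup G)) = ⊥ := c.odd_bot (odd_core _) (pcore_norm _ _)

theorem perf : commutator G = ⊤ := by
  have := c.simple
  refine (Normal.eq_bot_or_eq_top inferInstance).resolve_left fun e => ?_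
  obtain ⟨a, ha, a1, -⟩ := c.exists_ne 1
  exact a1 (c.center_eq ((commutator_eq_bot_iff_center_eq_top G).1 e ▸ mem_top a))

theorem card_lt {x : G} (h : x ≠ 1) : #|𝐂[x]| < Nat.card G := by
  refine lt_of_le_of_ne (card_le_card_group _) fun e => h (c.center_eq (mem_center_iff.2 fun g => ?_))
  exact mem_cent1.1 ((eq_top_of_card_eq _ e).ge (mem_top g))

theorem fuse {a : G} (ha : a ∈ Z) (a1 : a ≠ 1) :
    ∃ n ∈ (⊤ : Subgroup G), n ∈ 𝐍(Z) ∧ n * a * n⁻¹ ≠ a :=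
  c.exists_fuse le_top ha a1 fun h' => a1 (c.center_eq (ZStar.zstar_center
    (core_top_eq.symm.trans c.hO) (by
      simpa using Tr.Iso.map h' (f := (⊤ : Subgroup G).subtype) (fun g => ⟨⟨g, trivial⟩, rfl⟩) a1)))

/-- Q2 -/
theorem two_cent {P : Subgroup G} (hP : IsPGroup 2 P) (hZ : Z ≤ P) : P ≤ 𝐂(Z) := by
  obtain ⟨S, hS, hPS⟩ := Tr.exists_sylowIn_ge hP le_top
  have hZS := hZ.trans hPS
  have hn := c.le_norm hS.isPGroup hZS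
  obtain ⟨a, ha, a1⟩ := trivgPn.1 (meet_center_pgroup hS.isPGroup ⟨hZS, hn⟩ c.ne_bot)
  have hSa : S ≤ 𝐂[a] := sub_cent1.2 ha.2.2
  have key : ∀ x ∈ S, ∀ g : G, g * x * g⁻¹ ∈ 𝐂(Z) → x ∈ 𝐂(Z) := fun x hx g hg => by
    have h1 : Tr.cj g⁻¹ Z ≤ 𝐂[x] := by
      rw [← Tr.le_cj_iff_cj_inv_le, ← cent1J]
      exact sub_cent1.2 hg
    obtain ⟨k, hk, h2⟩ := (c.toF4.cj g⁻¹).conj_mem h1 (c.sub a ha.1) (cent1C.1 (hSa hx))
    have h3 := (c.toF4.cj g⁻¹).cj k⁻¹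
    have h4 : a ∈ Tr.cj k⁻¹ (Tr.cj g⁻¹ Z) := Tr.mem_cj_inv.2 h2
    have h5 : Z ≤ 𝐎(𝐂[a]) ⊔ Tr.cj k⁻¹ (Tr.cj g⁻¹ Z) := (c.le_NN (c.cent1 ha.1)).trans
      (h3.NN_le (h3.cent1 h4) le_sup_right (h3.lemN (h3.cent1 h4) h4 a1 le_rfl).nz)
    refine mem_cent.2 fun z hz => ?_
    obtain ⟨o, ho, y, hy, rfl⟩ := (mem_join_norm ((h3.cent1 h4).trans (norm_D a))).1 (h5 hz)
    have h6 := mem_cent1.1 (Tr.cj_le_of_mem h1 (inv_mem hk) hy)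
    have h7 : x * (o * y) * x⁻¹ * (o * y)⁻¹ = x * o * x⁻¹ * o⁻¹ := by
      calc _ = x * o * (y * x⁻¹ * y⁻¹) * o⁻¹ := by group
        _ = _ := by rw [(show Commute y x from h6).inv_right.eq]; group
    have h8 := eq_one_of_odd (odd_core _) c.two
      (h7 ▸ mul_mem ((memJ_norm (norm_D a (hSa hx))).2 ho) (inv_mem ho))
      (mul_mem ((memJ_norm (hn hx)).2 hz) (inv_mem hz))
    rw [mul_inv_eq_one, mul_inv_eq_iff_eq_mul] at h8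
    exact h8.symm
  refine hPS.trans fun s hs => Tr.commutator_inf_le_of_fusion hS (fun x hx g hg => ?_)
    ⟨c.perf.ge (mem_top s), hs⟩
  by_cases h : x ∈ 𝐂(Z)
  · exact mul_mem (key _ hg g⁻¹ (by simpa [mul_assoc] using h)) (inv_mem h)
  · exact c.mul_mem_cent ha.1 a1 (hn hg) (hn (inv_mem hx)) (cent1_conj.1 (hSa hg))
      (cent1_conj.1 (hSa (inv_mem hx))) (fun h' => h (key x hx g h')) (by simpa using h)

theorem norm_cent {a n : G} (ha : a ∈ Z) (a1 : a ≠ 1) (hn : n ∈ 𝐍(Z)) (h : n ∈ 𝐂[a]) :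
    n ∈ 𝐂(Z) := by
  obtain ⟨u, hu, v, hv, h2, ho, rfl⟩ := exists_parts n
  have h3 := cycle_subG.2 hn hv
  have h4 := cent1_conj.1 (cycle_subG.2 h hv)
  refine mul_mem (c.two_cent (pgroup_sup_elt c.two h2 (cycle_subG.2 hn hu)) le_sup_left
    (mem_sup_elt Z u)) ?_
  by_contra h5
  exact h5 (Tr.mem_of_mul_self_mem_of_odd ho (c.mul_mem_cent ha a1 h3 h3 h4 h4 h5 h5))

theorem cent1_le {a : G} (ha : a ∈ Z) (a1 : a ≠ 1) : 𝐂[a] ≤ 𝐂(Z) ⊔ 𝐎(𝐂[a]) := fun g hg => by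
  have h0 := c.lemN (c.cent1 ha) ha a1 le_rfl
  obtain ⟨k, hk, h1⟩ := c.frattini le_sup_right h0 hg
  have h2 : k ∈ 𝐂(Z) ⊔ 𝐎(𝐂[a]) := sup_le le_sup_right (le_sup_of_le_left c.cent) hk
  simpa using mul_mem (inv_mem h2)
    (mem_sup_left (c.norm_cent ha a1 h1 (mul_mem (h0.le hk) hg)))

theorem move {d a : G} (hd : d ∈ 𝐍(Z)) (hd' : d ∉ 𝐂(Z)) (ha : a ∈ Z) (a1 : a ≠ 1) :
    d * a * d⁻¹ ≠ a := fun e => hd' (c.norm_cent ha a1 hd (cent1_conj.2 e))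

theorem tri {d z : G} (hd : d ∈ 𝐍(Z)) (hd' : d ∉ 𝐂(Z)) (hz : z ∈ Z) :
    d⁻¹ * z * d = z * (d * z * d⁻¹) := by
  by_cases z1 : z = 1
  · simp [z1]
  have h1 := (memJ_norm hd).2 hz
  have h2 := c.move hd hd' hz z1
  rcases (c.mem_iff hz h1 z1 (by simpa using z1) h2.symm _).1
    ((memJ_norm (inv_mem hd)).2 hz) with e | e | e | e
  · exact absurd (conj_eq_one_iff.1 e) z1
  · exact absurd e (c.move (inv_mem hd) (by simpa using hd') hz z1)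
  · refine absurd ?_ (c.move hd hd' (mul_mem hz h1) fun e' => h2 ?_)
    · rw [← conj_mul, ← e, c.comm hz]
      · group
      · exact e ▸ h1
    · rw [eq_inv_of_mul_eq_one_right e', c.inv hz]
  · simpa using e

theorem cases3 {d z y : G} (hd : d ∈ 𝐍(Z)) (hd' : d ∉ 𝐂(Z)) (hz : z ∈ Z) (z1 : z ≠ 1) (hy : y ∈ Z)
    (y1 : y ≠ 1) : y = z ∨ y = d * z * d⁻¹ ∨ y = d⁻¹ * z * d := by
  rw [c.tri hd hd' hz]
  exact ((c.mem_iff hz ((memJ_norm hd).2 hz) z1 (by simpa using z1)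
    (c.move hd hd' hz z1).symm y).1 hy).resolve_left y1

theorem norm_cases {d n : G} (hd : d ∈ 𝐍(Z)) (hd' : d ∉ 𝐂(Z)) (hn : n ∈ 𝐍(Z)) :
    n ∈ 𝐂(Z) ∨ d⁻¹ * n ∈ 𝐂(Z) ∨ d * n ∈ 𝐂(Z) := by
  obtain ⟨a, ha, a1, -⟩ := c.exists_ne 1
  refine (c.cases3 hd hd' ha a1 ((memJ_norm hn).2 ha) (by simpa using a1)).imp
    (fun e => c.norm_cent ha a1 hn (cent1_conj.2 e)) (Or.imp (fun e => ?_) fun e => ?_)
  · refine c.norm_cent ha a1 (mul_mem (inv_mem hd) hn) (cent1_conj.2 ?_)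
    calc _ = d⁻¹ * (n * a * n⁻¹) * d := by group
      _ = a := by rw [e]; group
  · refine c.norm_cent ha a1 (mul_mem hd hn) (cent1_conj.2 ?_)
    calc _ = d * (n * a * n⁻¹) * d⁻¹ := by group
      _ = a := by rw [e]; group

theorem exists_norm {P H : Subgroup G} (hP : SylowIn 2 P H) (hZ : Z ≤ P) {n : G} (hn : n ∈ H)
    (h1 : n ∈ 𝐍(Z)) : ∃ k ∈ H ⊓ 𝐂(Z), ∃ d ∈ 𝐍(P), n = k * d :=
  (hP.mono (le_inf hP.le (c.two_cent hP.isPGroup hZ)) inf_le_left).frattini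
    (normsI (normsG (cycle_subG.2 hn)) (norms_cent (cycle_subG.2 h1)) (mem_zpowers n))

/-- Q3 -/
theorem exists_invol (hL : LyonsStmt.{u}) : ∃ x ∈ 𝐂(Z), x ∉ Z ∧ x * x = 1 := by
  by_contra hcon
  push Not at hcon
  have := c.simple
  obtain ⟨S, hS, hZS⟩ := Tr.exists_sylowIn_ge c.two le_top
  obtain ⟨S, rfl⟩ := hS.exists_sylow
  have hSC := c.two_cent S.isPGroup' hZS
  have hΩ : ∀ x ∈ (S : Subgroup G), x * x = 1 → x ∈ Z := fun x hx h => by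
    by_contra h'
    exact hcon x (hSC hx) h' h
  by_cases hab : ∃ x ∈ (S : Subgroup G), ∃ y ∈ (S : Subgroup G), ¬ Commute x y
  · obtain ⟨M, hM⟩ := hL G S Z c.card (fun x => ⟨fun h => ⟨hZS h, c.sq h⟩, fun h => hΩ x h.1 h.2⟩)
      hSC hab
    exact c.nse M hM
  push Not at hab
  obtain ⟨a, ha, a1, -⟩ := c.exists_ne 1
  obtain ⟨n, -, hn, h1⟩ := c.fuse ha a1
  obtain ⟨k, hk, d, hd, rfl⟩ := c.exists_norm hS hZS (mem_top n) hn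
  have hd1 : d ∈ 𝐍(Z) := c.norm_le S.isPGroup' hZS hd
  have hd2 : d ∉ 𝐂(Z) := fun h => h1 (cent1_conj.1 (cent_le_cent1 ha (mul_mem hk.2 h)))
  have h4 := (c.toF4.subgroupOf hZS).four
  have hc : ∀ v ∈ Z.subgroupOf (S : Subgroup G), ∀ x, x * v = v * x := fun v _ x =>
    Subtype.ext (hab _ x.2 _ v.2)
  have hΩ' : ∀ x : (S : Subgroup G), x * x = 1 → x ∈ Z.subgroupOf (S : Subgroup G) := fun x h =>
    hΩ x x.2 (congrArg Subtype.val h)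
  obtain ⟨ψ, h3, hψ⟩ := TwoGrp.exists_aut_three S.isPGroup' h4 hc hΩ'
    (φ := conjAut (cycle_subG.2 hd) ⟨d, mem_zpowers d⟩) fun v hv v1 e =>
      c.move hd1 hd2 hv (fun e' => v1 (Subtype.ext e')) (congrArg Subtype.val e)
  let D : TwoGrp.Tri (S : Subgroup G) := ⟨S.isPGroup', _, h4, hc, hΩ', ψ, fun x => by
    have := congrArg (fun φ : MulAut _ => φ x) h3
    simpa [pow_succ] using this, hψ⟩
  obtain ⟨x, m, h5, h6⟩ := D.exists_max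
  rcases m with _ | m
  · exact c.nmx fun P hP h7 _ => by
      obtain ⟨g, -, h8⟩ := hS.exists_cj_le hP le_top
      have h9 : (S : Subgroup G) ≤ Z := fun y hy =>
        hΩ y hy (by simpa [sq] using congrArg Subtype.val (h6 ⟨y, hy⟩))
      exact (eq_of_le_of_card_ge h7 ((Tr.card_cj g P).ge.trans (card_le_of_le (h8.trans h9)))).ge
  obtain ⟨e⟩ := D.homocyclic h5 (h6 x) fun y => D.mem_A h5 (h6 x) le_rfl
    (Subtype.ext (hab _ y.2 _ x.2)) (Subtype.ext (hab _ y.2 _ (D.ψ x).2)) (h6 y)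
  have h7 := (S0949.result S _ (by omega) e fun N hN ho => c.odd_bot ho (norms_of_normal _)).1
  exact c.ne_bot (eq_bot_iff.2 (hZS.trans (c.two_bot S.isPGroup' (norms_of_normal _)).le))

theorem exists_syl : ∃ S : Sylow 2 G, Z ≤ (S : Subgroup G) := by
  obtain ⟨S, hS, hZS⟩ := Tr.exists_sylowIn_ge c.two le_top
  obtain ⟨S, rfl⟩ := hS.exists_sylow
  exact ⟨S, hZS⟩

theorem D_inf {a : G} (ha : a ∈ Z) : 𝐎(𝐂[a]) ⊓ 𝐂(Z) ≤ 𝐎(𝐂(Z)) := inf_core_le (cent_le_cent1 ha)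

theorem functor {E : Subgroup G} (hE : Abelem 2 E) (hZ : Z ≤ E) (h : ∀ w ∈ E, w ∉ Z → ¬ Bad Z w) :
    IsFunctor E fun a => ⁅𝐎(𝐂[a]), Z⁆ ⊔ 𝐎(𝐂(Z)) ⊓ 𝐂[a] := by
  have : Fact OddOrderThm.{u} := ⟨FT.oddOrder⟩
  have h1 : ∀ a ∈ E, E ≤ 𝐂[a] := fun a ha => sub_abelian_cent1 (abelem_abelian hE) ha
  have h2 : E ≤ 𝐂(Z) := centsS hZ (abelianE.1 (abelem_abelian hE))
  have h3 : ∀ a ∈ E, Z ≤ 𝐍(𝐎(𝐂[a])) := fun a ha => (hZ.trans (h1 a ha)).trans (norm_D a)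
  have h4 : ∀ a, 𝐂(Z) ⊓ 𝐂[a] ≤ 𝐍(⁅𝐎(𝐂[a]), Z⁆) := fun a =>
    normsR (inf_le_right.trans (norm_D a)) (inf_le_left.trans (cent_sub Z))
  have h5 : ∀ a, 𝐎(𝐂(Z)) ⊓ 𝐂[a] ≤ 𝐂(Z) ⊓ 𝐂[a] := fun a => inf_le_inf_right _ (pcore_sub _ _)
  have ho : ∀ a ∈ E, Odd #|⁅𝐎(𝐂[a]), Z⁆ ⊔ 𝐎(𝐂(Z)) ⊓ 𝐂[a]| := fun a ha =>
    odd_sup (odd_of_le (commg_subl.2 (h3 a ha)) (odd_core _)) (odd_of_le inf_le_left (odd_core _))
      ((h5 a).trans (h4 a))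
  have hi : ∀ a ∈ E, E ≤ 𝐍(⁅𝐎(𝐂[a]), Z⁆ ⊔ 𝐎(𝐂(Z)) ⊓ 𝐂[a]) := fun a ha =>
    normsY ((le_inf h2 (h1 a ha)).trans (h4 a))
      (normsI (h2.trans (pcore_norm _ _)) (normsG (h1 a ha)))
  refine ⟨fun a ha _ => ho a ha, fun a ha _ => sup_le
    ((commg_subl.2 (h3 a ha)).trans (D_le a)) inf_le_right, fun a ha _ => hi a ha,
    fun a ha _ b hb b1 => ?_⟩
  have hX := odd_of_le (inf_le_left (b := 𝐂[b])) (ho a ha)
  have hn := normsI (hZ.trans (hi a ha)) (normsG (hZ.trans (h1 b hb)))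
  refine le_of_comm_cent hX c.two hn ?_ fun x hx => mem_sup_right ⟨?_, hx.1.2⟩
  · rw [← commGid2 hX c.two hn]
    refine le_sup_of_le_left (commSg _ ?_)
    by_cases hbZ : b ∈ Z
    · exact c.good (c.cent1 hbZ) hbZ b1 le_rfl inf_le_right hX hn
    · by_contra h6
      exact h b hb hbZ ⟨_, inf_le_right, hX, hn, h6⟩
  · obtain ⟨y, hy, z, hz, rfl⟩ := (mem_join_norm ((h5 a).trans (h4 a))).1 hx.1.1
    refine mul_mem (zG_le (fun e he e1 => ?_) (lemG4 c.four (odd_core _) (h3 a ha)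
      ⟨hy, (𝐂(Z).mul_mem_cancel_right (h5 a hz).1).1 hx.2⟩)) hz.1
    exact (inf_le_inf_right _ (c.good (c.cent1 he) he e1 le_rfl inf_le_right
      (odd_of_le inf_le_left (odd_core _)) (normsI (h3 a ha) (normsG (c.cent1 he))))).trans
      (c.D_inf he)

/-- Q4 -/
theorem exists_bad (h74 : S1174Stmt.{u}) {E : Subgroup G} (hE : Abelem 2 E) (hZ : Z ≤ E)
    (h8 : 8 ≤ #|E|) : ∃ w ∈ E, w ∉ Z ∧ Bad Z w := by
  by_contra hcon
  push Not at hcon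
  obtain ⟨W, hW, -, hW'⟩ := SF.sft G E _ hE h8 (c.functor hE hZ hcon)
  obtain ⟨V, hV⟩ : ∃ V, V = ⨆ a : {a : G // a ∈ Z ∧ a ≠ 1}, 𝐎(𝐂[(a : G)]) := ⟨_, rfl⟩
  have h1 : ∀ a ∈ Z, a ≠ 1 → 𝐎(𝐂[a]) ≤ V := fun a ha ha1 =>
    hV ▸ le_iSup (fun a : {a : G // a ∈ Z ∧ a ≠ 1} => 𝐎(𝐂[(a : G)])) ⟨a, ha, ha1⟩
  have h2 : Odd #|V| := odd_of_le (hV ▸ iSup_le fun a => le_trans
    (le_of_comm_cent (odd_core _) c.two ((c.cent1 a.2.1).trans (norm_D _)) le_sup_left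
      (le_sup_of_le_right (le_inf (c.D_inf a.2.1) (inf_le_left.trans (D_le _)))))
    ((hW' a (hZ a.2.1) a.2.2).ge.trans inf_le_left)) hW
  have h3 : 𝐍(Z) ≤ 𝐍(V) := fun g hg => Tr.mem_normalizer_of_cj_le (by
    rw [Tr.cj_le_iff_le_cj_inv]
    nth_rw 1 [hV]
    exact iSup_le fun a x hx => Tr.mem_cj_inv.2 (h1 _ ((memJ_norm hg).2 a.2.1)
      (by simpa using a.2.2) (D_conj g hx)))
  obtain ⟨S, hS⟩ := c.exists_syl
  have := c.simple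
  obtain ⟨M, hM⟩ := h74 G S Z c.ne_bot (c.sc S.isPGroup' hS) fun e => by
    have h4 : ⊤ ≤ V ⊔ 𝐍(Z) := e.ge.trans (iSup_le fun t => by
      have t1 := Tr.ne_one_of_orderOf_two t.2.2
      exact (c.cent1_le t.2.1 t1).trans (sup_le (le_sup_of_le_right (cent_sub Z))
        (le_sup_of_le_left (h1 _ t.2.1 t1))))
    rw [c.odd_bot h2 (h4.trans (sup_le (normG V) h3)), bot_sup_eq] at h4
    exact c.ne_bot (c.two_bot c.two h4)
  exact c.nse M hM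

end QC

end Cfsg.Agent.SC.QM
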