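import Cfsg.Agent.Lib.SC.Q1

/-! Row Q of `docs/SC_PLAN.md`: the steps Q5 (a), (b). -/

set_option autoImplicit false
set_option linter.unusedSectionVars false
set_option linter.unusedVariables false

namespace Cfsg.Agent.SC.QM

open Subgroup Cfsg.Agent.FT Cfsg.Agent.SF Cfsg.Agent.SF.GP
open Cfsg.Agent.Tr (SylowIn)

universe u

theorem thmA_rel (hB : BScStmt.{u}) (h74 : S1174Stmt.{u}) {G : Type u} [Group G] [Finite G]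
    {H P A B : Subgroup G} (hP : SylowIn 2 P H) (hA : A ≤ P) (hB' : B ≤ P)
    (sA : ∀ x ∈ A, ∀ g ∈ H, g * x * g⁻¹ ∈ P → g * x * g⁻¹ ∈ A)
    (sB : ∀ x ∈ B, ∀ g ∈ H, g * x * g⁻¹ ∈ P → g * x * g⁻¹ ∈ B) (hc : A ≤ 𝐂(B)) (hd : A ⊓ B = ⊥)
    {x y g : G} (hx : x ∈ A) (hg : g ∈ H) (hy : y ∈ H) (hy' : g * y * g⁻¹ ∈ B) :
    x * y * x⁻¹ * y⁻¹ ∈ 𝐎(H) := by
  have h1 := thmA_of_bsc hB H hP.toSylow (A.subgroupOf H) (B.subgroupOf H)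
    ⟨fun a ha => hA ha, fun a ha k hk => sA _ ha k k.2 hk⟩
    ⟨fun a ha => hB' ha, fun a ha k hk => sB _ ha k k.2 hk⟩
    (centsP.2 fun a ha b hb => Subtype.ext (centsP.1 hc _ ha _ hb))
    (eq_bot_iff.2 fun a ha => Subtype.ext (mem_bot.1 (hd.le ⟨ha.1, ha.2⟩))) (Or.inr h74)
  rw [← closure_cl (B.subgroupOf H), ← core_top_eq] at h1
  exact (mem_core_iff _).1 (h1 (mem_commg (x := ⟨x, hP.le (hA hx)⟩) (y := ⟨y, hy⟩)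
    (subset_normalClosure hx) (subset_closure ⟨⟨g, hg⟩, hy'⟩)))

section
variable {G : Type*} [Group G] [Finite G]

theorem le_sup_core {Z M : Subgroup G} (h : SylowIn 2 Z M) (hc : M ≤ 𝐂(Z)) : M ≤ Z ⊔ 𝐎(M) := by
  obtain ⟨K, hK⟩ := SchurZassenhaus_split' (Sylow_pHall (sylowIn_iff.1 h)) (hc.trans (cent_sub Z))
  refine hK.sup.ge.trans (sup_le_sup_left (le_core ?_ (hK.dprod (hK.right_le.trans hc)).nrm_right) Z)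
  rw [← hK.index_left, ← Nat.not_even_iff_odd, even_iff_two_dvd]
  exact h.not_dvd

theorem Bad.conj {Z : Subgroup G} {w s : G} (h : Bad Z w) (hs : s ∈ 𝐍(Z)) : Bad Z (s * w * s⁻¹) := by
  obtain ⟨X, h1, h2, h3, h4⟩ := h
  have e := Tr.cj_eq_iff.2 hs
  refine ⟨cj s X, cent1J s w ▸ Tr.cj_mono s h1, by rwa [Tr.card_cj], ?_, fun h5 => h4 ?_⟩
  · rw [← e, normJ]
    exact Tr.cj_mono s h3
  · rwa [cent1J, pcoreJ, ← e, ← Tr.cj_commutator, Tr.cj_le_cj] at h5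

theorem CC_conj {T : Set G} (hT : Fam T) {w x : G} (s : G) (h : x ∈ CC T w) :
    s * x * s⁻¹ ∈ CC T (s * w * s⁻¹) := by
  refine mem_CC.2 ⟨cent1J s w ▸ Tr.conj_mem_cj.2 h.1, fun t ht htc => ?_⟩
  rw [cent1J, Tr.mem_cj] at htc
  convert D_conj s ((mem_CC.1 h).2 _ (hT.conj' ht s) htc) using 1
  group

theorem CC_NN {T : Set G} {w x n : G} (h : x ∈ CC T w) (hn : n ∈ NN T 𝐂[w]) :
    x * n * x⁻¹ * n⁻¹ ∈ 𝐎(𝐂[w]) := cmod_closure (fun _ ht => norm_D w ht.2) h.2 hn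

end

/-- the conclusion of step (a) -/
structure Dec {G : Type*} [Group G] (T : Set G) (Z : Subgroup G) (w : G) (P : Subgroup G) (d : G) :
    Prop where
  dw : d ∈ 𝐂[w]
  dP : d ∈ 𝐍(P)
  dC : d ∉ 𝐂(Z)
  comm : ∀ t ∈ P, d * t * d⁻¹ * t⁻¹ ∈ Z
  eq : P ⊓ CC T w = P ⊓ 𝐂[d]

namespace QC

variable {G : Type u} [Group G] [Finite G] {T : Set G} {Z : Subgroup G} (c : QC T Z)
include c

theorem split {P : Subgroup G} (hP : P ≤ 𝐂(Z)) {d : G} (hd : d ∈ 𝐍(Z)) (hd' : d ∉ 𝐂(Z))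
    (h : ∀ t ∈ P, d * t * d⁻¹ * t⁻¹ ∈ Z) {t : G} (ht : t ∈ P) : ∃ z ∈ Z, t * z ∈ 𝐂[d] := by
  have h1 := (memJ_norm hd).2 (h t ht)
  refine ⟨_, h1, cent1_conj'.2 ?_⟩
  have h2 := c.tri hd hd' h1
  have h3 := mem_cent.1 (hP ht) _ (h t ht)
  obtain ⟨z, hz⟩ : ∃ z, z = d * t * d⁻¹ * t⁻¹ := ⟨_, rfl⟩
  have h4 : d * t * d⁻¹ = z * t := by rw [hz]; group
  rw [← hz] at h1 h2 h3 ⊢
  rw [← conj_mul, h4, h3, mul_assoc t, mul_right_inj]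
  calc z * (d * (d * z * d⁻¹) * d⁻¹) = d⁻¹ * (d * z * d⁻¹) * d * (d * (d * z * d⁻¹) * d⁻¹) := by
        group
    _ = _ := by rw [h2, mul_assoc, c.sq ((memJ_norm hd).2 h1), mul_one]

/-- reduction of fusion to `C(Z)` -/
theorem fuse_red {H P : Subgroup G} (hZ : Z ≤ H) (hP : P ≤ 𝐂(Z)) {d : G} (hdH : d ∈ H)
    (hdP : d ∈ 𝐍(P)) (hd : d ∈ 𝐍(Z)) (hd' : d ∉ 𝐂(Z)) {x : G} (hx : x ∈ P)
    (h : ∀ m ∈ H, m ∈ 𝐂(Z) → m * x * m⁻¹ ∈ P → m * x * m⁻¹ ∈ 𝐂[d]) {g : G} (hg : g ∈ H)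
    (h1 : g * x * g⁻¹ ∈ P) : g * x * g⁻¹ ∈ 𝐂[d] := by
  obtain ⟨n, hn, h2, h3⟩ := c.control1 hZ hg (hP hx) (hP h1)
  rw [← h3] at h1 ⊢
  have key : ∀ e ∈ zpowers d, e * n ∈ 𝐂(Z) → n * x * n⁻¹ ∈ 𝐂[d] := fun e he h4 => by
    have e1 : e * n * x * (e * n)⁻¹ = e * (n * x * n⁻¹) * e⁻¹ := by group
    have h5 := h _ (mul_mem (cycle_subG.2 hdH he) hn) h4
      (e1 ▸ (memJ_norm (cycle_subG.2 hdP he)).2 h1)
    rwa [e1, memJ_norm (normG _ (cycle_subG.2 (cent1id d) he))] at h5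
  rcases c.norm_cases hd hd' h2 with h4 | h4 | h4
  · exact h n hn h4 h1
  · exact key _ (inv_mem (mem_zpowers d)) h4
  · exact key _ (mem_zpowers d) h4

variable (hB : BScStmt.{u})
include hB

theorem badT {w : G} (hw : w ∈ 𝐂(Z)) (w1 : w ≠ 1) (h : Bad Z w) :
    Mx Z (NN T 𝐂[w]) ∧ ⁅NN T 𝐂[w], NN T 𝐂[w]⁆ = NN T 𝐂[w] ∧
      ∀ a ∈ Z, a ≠ 1 → ∃ n ∈ NN T 𝐂[w], n ∈ 𝐍(Z) ∧ n * a * n⁻¹ ≠ a := by
  obtain ⟨X, h1, h2, h3, h4⟩ := h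
  exact lemT hB c.ind c.toF4 (sub_cent1.2 hw) (c.card_lt w1) h1 h2 h3 h4

theorem disj {w : G} (hw : w ∈ 𝐂(Z)) (w1 : w ≠ 1) (h : Bad Z w) {z : G} (hz : z ∈ Z)
    (h1 : z ∈ CC T w) : z = 1 := by
  by_contra z1
  obtain ⟨n, hn, h2, h3⟩ := (c.badT hB hw w1 h).2.2 z hz z1
  have := eq_one_of_odd (odd_core _) c.two (comm_mem_symm (CC_NN h1 hn))
    (mul_mem ((memJ_norm h2).2 hz) (inv_mem hz))
  exact h3 (mul_inv_eq_one.1 this)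

/-- step (a) -/
theorem exists_dec (h74 : S1174Stmt.{u}) {w : G} (hw : w ∈ 𝐂(Z)) (w1 : w ≠ 1) (h : Bad Z w)
    {P : Subgroup G} (hP : SylowIn 2 P 𝐂[w]) (hZ : Z ≤ P) : ∃ d, Dec T Z w P d := by
  obtain ⟨hM, -, hf⟩ := c.badT hB hw w1 h
  have hN := c.fam.NN_nrm 𝐂[w]
  have hZN := c.le_NN (hZ.trans hP.le)
  have hPC := c.two_cent hP.isPGroup hZ
  have hPN := hP.le.trans hN.nz
  have hH : NN T 𝐂[w] ⊔ P ≤ 𝐂[w] := sup_le hN.le hP.le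
  have hP' := hP.mono le_sup_right hH
  obtain ⟨a, ha, a1, -⟩ := c.exists_ne 1
  obtain ⟨n, hn, h1, h2⟩ := hf a ha a1
  obtain ⟨k, hk, d', hd', e⟩ := c.exists_norm hP' hZ (mem_sup_left hn) h1
  obtain ⟨d, hd, t, ht, rfl⟩ := (mem_join_norm hPN).1
    ((Subgroup.mul_mem_cancel_left _ hk.1).1 (e ▸ mem_sup_left (T := P) hn))
  have hdP : d ∈ 𝐍(P) := (Subgroup.mul_mem_cancel_right _ (normG P ht)).1 hd'
  have hdZ := c.norm_le hP.isPGroup hZ hdP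
  have hdC : d ∉ 𝐂(Z) := fun h3 => h2 (cent1_conj.1 (cent_le_cent1 ha
    (e ▸ mul_mem hk.2 (mul_mem h3 (hPC ht)))))
  have h3 : ∀ t ∈ P, d * t * d⁻¹ * t⁻¹ ∈ Z := fun t ht =>
    hM (P ⊓ NN T 𝐂[w]) (pgroup_sub inf_le_left hP.isPGroup) (le_inf hZ hZN) inf_le_right
      (mem_inf.2 ⟨mul_mem ((memJ_norm hdP).2 ht) (inv_mem ht), by
        simpa only [mul_assoc] using mul_mem hd ((memJ_norm (hPN ht)).2 (inv_mem hd))⟩)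
  refine ⟨d, hN.le hd, hdP, hdC, h3, le_antisymm (fun q hq => ⟨hq.1, cent1_conj'.2
    (mul_inv_eq_one.1 (c.disj hB hw w1 h (h3 q hq.1) (mul_mem
      ((memJ_norm (c.fam.norm_CC w (hN.le hd))).2 hq.2) (inv_mem hq.2))))⟩) fun x hx =>
    ⟨hx.1, mem_CC.2 ⟨hP.le hx.1, fun y hy hyw => ?_⟩⟩⟩
  have hyN := mem_NN hy hyw
  obtain ⟨g, hg, h4⟩ := c.conj_mem (hZ.trans hP'.le) hy (mem_sup_left hyN)
  refine pcore_normal_le _ hN (inf_core_le le_sup_left (mem_inf.2 ⟨thmA_rel hB h74 hP' inf_le_left hZ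
    (fun x hx g hg h5 => ⟨h5, c.fuse_red (hZ.trans hP'.le) hPC (mem_sup_left hd) hdP hdZ hdC hx.1
      (fun m hm h6 h7 => ?_) hg h5⟩)
    (fun z hz g _ h5 => (c.sc hP.isPGroup hZ).2 z hz g h5) (inf_le_left.trans hPC)
    (eq_bot_iff.2 fun z hz => by_contra fun z1 => c.move hdZ hdC hz.2 z1 (cent1_conj'.1 hz.1.2))
    hx hg (mem_sup_left hyN) h4, mul_mem ((memJ_norm (hPN hx.1)).2 hyN) (inv_mem hyN)⟩))
  obtain ⟨m, hm', s, hs, rfl⟩ := (mem_join_norm hPN).1 hm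
  have h8 : s * x * s⁻¹ ∈ 𝐂[d] := by
    obtain ⟨z, hz, h9⟩ := c.split hPC hdZ hdC h3 hs
    have : s * x * s⁻¹ = s * z * x * (s * z)⁻¹ := by
      rw [mul_assoc s z, mem_cent.1 (hPC hx.1) z hz]; group
    exact this ▸ mul_mem (mul_mem h9 hx.2) (inv_mem h9)
  have h9 : s * x * s⁻¹ ∈ P := mul_mem (mul_mem hs hx.1) (inv_mem hs)
  have e1 : m * s * x * (m * s)⁻¹ = m * (s * x * s⁻¹) * m⁻¹ := by group
  rw [e1] at h7 ⊢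
  generalize s * x * s⁻¹ = v at h7 h8 h9 ⊢
  have hMn : P ≤ 𝐍(𝐎(NN T 𝐂[w] ⊓ 𝐂(Z))) := (normsI hPN (normsG hPC)).trans (pcore_char _ _)
  obtain ⟨z, hz, o, ho, rfl⟩ := (mem_join_norm' (hZ.trans hMn)).1 (le_sup_core
    ((hM.sylowIn c.two hZN).mono (le_inf hZN c.cent) inf_le_left) inf_le_right
    ⟨hm', (Subgroup.mul_mem_cancel_right _ (hPC hs)).1 h6⟩)
  have e2 : z * o * v * (z * o)⁻¹ = z * (o * v * o⁻¹) * z⁻¹ := by group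
  rw [e2, memJ_norm (normG P (hZ hz))] at h7
  have h10 := eq_one_of_odd (odd_core _) hP.isPGroup (x := o * v * o⁻¹ * v⁻¹) (by
    simpa only [mul_assoc] using mul_mem ho ((memJ_norm (hMn h9)).2 (inv_mem ho)))
    (mul_mem h7 (inv_mem h9))
  rwa [e2, mul_inv_eq_one.1 h10, mem_cent.1 (hPC h9) z hz, mul_inv_cancel_right]

omit hB in
/-- step (b) -/
theorem bad_of {w y : G} (hw : w ∈ 𝐂(Z)) (h : Bad Z w) (hy : y ∈ CC T w) (hyZ : y ∈ 𝐂(Z))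
    (h2 : y * y = 1) : Bad Z y := by
  obtain ⟨X, h1, ho, hn, h3⟩ := h
  have hZw := sub_cent1.2 hw
  have hZy := sub_cent1.2 hyZ
  have hY := commg_subl.2 hn
  have hYw := hY.trans h1
  have hYN : ⁅X, Z⁆ ≤ NN T 𝐂[w] :=
    (commgS X (c.le_NN hZw)).trans ((c.fam.NN_nrm _).commutator_le_right h1)
  have hK : Odd #|𝐎(𝐂[w]) ⊔ ⁅X, Z⁆| := odd_sup (odd_core _) (odd_of_le hY ho) (hYw.trans (norm_D w))
  have hKw : 𝐎(𝐂[w]) ⊔ ⁅X, Z⁆ ≤ 𝐂[w] := sup_le (D_le w) hYw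
  have hKZ : Z ≤ 𝐍(𝐎(𝐂[w]) ⊔ ⁅X, Z⁆) := normsY (hZw.trans (norm_D w)) (commg_normr X Z)
  have hyw := cycle_subG.2 (CC_le T w hy)
  have h4 : ⁅𝐎(𝐂[w]) ⊔ ⁅X, Z⁆, zpowers y⁆ ≤ 𝐎(𝐂[w]) := commMG_le (normG _)
    (commg_subl.2 (hyw.trans (norm_D w))) ((commGC _ _).le.trans (comm_zpowers_le
      (norm_D w (CC_le T w hy)) fun r hr => CC_NN hy (hYN hr))) (hYw.trans (norm_D w))
  refine ⟨(𝐎(𝐂[w]) ⊔ ⁅X, Z⁆) ⊓ 𝐂[y], inf_le_right, odd_of_le inf_le_left hK,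
    normsI hKZ (normsG hZy), fun h5 => h3 ?_⟩
  have h6 : ⁅(𝐎(𝐂[w]) ⊔ ⁅X, Z⁆) ⊓ 𝐂[y], Z⁆ ≤ 𝐎(𝐂[w]) := by
    refine le_trans (le_inf h5 ?_) (c.fam.cover (pgroup_invol h2) (cycle_subG.2 hy) (odd_core 𝐂[y])
      ((NN_le _ _).trans (inf_le_right.trans ((cent_cycle y).le.trans (norm_D y)))))
    rw [cent_cycle]
    exact (commgS _ (c.le_NN (le_inf hZw hZy))).trans
      ((c.fam.NN_nrm _).commutator_le_right (inf_le_inf_right _ hKw))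
  rw [← commGid2 ho c.two hn]
  refine (commSg Z ((le_sup_right.trans (le_of_comm_cent hK (pgroup_invol h2)
    (commg_subl.1 (h4.trans le_sup_left)) (h4.trans le_sup_left)
    (le_sup_of_le_right (by rw [cent_cycle])))))).trans (commMG_le (normG _)
    (commg_subl.2 (hZw.trans (norm_D w))) h6 (inf_le_left.trans (hKw.trans (norm_D w))))

end QC

end Cfsg.Agent.SC.QM
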