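import Cfsg.Agent.Lib.SC.Q2
import Cfsg.Agent.Lib.SC.LemK

/-! Row Q of `docs/SC_PLAN.md`: the steps Q5 (c)–(e) and Theorem Q. -/

set_option autoImplicit false
set_option linter.unusedSectionVars false
set_option linter.unusedVariables false

namespace Cfsg.Agent.SC.QM

open Subgroup Cfsg.Agent.FT Cfsg.Agent.SF Cfsg.Agent.SF.GP
open Cfsg.Agent.Tr (SylowIn)

universe u

/-- a bad involution whose centralizer has a Sylow subgroup `P` of maximal order -/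
structure MB {G : Type*} [Group G] (Z : Subgroup G) (w : G) (P : Subgroup G) : Prop where
  cent : w ∈ 𝐂(Z)
  sq : w * w = 1
  ne : w ≠ 1
  bad : Bad Z w
  syl : SylowIn 2 P 𝐂[w]
  le : Z ≤ P
  max : ∀ y ∈ 𝐂(Z), y * y = 1 → y ≠ 1 → Bad Z y → ∀ R : Subgroup G, IsPGroup 2 R → R ≤ 𝐂[y] →
    #|R| ≤ #|P|

section
variable {G : Type*} [Group G] [Finite G] {Z P : Subgroup G} {w : G}

theorem MB.of (h : MB Z w P) {y : G} (h1 : y ∈ 𝐂(Z)) (h2 : y * y = 1) (h3 : y ≠ 1) (h4 : Bad Z y)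
    {R : Subgroup G} (hR : IsPGroup 2 R) (hZ : Z ≤ R) (h5 : R ≤ 𝐂[y]) (hc : #|P| ≤ #|R|) :
    MB Z y R := by
  refine ⟨h1, h2, h3, h4, Tr.sylowIn_of_maximal hR h5 fun Q hQ h6 h7 => (eq_of_le_of_card_ge h6
    ((h.max y h1 h2 h3 h4 Q hQ h7).trans hc)).symm, hZ, fun y a b c d Q e f =>
    (h.max y a b c d Q e f).trans hc⟩

theorem MB.conj (h : MB Z w P) {s : G} (hs : s ∈ 𝐍(P)) (hZ : s ∈ 𝐍(Z)) : MB Z (s * w * s⁻¹) P :=
  h.of ((memJ_norm (cent_norm Z hZ)).2 h.cent) (Tr.conj_mul_self h.sq s) (by simpa using h.ne)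
    (h.bad.conj hZ) h.syl.isPGroup h.le
    (by rw [cent1J, ← Tr.cj_eq_iff.2 hs]; exact Tr.cj_mono s h.syl.le) le_rfl

theorem MB.mem (h : MB Z w P) : w ∈ P :=
  h.syl.le_of_le_normalizer (pgroup_invol h.sq) (cycle_subG.2 (cent1id w))
    (cents_norm (by rw [cent_cycle]; exact h.syl.le)) (mem_zpowers w)

theorem mem_CC_self (T : Set G) (w : G) : w ∈ CC T w :=
  mem_CC.2 ⟨cent1id w, fun t _ ht => by rw [cent1_conj'.1 ht, mul_inv_cancel]; exact one_mem _⟩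

theorem exists_MB (hZ : IsPGroup 2 Z) (h : ∃ y ∈ 𝐂(Z), y * y = 1 ∧ y ≠ 1 ∧ Bad Z y) :
    ∃ w P, MB Z w P := by
  obtain ⟨w, ⟨h1, h2, h3, h4⟩, hw⟩ := Set.exists_max_image
    {y | y ∈ 𝐂(Z) ∧ y * y = 1 ∧ y ≠ 1 ∧ Bad Z y} (fun y => (#|𝐂[y]|).factorization 2)
    (Set.toFinite _) h
  obtain ⟨P, hP, hZP⟩ := Tr.exists_sylowIn_ge hZ (sub_cent1.2 h1)
  refine ⟨w, P, h1, h2, h3, h4, hP, hZP, fun y a b c d R hR e => ?_⟩
  obtain ⟨Q, hQ, hRQ⟩ := Tr.exists_sylowIn_ge hR e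
  refine (card_le_of_le hRQ).trans ?_
  rw [hP.card_eq_pow, hQ.card_eq_pow]
  exact Nat.pow_le_pow_right two_pos (hw y ⟨a, b, c, d⟩)

theorem exists_central {Q : Subgroup G} (hP : IsPGroup 2 P) (h : Q ⊴ P) (h1 : Q ≠ ⊥) :
    ∃ y ∈ Q, y * y = 1 ∧ y ≠ 1 ∧ P ≤ 𝐂[y] := by
  obtain ⟨y, hy, h2⟩ := Tr.exists_orderOf_two_of_ne_bot
    (pgroup_sub (inf_le_left.trans h.le) hP) (meet_center_pgroup hP h h1)
  exact ⟨y, hy.1, Tr.mul_self_of_orderOf_two h2, Tr.ne_one_of_orderOf_two h2, sub_cent1.2 hy.2.2⟩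

end

namespace QC

variable {G : Type u} [Group G] [Finite G] {T : Set G} {Z : Subgroup G} (c : QC T Z)
  (hB : BScStmt.{u}) (h74 : S1174Stmt.{u}) {w : G} {P : Subgroup G}
include c

theorem Q_nrm (h : MB Z w P) : P ⊓ CC T w ⊴ P :=
  ⟨inf_le_left, normsI (normG P) (h.syl.le.trans (c.fam.norm_CC w))⟩

theorem P_le (h : MB Z w P) : P ≤ 𝐂(Z) := c.two_cent h.syl.isPGroup h.le

include hB h74

theorem dec (h : MB Z w P) : ∃ d, Dec T Z w P d := c.exists_dec hB h74 h.cent h.ne h.bad h.syl h.le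

theorem prod (h : MB Z w P) {t : G} (ht : t ∈ P) : ∃ z ∈ Z, t * z ∈ P ⊓ CC T w := by
  obtain ⟨d, hd⟩ := c.dec hB h74 h
  obtain ⟨z, hz, h1⟩ := c.split (c.P_le h) (c.norm_le h.syl.isPGroup h.le hd.dP) hd.dC hd.comm ht
  exact ⟨z, hz, hd.eq.ge ⟨mul_mem ht (h.le hz), h1⟩⟩

theorem Q_sup (h : MB Z w P) : (P ⊓ CC T w) ⊔ Z = P :=
  le_antisymm (sup_le inf_le_left h.le) fun t ht => by
    obtain ⟨z, hz, h1⟩ := c.prod hB h74 h ht
    simpa using mul_mem (mem_sup_left h1) (mem_sup_right (inv_mem hz))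

theorem card_P (h : MB Z w P) : #|P| = #|P ⊓ CC T w| * 4 := by
  rw [← c.card, ← TI_cardMg (h.le.trans (c.Q_nrm h).nz) (eq_bot_iff.2 fun z hz =>
    c.disj hB h.cent h.ne h.bad hz.2 hz.1.2), c.Q_sup hB h74 h]

theorem Q_eq1 {y : G} (h : MB Z w P) (h' : MB Z y P) (hy : y ∈ CC T w) :
    P ⊓ CC T y = P ⊓ CC T w := by
  obtain ⟨d, hd⟩ := c.dec hB h74 h
  have h1 : d ∈ 𝐂[y] := cent1C.1 (hd.eq.le ⟨h'.mem, hy⟩).2
  refine eq_of_le_of_card_ge (fun q hq => hd.eq.ge ⟨hq.1, cent1_conj'.2 (mul_inv_eq_one.1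
    (c.disj hB h'.cent h'.ne h'.bad (hd.comm q hq.1)
      (mul_mem ((memJ_norm (c.fam.norm_CC y h1)).2 hq.2) (inv_mem hq.2))))⟩) ?_
  have := c.card_P hB h74 h
  have := c.card_P hB h74 h'
  omega

/-- step (c) -/
theorem Q_eq {w' : G} (h : MB Z w P) (h' : MB Z w' P) (h1 : (P ⊓ CC T w) ⊓ (P ⊓ CC T w') ≠ ⊥) :
    P ⊓ CC T w = P ⊓ CC T w' := by
  obtain ⟨y, hy, h2, h3, h4⟩ := exists_central h.syl.isPGroup ((c.Q_nrm h).inf (c.Q_nrm h')) h1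
  have h5 := c.P_le h hy.1.1
  have h6 := h.of h5 h2 h3 (c.bad_of h.cent h.bad hy.1.2 h5 h2) h.syl.isPGroup h.le h4 le_rfl
  exact (c.Q_eq1 hB h74 h h6 hy.1.2).symm.trans (c.Q_eq1 hB h74 h' h6 hy.2.2)

/-- step (d) -/
theorem not_syl (h : MB Z w P) : ¬ SylowIn 2 P ⊤ := fun hP => by
  obtain ⟨d, hd⟩ := c.dec hB h74 h
  have hdZ := c.norm_le hP.isPGroup h.le hd.dP
  have hPC := c.P_le h
  have h1 : ∀ z ∈ Z, z ∈ ⁅𝐂(Z), 𝐂(Z)⁆ → z = 1 := fun z hz h2 => by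
    have h3 := center_der_le (sylowIn_iff.1 (hP.mono hPC le_top)) (h.le hz)
      (centsC.1 le_rfl hz) h2
    have h4 := (c.Q_nrm h).nz
    have h5 : ⁅P ⊓ CC T w, P⁆ ≤ P ⊓ CC T w := commg_subl.2 h4
    nth_rw 1 [← c.Q_sup hB h74 h] at h3
    exact c.disj hB h.cent h.ne h.bad hz (commMG_le (normG _) h5
      ((commG1P.2 (centsC.1 hPC)).le.trans bot_le) (h.le.trans h4) h3).2
  refine h.ne (c.center_eq (mem_center_iff.2 fun g => mem_cent1.1 ?_))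
  have := c.simple
  have h2 : closure T = ⊤ := (Normal.eq_bot_or_eq_top c.fam.normal).resolve_left fun e =>
    c.ne_bot (eq_bot_iff.2 fun z hz => e.le (subset_closure (c.sub z hz)))
  refine (closure_le 𝐂[w]).2 (fun t ht => cent1_conj'.2 ?_) (h2.ge (mem_top g))
  obtain ⟨k, -, hk⟩ := c.conj_mem le_top ht (mem_top t)
  have h3 := thmA_rel hB h74 hP (A := P ⊓ 𝐂[d]) inf_le_left h.le
    (fun x hx g hg h5 => ⟨h5, c.fuse_red le_top hPC (mem_top d) hd.dP hdZ hd.dC hx.1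
      (fun m _ h6 h7 => cent1_conj'.2 (mul_inv_eq_one.1 (h1 _ (hd.comm _ h7) ?_))) hg h5⟩)
    (fun z hz g _ h5 => (c.sc hP.isPGroup h.le).2 z hz g h5) (inf_le_left.trans hPC)
    (eq_bot_iff.2 fun z hz => by_contra fun z1 => c.move hdZ hd.dC hz.2 z1 (cent1_conj'.1 hz.1.2))
    (hd.eq.le ⟨h.mem, mem_CC_self T w⟩) (mem_top k) (mem_top t) hk
  · rwa [c.hO, mem_bot, mul_inv_eq_one] at h3
  · have h8 := mem_commg h6 (hPC hx.1)
    have h9 := (memJ_norm (normsR (cent_norm Z) (cent_norm Z) hdZ)).2 h8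
    rw [← conj_mul, ← conj_inv, cent1_conj'.1 hx.2] at h9
    simpa [mul_assoc] using mul_mem h9 (inv_mem h8)

/-- step (e) -/
theorem exists_ti (h : MB Z w P) : ∃ w', MB Z w' P ∧ (P ⊓ CC T w) ⊓ (P ⊓ CC T w') = ⊥ := by
  by_contra hcon
  push Not at hcon
  obtain ⟨S, hS, hPS⟩ := Tr.exists_sylowIn_ge h.syl.isPGroup (normG P)
  have h1 : P ⊓ CC T w ⊴ S := ⟨inf_le_left.trans hPS, fun s hs => by
    have h2 := h.conj (hS.le hs) (c.le_norm hS.isPGroup (h.le.trans hPS) hs)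
    refine Tr.mem_normalizer_of_cj_le (Tr.cj_le_iff.2 fun x hx => ?_)
    exact (c.Q_eq hB h74 h h2 (hcon _ h2)).ge ⟨(memJ_norm (hS.le hs)).2 hx.1, CC_conj c.fam s hx.2⟩⟩
  obtain ⟨y, hy, h2, h3, h4⟩ := exists_central hS.isPGroup h1 fun e =>
    h.ne (mem_bot.1 (e.le ⟨h.mem, mem_CC_self T w⟩))
  have h5 := c.P_le h hy.1
  rw [← eq_of_le_of_card_ge hPS (h.max y h5 h2 h3 (c.bad_of h.cent h.bad hy.2 h5 h2) S hS.isPGroup
    h4)] at hS
  exact c.not_syl hB h74 h (sylowIn_iff.2 (Sylow_norm_top.1 (sylowIn_iff.1 hS)))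

theorem sq_P (h : MB Z w P) {t : G} (ht : t ∈ P) : t * t = 1 := by
  obtain ⟨w', h', h1⟩ := c.exists_ti hB h74 h
  have key : ∀ y, MB Z y P → t * t ∈ P ⊓ CC T y := fun y hy => by
    obtain ⟨z, hz, h2⟩ := c.prod hB h74 hy ht
    have := mul_mem h2 h2
    rwa [mul_assoc, ← mul_assoc z, mem_cent.1 (c.P_le h ht) z hz, mul_assoc, c.sq hz,
      mul_one] at this
  exact mem_bot.1 (h1.le ⟨key w h, key w' h'⟩)

theorem abelem_P (h : MB Z w P) : Abelem 2 P :=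
  exponent2_abelem fun x hx => by rw [pow_two, c.sq_P hB h74 h hx]

theorem not_mem (h : MB Z w P) : w ∉ Z := fun hw =>
  h.ne (c.disj hB h.cent h.ne h.bad hw (mem_CC_self T w))

theorem card_cases (h : MB Z w P) : #|P| = 8 ∨ #|P| = 16 := by
  obtain ⟨w', h', h1⟩ := c.exists_ti hB h74 h
  have h2 := card_le_of_le (sup_le (c.Q_nrm h).le (c.Q_nrm h').le)
  rw [TI_cardMg (inf_le_left.trans (c.Q_nrm h).nz) h1, c.card_P hB h74 h', mul_comm] at h2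
  have h3 := Nat.le_of_mul_le_mul_left h2 Nat.card_pos
  have h4 := c.card_P hB h74 h
  have h5 : #|P ⊓ CC T w| ≠ 1 := fun e =>
    h.ne (mem_bot.1 ((trivg_card1.2 e).le ⟨h.mem, mem_CC_self T w⟩))
  obtain ⟨n, hn⟩ := card_pgroup (pgroup_sub (c.Q_nrm h).le h.syl.isPGroup)
  have h6 : #|P ⊓ CC T w| ≠ 3 := fun e => by
    rw [e] at hn
    exact absurd (Nat.prime_three.eq_one_or_self_of_dvd 2 (hn ▸ dvd_pow_self 2 fun e' => by
      simp [e'] at hn)) (by decide)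
  have : 0 < #|P ⊓ CC T w| := Nat.card_pos
  omega

theorem all_MB (h : MB Z w P) {y : G} (hy : y ∈ P) (hyZ : y ∉ Z) : MB Z y P := by
  obtain ⟨w', h', h1⟩ := c.exists_ti hB h74 h
  obtain ⟨d, hd⟩ := c.dec hB h74 h
  have hdZ := c.norm_le h.syl.isPGroup h.le hd.dP
  have hb : ∀ v x, MB Z v P → x ∈ P ⊓ CC T v → Bad Z x := fun v x hv hx =>
    c.bad_of hv.cent hv.bad hx.2 (c.P_le h hx.1) (c.sq_P hB h74 h hx.1)
  refine h.of (c.P_le h hy) (c.sq_P hB h74 h hy) (fun e => hyZ (e ▸ one_mem _)) ?_ h.syl.isPGroup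
    h.le (sub_abelian_cent1 (abelem_abelian (c.abelem_P hB h74 h)) hy) le_rfl
  obtain ⟨z, hz, h2⟩ := c.prod hB h74 h hy
  by_cases z1 : z = 1
  · exact hb w y h (by simpa [z1] using h2)
  obtain ⟨v, hv, h3⟩ := c.prod hB h74 h' h2.1
  have v1 : v ≠ 1 := fun e => hyZ (by
    have := mem_bot.1 (h1.le ⟨h2, by simpa [e] using h3⟩)
    exact eq_inv_of_mul_eq_one_left this ▸ inv_mem hz)
  have h4 := hb w' _ h' h3
  have h5 := cent1_conj'.1 (hd.eq.le h2).2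
  have e : y = y * z * z := by rw [mul_assoc, c.sq hz, mul_one]
  rw [e]
  generalize y * z = q at h4 h5
  rcases c.cases3 hdZ hd.dC hv v1 hz z1 with rfl | rfl | rfl
  · exact h4
  · have := h4.conj hdZ
    rwa [← conj_mul, h5] at this
  · have := h4.conj (inv_mem hdZ)
    rwa [← conj_mul, cent1_conj'.1 (cent1V d ▸ cent1_conj'.2 h5), inv_inv] at this

theorem card_le (h : MB Z w P) {E : Subgroup G} (hE : Abelem 2 E) (hZ : Z ≤ E) (h8 : 8 ≤ #|E|) :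
    #|E| ≤ #|P| ∧ (#|P| ≤ #|E| → ∃ y, MB Z y E) := by
  obtain ⟨y, hy, h1, h2⟩ := c.exists_bad h74 hE hZ h8
  have h3 := centsS hZ (abelianE.1 (abelem_abelian hE)) hy
  have h4 : y * y = 1 := by rw [← pow_two, hE.2 y hy]
  have h5 : y ≠ 1 := fun e => h1 (e ▸ one_mem _)
  have h6 := sub_abelian_cent1 (abelem_abelian hE) hy
  exact ⟨h.max y h3 h4 h5 h2 E (abelem_pgroup hE) h6,
    fun h7 => ⟨y, h.of h3 h4 h5 h2 (abelem_pgroup hE) hZ h6 h7⟩⟩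

theorem false (hL : LyonsStmt.{u}) (hF : FStmt.{u}) (hG : GStmt.{u}) : False := by
  have h4 := four_abelem c.four
  obtain ⟨x, hx, h1, h2⟩ := c.exists_invol hL
  obtain ⟨y, hy, h3, h5⟩ := c.exists_bad h74 (abelem_sup_cycle h4 hx (by rw [pow_two, h2]))
    le_sup_left (by rw [card_sup_cycle (p := 2) (cent_sub Z hx) h1 (by rw [pow_two, h2]), c.card])
  obtain ⟨w, P, h⟩ := exists_MB c.two ⟨y, sup_le c.cent (cycle_subG.2 hx) hy, by
    rw [← pow_two, (abelem_sup_cycle h4 hx (by rw [pow_two, h2])).2 y hy],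
    fun e => h3 (e ▸ one_mem _), h5⟩
  obtain ⟨S, hS⟩ := c.exists_syl
  have hi := index_ne_two_of_perfect c.perf
  have hs := c.sc S.isPGroup' hS
  have hc := c.two_cent S.isPGroup' hS
  rcases c.card_cases hB h74 h with h8 | h8
  · obtain ⟨d, hd⟩ := c.dec hB h74 h
    refine hF G S Z w d hi h4 c.card hs hc h.cent (c.not_mem hB h74 h) h.sq ?_
      (c.norm_le h.syl.isPGroup h.le hd.dP) hd.dC hd.dw fun E hE hZ => ?_
    · rw [eq_of_le_of_card_ge (sup_le h.le (cycle_subG.2 h.mem)) (by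
        rw [card_sup_cycle (p := 2) (cent_sub Z h.cent) (c.not_mem hB h74 h)
          (by rw [pow_two, h.sq]), c.card, h8])]
      exact sylowIn_iff.1 h.syl
    · by_contra h6
      have := (c.card_le hB h74 h hE hZ (by omega)).1
      omega
  refine hG G S Z P hi h4 c.card hs hc (c.abelem_P hB h74 h) h.le h8
    (fun e => c.not_syl hB h74 h (sylowIn_iff.2 e)) fun E hE hZ h6 => ?_
  obtain ⟨v, hv⟩ := (c.card_le hB h74 h hE hZ (by omega)).2 (by omega)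
  obtain ⟨d, hd⟩ := c.dec hB h74 hv
  refine ⟨⟨d, c.norm_le hv.syl.isPGroup hZ hd.dP, hd.dC, hd.eq ▸ c.Q_sup hB h74 hv⟩,
    fun t ht htZ => ?_⟩
  have h7 := c.all_MB hB h74 hv ht htZ
  obtain ⟨h9, h10, -⟩ := c.badT hB h7.cent h7.ne h7.bad
  have h11 := c.le_NN (sub_cent1.2 h7.cent)
  exact ⟨sylowIn_iff.1 h7.syl, _, h11, NN_le _ _, (c.fam.NN_nrm _).nz, h10,
    Nat.not_even_iff_odd.1 fun e => (h9.sylowIn c.two h11).not_dvd e.two_dvd⟩

end QC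

theorem qn (hB : BScStmt.{u}) (h74 : S1174Stmt.{u}) (hL : LyonsStmt.{u}) (hF : FStmt.{u})
    (hG : GStmt.{u}) (n : ℕ) : QN.{u} n := by
  induction n using Nat.strong_induction_on with
  | _ n ih =>
    intro G _ _ hs T Z hn h
    by_contra hcon
    push Not at hcon
    exact QC.false ⟨h, hs, hcon.2, hcon.1, ih _ hn⟩ hB h74 hL hF hG

/-- Theorem Q -/
theorem q_of (hB : BScStmt.{u}) (h74 : S1174Stmt.{u}) (hL : LyonsStmt.{u}) (hF : FStmt.{u})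
    (hG : GStmt.{u}) : QStmt.{u} := fun G _ _ _ S Z hZ h4 hs =>
  (qn hB h74 hL hF hG _ G _ Z (Nat.lt_succ_self _) ⟨scl_of_sc hs, four_of_abelem hZ h4⟩).imp_left
    fun h => le_antisymm (h _ S.isPGroup' hs.1 le_top) hs.1

end Cfsg.Agent.SC.QM
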