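import Cfsg.Agent.Lib.SC.QZ

/-! Piece (f) of row Q. -/

set_option autoImplicit false
set_option linter.unusedSectionVars false

namespace Cfsg.Agent.SC

open Subgroup Cfsg.Agent.FT Cfsg.Agent.SF.GP
open Cfsg.Agent.Tr (SylowIn)

universe u

variable {G : Type*} [Group G] [Finite G]

structure FC (F : Set G) (Z : Subgroup G) (w : G) : Prop extends ZC F Z where
  wC : w ∈ 𝐂(Z)
  wZ : w ∉ Z
  ww : w * w = 1
  syl : SylowIn 2 (Z ⊔ zpowers w) 𝐂[w]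
  e8 : ∀ E : Subgroup G, IsElementaryAbelian 2 E → Z ≤ E → #|E| ≤ 8

structure Dd (Z : Subgroup G) (w d : G) : Prop where
  nz : d ∈ 𝐍(Z)
  nc : d ∉ 𝐂(Z)
  cw : d ∈ 𝐂[w]
  odd : Odd (orderOf d)

structure Trp (Z : Subgroup G) (w : G) (P R : Subgroup G) (d : G) : Prop extends Dd Z w d where
  two : IsPGroup 2 P
  ZP : Z ≤ P
  wP : w ∈ P
  RP : R ≤ P
  idx : R.relIndex P = 2
  wR : w ∉ R
  dP : d ∈ 𝐍(P)
  dR : d ∈ 𝐍(R)

namespace FC

variable {F : Set G} {Z : Subgroup G} {w : G} (h : FC F Z w)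
include h

theorem card8' {x : G} (hx : x ∈ 𝐂(Z)) (hx' : x ∉ Z) (xx : x * x = 1) : #|Z ⊔ zpowers x| = 8 := by
  rw [card_sup2 (cent_sub _ hx) (xx ▸ one_mem Z) hx', h.card]

theorem card8 : #|Z ⊔ zpowers w| = 8 := h.card8' h.wC h.wZ h.ww

theorem w1 : w ≠ 1 := fun e => h.wZ (e ▸ one_mem Z)

theorem cw {P : Subgroup G} (hP : IsPGroup 2 P) (hZ : Z ≤ P) (hw : w ∈ P) :
    P ⊓ 𝐂[w] = Z ⊔ zpowers w :=
  h.syl.eq_of_le (pgroup_sub inf_le_left hP) (le_inf (sup_le hZ (zpowers_le.2 hw)) h.syl.le)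
    inf_le_right

theorem conj_not_mem (g : G) : g * w * g⁻¹ ∉ Z :=
  h.not_mem (pgroup_invol h.ww) (cent_sub _ h.wC) h.wZ

theorem cfix {P : Subgroup G} {d x : G} (hP : IsPGroup 2 P) (hZ : Z ≤ P) (hw : w ∈ P)
    (hd : Dd Z w d) (hx : x ∈ P) (hc : Commute x d) : x ∈ zpowers w := by
  have h1 : zpowers w ≤ P ⊓ 𝐂[d] := zpowers_le.2 ⟨hw, mem_centralizer_singleton_iff.2
    (mem_centralizer_singleton_iff.1 hd.cw).symm⟩
  by_contra hn
  obtain ⟨y, hy, h2, h3⟩ := Tr.exists_mem_normalizer_not_mem (pgroup_sub inf_le_left hP)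
    (lt_of_le_of_ne h1 fun e => hn (e ▸ ⟨hx, mem_centralizer_singleton_iff.2 hc⟩))
  have h4 : y * w * y⁻¹ = w := (mem_zp2 h.ww ((memJ_norm h2).2 (mem_zpowers w))).resolve_left
    (by simpa using h.w1)
  have h5 : ∀ z ∈ Z, z ∈ 𝐂[d] → z = 1 := fun z hz hc => h.fpf hd.nz hd.nc z hz (by
    rw [← mem_centralizer_singleton_iff.1 hc, mul_inv_cancel_right])
  rcases (mem_sup2 (cent_sub _ h.wC) (h.ww ▸ one_mem Z)).1 ((h.cw hP hZ hw).le
    ⟨hy.1, mem_centralizer_singleton_iff.2 (mul_inv_eq_iff_eq_mul.1 h4)⟩) with e | e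
  · exact h3 (h5 y e hy.2 ▸ one_mem _)
  · have := h5 _ e (mul_mem (mem_inf.1 hy).2 (inv_mem (mem_inf.1 (h1 (mem_zpowers w))).2))
    exact h3 (mul_inv_eq_one.1 this ▸ mem_zpowers w)

theorem cube_cent {P : Subgroup G} {d : G} (hP : IsPGroup 2 P) (hZ : Z ≤ P) (hw : w ∈ P)
    (hd : Dd Z w d) (dP : d ∈ 𝐍(P)) : d * d * d ∈ 𝐂(P) := by
  have h1 : d * d * d ∈ 𝐂(zpowers w) := by
    rw [cent_cycle]; exact mul_mem (mul_mem hd.cw hd.cw) hd.cw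
  refine Tr.mem_centralizer_of_p_times_q (pgroup_invol h.ww) hP (zpowers_le.2 (le_normalizer hw))
    (Nat.coprime_two_right.2 (Tr.odd_orderOf_of_mem_zpowers hd.odd (mul_mem (mul_mem
      (mem_zpowers d) (mem_zpowers d)) (mem_zpowers d)))) h1 (mul_mem (mul_mem dP dP) dP) ?_
  rw [cent_cycle, h.cw hP hZ hw, centY]
  exact ⟨h.cube hd.nz, h1⟩

section Trp

variable {P R : Subgroup G} {d : G} (t : Trp Z w P R d)
include t

theorem ZR : Z ≤ R := fun z hz => by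
  obtain ⟨y, hy, rfl⟩ := surj_comm t.nz (h.fpf t.nz t.nc) hz
  rw [h.comm (inv_mem hy) ((memJ_norm t.nz).2 hy)]
  exact conj_iff_of_two t.idx t.dP t.dR (t.ZP hy)

theorem omega {x : G} (hx : x ∈ R) (xx : x * x = 1) : x ∈ Z := by
  by_contra hn
  obtain ⟨y, hy, e⟩ := surj_comm t.dR (fun x hx e => (mem_zp2 h.ww (h.cfix t.two t.ZP t.wP t.toDd
    (t.RP hx) (mul_inv_eq_iff_eq_mul.1 e).symm)).resolve_right fun e => t.wR (e ▸ hx)) hx
  have h1 := mem_centralizer_iff.1 (h.cube_cent t.two t.ZP t.wP t.toDd t.dP) y (t.RP hy)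
  have h2 : x * (d * x * d⁻¹) = d * (d * x * d⁻¹) * d⁻¹ := by
    rw [← Tr.inv_eq_of_mul_self (Tr.conj_mul_self (Tr.conj_mul_self xx d) d),
      eq_inv_iff_mul_eq_one, e]
    calc _ = y⁻¹ * (d * d * d * y) * (d * d * d)⁻¹ := by group
      _ = 1 := by rw [← h1]; group
  have hx' := (memJ_norm t.dR).2 hx
  have x2 := Tr.conj_mul_self xx d
  have cZ := h.cen P t.two t.ZP
  have h3 : d * x * d⁻¹ ∈ 𝐂(Z ⊔ zpowers x) := by
    rw [centY, cent_cycle]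
    refine ⟨cZ (t.RP hx'), mem_centralizer_singleton_iff.2 ?_⟩
    have := Tr.inv_eq_of_mul_self (h2 ▸ Tr.conj_mul_self x2 d)
    rwa [mul_inv_rev, Tr.inv_eq_of_mul_self xx, Tr.inv_eq_of_mul_self x2] at this
  have h4 : d * x * d⁻¹ ∉ Z ⊔ zpowers x := fun e => by
    rcases (mem_sup2 (cent_sub _ (cZ (t.RP hx))) (xx ▸ one_mem Z)).1 e with e | e
    · exact hn ((memJ_norm t.nz).1 e)
    · refine hn ((memJ_norm t.nz).1 ((memJ_norm t.nz).1 ?_))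
      rw [← h2, mem_centralizer_iff.1 h3 x (mem_sup_elt Z x)]
      rwa [Tr.inv_eq_of_mul_self xx] at e
  have h5 := h.e8 _ (abelem_sup_cycle (abelem_sup_cycle (four_abelem h.four) (cZ (t.RP hx))
    (by rw [sq, xx])) h3 (by rw [sq, x2])) (le_sup_left.trans le_sup_left)
  rw [card_sup2 (cent_sub _ h3) (x2 ▸ one_mem _) h4, h.card8' (cZ (t.RP hx)) hn xx] at h5
  omega

theorem out (g : G) : g * w * g⁻¹ ∉ R := fun e =>
  h.conj_not_mem g (h.omega t e (Tr.conj_mul_self h.ww g))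

theorem step (hS : ¬ SylowIn 2 P ⊤) : ∃ P₁ R₁ d₁, Trp Z w P₁ R₁ d₁ ∧ P < P₁ := by
  obtain ⟨P₁, h1, hP⟩ := Tr.exists_sylowIn_ge t.two (le_normalizer (H := P))
  have hne : ¬ P₁ ≤ P := fun e => by
    obtain ⟨S, hS1, hS2⟩ := Tr.exists_sylowIn_ge t.two le_top
    obtain ⟨x, hx, h2, h3⟩ := Tr.exists_mem_normalizer_not_mem hS1.isPGroup
      (lt_of_le_of_ne hS2 fun e => hS (e ▸ hS1))
    exact h3 ((le_antisymm e hP ▸ h1 : SylowIn 2 P 𝐍(P)).le_of_le_normalizer'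
      (pgroup_mem hS1.isPGroup hx) (zpowers_le.2 h2) (zpowers_le.2 h2) (mem_zpowers x))
  have nP : P ⊴ P₁ := ⟨hP, h1.le⟩
  have UZ : 𝐍(P) ≤ 𝐍(Z) := h.norm_le t.two t.ZP
  have cZ := h.cen P₁ h1.isPGroup (t.ZP.trans hP)
  have cw1 := h.cw h1.isPGroup (t.ZP.trans hP) (hP t.wP)
  have hcm : ∀ u ∈ 𝐍(P), u * w * u⁻¹ * w⁻¹ ∈ R := fun u hu => by
    rw [Tr.mul_mem_iff_of_relIndex_two t.idx ((memJ_norm hu).2 t.wP) (inv_mem t.wP), inv_mem_iff]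
    exact iff_of_false (h.out t u) t.wR
  -- the numerics
  have n1 := Tr.card_inf_mul_relIndex 𝐂[w] P₁
  rw [inf_comm, cw1, h.card8] at n1
  have n2 := Tr.card_mul_relIndex t.RP
  have n3 := Tr.card_mul_relIndex hP
  rw [t.idx] at n2
  have n4 : #|R| * P.relIndex P₁ = 4 * 𝐂[w].relIndex P₁ := by nlinarith
  have n5 : 2 ≤ P.relIndex P₁ := by
    have : P.relIndex P₁ ≠ 0 := fun e => by rw [e] at n3; exact Nat.card_pos.ne n3
    have : P.relIndex P₁ ≠ 1 := fun e => hne (relIndex_eq_one.1 e)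
    omega
  have num : 𝐂[w].relIndex 𝐍(P) ≤ 𝐂[w].relIndex P₁ ∧ P.relIndex P₁ ≤ 4 := by
    have m1 := index_cent1_le hcm
    have m2 := Tr.card_inf_mul_relIndex 𝐂[w] 𝐍(P)
    have hT : Z ⊔ zpowers w ≤ 𝐂[w] ⊓ 𝐍(P) :=
      le_inf h.syl.le ((sup_le t.ZP (zpowers_le.2 t.wP)).trans le_normalizer)
    have m3 := Tr.card_mul_relIndex hT
    have m4 := (h.syl.mono hT inf_le_left).not_dvd
    have m5 := Tr.card_mul_relIndex h1.le
    have m6 := h1.not_dvd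
    obtain ⟨k, hk⟩ := Tr.relIndex_eq_pow_of_isPGroup 𝐂[w] h1.isPGroup
    rw [h.card8] at m3
    generalize 𝐂[w].relIndex 𝐍(P) = b at *
    generalize (Z ⊔ zpowers w).relIndex (𝐂[w] ⊓ 𝐍(P)) = c at *
    generalize P₁.relIndex 𝐍(P) = m at *
    generalize P.relIndex P₁ = i at *
    have ha : 0 < 𝐂[w].relIndex P₁ := hk ▸ Nat.two_pow_pos k
    have m7 : c * b = 𝐂[w].relIndex P₁ * m := by nlinarith
    obtain ⟨j, rfl⟩ : 𝐂[w].relIndex P₁ ∣ b := (hk ▸ Nat.Coprime.pow_left k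
      ((Nat.Prime.coprime_iff_not_dvd Nat.prime_two).2 m4)).dvd_of_dvd_mul_left ⟨m, m7⟩
    generalize 𝐂[w].relIndex P₁ = a at *
    have m8 : c * j = m := Nat.eq_of_mul_eq_mul_left ha (by rw [← m7]; ring)
    have m9 : j * i ≤ 4 := Nat.le_of_mul_le_mul_left (by nlinarith) ha
    have : j ≠ 0 := by rintro rfl; exact m6 (m8 ▸ dvd_zero 2)
    have : j ≠ 2 := by rintro rfl; exact m6 (m8 ▸ dvd_mul_left 2 c)
    obtain rfl : j = 1 := by
      by_contra h3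
      have : 3 * 2 ≤ j * i := Nat.mul_le_mul (by omega) n5
      omega
    omega
  -- the new element
  obtain ⟨k, hk, y, hy, e⟩ := (h1.mono (le_inf h1.le cZ) inf_le_left).frattini
    (normsI le_normalizer (UZ.trans (cent_norm Z)) t.dP)
  have yU : y ∈ 𝐍(P) := (mul_mem_cancel_left (mem_inf.1 hk).1).1 (e ▸ t.dP)
  obtain ⟨s, hs, e1⟩ := class_eq h1.le num.1 yU
  obtain ⟨v, hv, vo, vc⟩ := h.odd_part (UZ (mul_mem (inv_mem (h1.le hs)) yU)) fun e2 =>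
    t.nc (e ▸ mul_mem (mem_inf.1 hk).2 ((mul_mem_cancel_left (inv_mem (cZ hs))).1 e2))
  have vU : v ∈ 𝐍(P) := zpowers_le.2 (mul_mem (inv_mem (h1.le hs)) yU) hv
  have vP : v ∈ 𝐍(P₁) := zpowers_le.2 (mul_mem (inv_mem (le_normalizer hs)) hy) hv
  have hd : Dd Z w v := ⟨UZ vU, vc, zpowers_le.2 (mem_centralizer_singleton_iff.2 (by
    rw [← mul_inv_eq_iff_eq_mul, mul_inv_rev, inv_inv, mul_assoc s⁻¹, mul_assoc s⁻¹,
      ← mul_assoc _ y⁻¹, ← e1]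
    group)) hv, vo⟩
  have cf := fun x hx hc => h.cfix (x := x) h1.isPGroup (t.ZP.trans hP) (hP t.wP) hd hx hc
  obtain ⟨i4, hsq, -⟩ := four_mod h1.isPGroup nP hne num.2 vP vU fun x hx hf => by
    obtain ⟨c, hc, h2, h3⟩ := fix_mod h1.isPGroup nP vU vo hx hf
    exact inv_mem_iff.1 ((mul_mem_cancel_left (zpowers_le.2 t.wP (cf c hc h2))).1 h3)
  have cls : ∀ x ∈ P, x ∉ R → ∃ a, a * w * a⁻¹ = x := fun x hx hx' => by
    obtain ⟨a, -, e2⟩ := class_surj (fun a ha => hcm a (h1.le ha)) (by rw [i4] at n4; omega)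
      (k := x * w⁻¹) (by
        rw [Tr.mul_mem_iff_of_relIndex_two t.idx hx (inv_mem t.wP), inv_mem_iff]
        exact iff_of_false hx' t.wR)
    exact ⟨a, by rw [e2, inv_mul_cancel_right]⟩
  have UR : 𝐍(P) ≤ 𝐍(R) := norms_of_conj_mem fun u hu r hr => by
    by_contra hn
    obtain ⟨a, e2⟩ := cls _ ((memJ_norm hu).2 (t.RP hr)) hn
    refine h.out t (u⁻¹ * a) ?_
    rwa [show u⁻¹ * a * w * (u⁻¹ * a)⁻¹ = u⁻¹ * (a * w * a⁻¹) * u by group, e2,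
      show u⁻¹ * (u * r * u⁻¹) * u = r by group]
  have sqR : ∀ s ∈ P₁, s * s ∈ R := fun s hs => by
    by_contra hn
    obtain ⟨a, e2⟩ := cls _ (hsq s hs) hn
    have x2 := Tr.conj_mul_self h.ww a
    have xZ := h.conj_not_mem a
    have hy := h.syl.cj a
    rw [← cent1J] at hy
    rw [e2] at x2 xZ hy
    have xC := cZ (mul_mem hs hs)
    have c1 : s ∈ 𝐂[s * s] := mem_centralizer_singleton_iff.2 (mul_assoc s s s).symm
    have c2 : s ∈ 𝐂(Z ⊔ zpowers (s * s)) := by rw [centY, cent_cycle]; exact ⟨cZ hs, c1⟩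
    have := hy.card_le (Q := (Z ⊔ zpowers (s * s)) ⊔ zpowers s) (pgroup_sub (sup_le (sup_le
      (t.ZP.trans hP) (zpowers_le.2 (mul_mem hs hs))) (zpowers_le.2 hs)) h1.isPGroup)
      (sup_le (sup_le (fun z hz => mem_centralizer_singleton_iff.2 (mem_centralizer_iff.1 xC z hz))
        (zpowers_le.2 (mul_mem c1 c1))) (zpowers_le.2 c1))
    rw [Tr.card_cj, h.card8, card_sup2 (cent_sub _ c2) (mem_sup_elt _ _) (fun e3 => xZ (by
      rw [← sq, (abelem_sup_cycle (four_abelem h.four) xC (by rw [sq, x2])).2 s e3]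
      exact one_mem Z)), h.card8' xC xZ x2] at this
    omega
  have hw : w ∉ ⁅P₁, zpowers v⁆ := fun e2 => t.wR (ti_mod h1.isPGroup (h1.le.trans UR) vP (UR vU)
    vo sqR e2 (by rw [mem_centralizer_singleton_iff.1 hd.cw]; simp))
  have hR : ⁅P₁, zpowers v⁆ ≤ P₁ := commg_subl.2 (zpowers_le.2 vP)
  refine ⟨P₁, ⁅P₁, zpowers v⁆, v, ⟨hd, h1.isPGroup, t.ZP.trans hP, hP t.wP, hR, ?_, hw, vP,
    commg_normr _ _ (mem_zpowers v)⟩, lt_of_le_not_ge hP hne⟩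
  have : ⁅P₁, zpowers v⁆ ⊔ zpowers w = P₁ := le_antisymm (sup_le hR (zpowers_le.2 (hP t.wP)))
    fun x hx => by
      obtain ⟨n, hn, c, hc, rfl⟩ := Solv.exists_commutator_mul_centralizer (zpowers_le.2 vP)
        (cop_zp h1.isPGroup vo).symm (Or.inr (pgroup_sol h1.isPGroup)) hx
      exact mul_mem (mem_sup_left hn) (mem_sup_right (cf c hc.1
        (mem_centralizer_iff.1 hc.2 v (mem_zpowers v)).symm))
  conv_lhs => enter [2]; rw [← this]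
  exact relIndex_sup2 (commg_norml _ _ (hP t.wP)) (h.ww ▸ one_mem _) hw

end Trp

end FC

theorem fCase : FStmt.{u} := by
  intro G _ _ S Z w d hG hE h4 hsc hc wC wZ ww hT dN dC dw e8
  have h : FC (cl Z) Z w := ⟨zc_of hE h4 hsc hc, wC, wZ, ww, ⟨hT.le, hT.pgroup, hT.not_dvd⟩, e8⟩
  obtain ⟨v, hv, vo, vc⟩ := h.odd_part dN dC
  have vN := zpowers_le.2 dN hv
  have vw := zpowers_le.2 dw hv
  obtain ⟨P, ⟨R, d, t⟩, hm⟩ := exists_maximal_of_wellFoundedGT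
    (fun P : Subgroup G => ∃ R d, Trp Z w P R d) ⟨Z ⊔ zpowers w, Z, v, ⟨vN, vc, vw, vo⟩,
      hT.pgroup, le_sup_left, mem_sup_elt Z w, le_sup_left,
      relIndex_sup2 (cent_sub _ wC) (ww ▸ one_mem Z) wZ, wZ, normsY (zpowers_le.2 vN)
        (zpowers_le.2 (cent_sub _ (cent_cycle w ▸ vw))) (mem_zpowers v), vN⟩
  by_cases hS : SylowIn 2 P ⊤
  · obtain ⟨g, hg, -⟩ := Tr.thompson_transfer hG hS t.idx (u := w) (by rw [sq, ww])
    exact h.out t g hg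
  · obtain ⟨P₁, R₁, d₁, t₁, hlt⟩ := h.step t hS
    exact hlt.not_ge (hm ⟨R₁, d₁, t₁⟩ hlt.le)

end Cfsg.Agent.SC
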