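import Cfsg.Agent.Lib.SC.QG2
import Cfsg.Agent.Lib.SC.Cnt

/-! Piece (g) of row Q. -/

set_option autoImplicit false
set_option linter.unusedSectionVars false

namespace Cfsg.Agent.SC

open Subgroup Cfsg.Agent.FT Cfsg.Agent.SF.GP
open Cfsg.Agent.Tr (SylowIn)

universe u

variable {G : Type u} [Group G] [Finite G] {F : Set G} {Z T S R : Subgroup G}

theorem GR.symm (r : GR Z T S R) (h : GT F Z T S) (h' : GT F Z R S) : GR Z R S T where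
  RS := h.TS
  nR := h.syl.le
  ZR := h.ZT
  RT := fun x hx hx' => r.RT x hx' hx
  dec := fun s hs => by
    obtain ⟨a, ha, y, hy, e⟩ := r.dec _ (inv_mem hs)
    exact ⟨_, inv_mem hy, _, inv_mem ha, by rw [← mul_inv_rev, ← e, inv_inv]⟩
  comm := fun _ hx _ hy => h.cT hx hy
  c16 := h.c16
  i4 := by
    have := Tr.card_mul_relIndex h'.TS
    rw [h.c64 r, h'.c16] at this
    omega

theorem GT.scT (h : GT F Z T S) (r : GR Z T S R) (h' : GT F Z R S) (hS : SylowIn 2 S ⊤) :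
    IsStronglyClosed T S := by
  refine ⟨h.TS, fun y hy g hg => by_contra fun hn => ?_⟩
  have hy' : y ∉ Z := fun e => hn (h.ZT (h.scZ h.twoS h.ZS e hg))
  obtain ⟨n, e, -⟩ := h.conj_T h' hy hy' ((h.invA r h'.sqT hg
    (Tr.conj_mul_self (h.sqT y hy) g)).resolve_left hn) fun e => hn (h.ZT e)
  have h1 := h.syl.cj n
  rw [← normJ, e] at h1
  obtain ⟨m, hm, e1⟩ := h'.syl.exists_cj_eq h1
  rw [← Tr.cj_mul, Tr.cj_eq_iff] at e1
  have e2 : cj (m * n) T = R := by rw [Tr.cj_mul, e, Tr.cj_eq_iff.2 hm]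
  have h2 : m * n ∉ 𝐍(T) := fun e3 => h.TneR r h'.sqT ((Tr.cj_eq_iff.2 e3).symm.trans e2)
  refine h2 (mem_of_sq_odd hS e1 h.syl.le (Tr.cj_eq_iff.1 ?_))
  rw [Tr.cj_mul, e2, (h.swap r h'.sqT e1 h2).2]

theorem GT.caseA1 (h : GT F Z T S) (r : GR Z T S R) (h' : GT F Z R S) (hS : SylowIn 2 S ⊤)
    {d d' : G} (hd : Gd Z T S d) (hd' : Gd Z R S d')
    (hH : ∀ y, y ∈ T ∨ y ∈ R → y ∉ Z → ∃ H : Subgroup G, Z ≤ H ∧ H ≤ 𝐂[y] ∧ 𝐂[y] ≤ 𝐍(H) ∧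
      ⁅H, H⁆ = H ∧ Odd (Z.relIndex H)) : False := by
  have sc0 := h.scT r h' hS
  have sc1 := h'.scT (r.symm h h') h hS
  have ab : ∀ A : Subgroup G, (∀ x ∈ A, x * x = 1) → IsElementaryAbelian 2 A := fun A hA =>
    ⟨abelianP.2 fun _ hx _ hy => comm_of_sq hA hx hy, fun x hx => by rw [sq, hA x hx]⟩
  obtain ⟨c, hc, e⟩ : ∃ c, Gd Z R S c ∧ d * c ∈ 𝐂(Z) := by
    obtain ⟨a, ha, a1, -⟩ := h.exists_ne 1
    have hb := (memJ_norm (inv_mem hd.nz)).2 ha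
    rcases h.fused hd'.nz hd'.nc ha a1 hb (fun e => a1 (conj_eq_one_iff.1 e)) with e | e | e
    · exact absurd (h.fpf hd.inv.nz hd.inv.nc a ha e) a1
    · refine ⟨d', hd', h.fix_cent (mul_mem hd.nz hd'.nz) ha a1 ?_⟩
      rw [show d * d' * a * (d * d')⁻¹ = d * (d' * a * d'⁻¹) * d⁻¹ by group, ← e]; group
    · refine ⟨d'⁻¹, hd'.inv, h.fix_cent (mul_mem hd.nz hd'.inv.nz) ha a1 ?_⟩
      have h1 := mem_centralizer_iff.1 (h.cube hd'.nz) a ha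
      calc d * d'⁻¹ * a * (d * d'⁻¹)⁻¹ = d * d'⁻¹ * (a * (d' * d' * d')) * (d' * d')⁻¹ * d⁻¹ := by
            group
        _ = d * (d' * (d' * a * d'⁻¹) * d'⁻¹) * d⁻¹ := by rw [h1]; group
        _ = a := by rw [← e]; group
  have nT : ∀ n ∈ 𝐍(S), ∀ y ∈ T, n * y * n⁻¹ ∈ T := fun n hn y hy =>
    sc0.2 y hy n ((memJ_norm hn).2 (h.TS hy))
  have nR : ∀ n ∈ 𝐍(S), ∀ y ∈ R, n * y * n⁻¹ ∈ R := fun n hn y hy =>
    sc1.2 y hy n ((memJ_norm hn).2 (r.RS hy))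
  refine count G hS.toSylowTop Z T R (ab T h.sqT) (ab R h'.sqT) h.c16 r.c16
    (le_antisymm (fun x hx => r.RT x hx.2 hx.1) (le_inf h.ZT r.ZR)) h.card
    (le_antisymm (sup_le h.TS r.RS) fun s hs => ?_) sc0 sc1
    (fun y hy hy' v hv hv' e => hv' (r.RT v hv (h.c1 (r.RS hv) hy hy' e.eq.symm)))
    (fun a ha a1 b hb b1 => ?_) ⟨d * c, mul_mem hd.nS hc.nS, e, fun x hx hf => ?_⟩ hH
  · obtain ⟨a, ha, y, hy, rfl⟩ := r.dec s hs
    exact mul_mem (mem_sup_right ha) (mem_sup_left hy)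
  · rcases h.fused hd.nz hd.nc ha a1 hb b1 with e | e | e
    · rw [e]
    · exact isConj_iff.2 ⟨d, e.symm⟩
    · exact isConj_iff.2 ⟨d * d, by rw [e]; group⟩
  · obtain ⟨a, ha, y, hy, rfl⟩ := r.dec x hx
    have he := mul_mem hd.nS hc.nS
    have p0 := mul_mem (nR _ he a ha) (inv_mem ha)
    have q0 := mul_mem (nT _ he y hy) (inv_mem hy)
    have q1 := nT a (le_normalizer (r.RS ha)) _ q0
    rw [show d * c * (a * y) * (d * c)⁻¹ * (a * y)⁻¹ = d * c * a * (d * c)⁻¹ * a⁻¹ *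
      (a * (d * c * y * (d * c)⁻¹ * y⁻¹) * a⁻¹) by group] at hf
    have p := r.RT _ p0 ((mul_mem_cancel_right q1).1 (h.ZT hf))
    have q := (memJ_norm (h.nZ (r.RS ha))).1 ((mul_mem_cancel_left p).1 hf)
    refine mul_mem (r.RT a ha (h.fpf6 hd (r.RS ha) (h.ZT ?_)))
      (r.RT y (h'.fpf6 hc (h.TS hy) (r.ZR ?_)) hy)
    · have := mul_mem (inv_mem ((memJ_norm hd.nz).2 (hc.cm a ha))) p
      convert this using 1; group
    · have := mul_mem (inv_mem (hd.cm _ (nT c hc.nS y hy))) q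
      convert this using 1; group

theorem gCase : GStmt.{u} := by
  intro G _ _ S Z T hG hE h4 hsc hc aT ZT c16 hT H
  have z := zc_of hE h4 hsc hc
  obtain ⟨S₁, hS₁⟩ := Tr.exists_sylowIn (p := 2) 𝐍(T)
  have mk : ∀ A : Subgroup G, IsElementaryAbelian 2 A → Z ≤ A → #|A| = 16 → SylowIn 2 S₁ 𝐍(A) →
      GT (cl Z) Z A S₁ ∧ ∃ d, Gd Z A S₁ d := fun A h1 h2 h3 h4 => by
    have h : GT (cl Z) Z A S₁ := ⟨z, fun x hx => by rw [← sq]; exact h1.2 x hx, h2, h3,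
      fun y hy hy' => let k := ((H A h1 h2 h3).2 y hy hy').1; ⟨k.le, k.pgroup, k.not_dvd⟩, h4⟩
    obtain ⟨d, k1, k2, k3⟩ := (H A h1 h2 h3).1
    exact ⟨h, h.exists_gd k1 k2 k3⟩
  obtain ⟨h, d, hd⟩ := mk T aT ZT c16 hS₁
  obtain ⟨R, r, sq | ⟨i, hi, iv, ns⟩⟩ := h.exists_gr hd
    (not_le_of_not_syl h.twoT (fun k => hT ⟨k.le, k.isPGroup, k.not_dvd⟩) hS₁)
  · by_cases hS : SylowIn 2 S₁ ⊤
    · have aR : IsElementaryAbelian 2 R :=
        ⟨abelianP.2 r.comm, fun x hx => by rw [pow_two, sq x hx]⟩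
      obtain ⟨h', d', hd'⟩ := mk R aR r.ZR r.c16 (hS.mono r.nR le_top)
      exact h.caseA1 r h' hS hd hd' fun y hy hy' => hy.elim
        (fun hy => ((H T aT ZT c16).2 y hy hy').2) fun hy => ((H R aR r.ZR r.c16).2 y hy hy').2
    · exact h.caseA2 r sq hG hS hd.nz hd.nc
  · exact h.caseB r hi iv ns hG

end Cfsg.Agent.SC
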