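import Cfsg.Agent.Lib.SC.QZ

/-! Piece (g) of row Q: the structure of a Sylow 2-subgroup of `N(T)`. -/

set_option autoImplicit false
set_option linter.unusedSectionVars false

namespace Cfsg.Agent.SC

open Subgroup Cfsg.Agent.FT Cfsg.Agent.SF.GP
open Cfsg.Agent.Tr (SylowIn)

variable {G : Type*} [Group G] [Finite G]

theorem not_le_of_not_syl {P P₁ : Subgroup G} (hP : IsPGroup 2 P) (hS : ¬ SylowIn 2 P ⊤)
    (h1 : SylowIn 2 P₁ 𝐍(P)) : ¬ P₁ ≤ P := fun e => by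
  obtain ⟨S, hS1, hS2⟩ := Tr.exists_sylowIn_ge hP le_top
  obtain ⟨x, hx, h2, h3⟩ := Tr.exists_mem_normalizer_not_mem hS1.isPGroup
    (lt_of_le_of_ne hS2 fun e => hS (e ▸ hS1))
  exact h3 ((h1.eq_of_le hP e le_normalizer ▸ h1 : SylowIn 2 P 𝐍(P)).le_of_le_normalizer'
    (pgroup_mem hS1.isPGroup hx) (zpowers_le.2 h2) (zpowers_le.2 h2) (mem_zpowers x))

theorem mem_of_sq_odd {S K : Subgroup G} (hS : SylowIn 2 S ⊤) {e : G} (he : e ∈ 𝐍(S))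
    (hK : S ≤ K) (h2 : e * e ∈ K) : e ∈ K := by
  obtain ⟨j, hj⟩ : Odd (S.relIndex 𝐍(S)) :=
    Nat.odd_iff.2 (Nat.two_dvd_ne_zero.1 (hS.mono le_normalizer le_top).not_dvd)
  have h3 : e ^ (2 * j + 1) ∈ S := hj ▸ (S.subgroupOf 𝐍(S)).pow_index_mem ⟨e, he⟩
  have h4 := hK h3
  rwa [pow_succ, pow_mul, mul_mem_cancel_left (pow_mem (by rwa [sq]) j)] at h4

theorem ZC.ex2 {F : Set G} {Z T : Subgroup G} (h : ZC F Z) (hT : #|T| = 16) {x : G}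
    (hx : x ∈ 𝐍(Z)) (h2 : x * x ∈ Z) : ∃ y ∈ T, y ∉ Z ∧ y * x⁻¹ ∉ Z := by
  by_contra hc
  have h1 : T ≤ Z ⊔ zpowers x := fun y hy => (mem_sup2 hx h2).2 (by
    by_contra hn
    exact hc ⟨y, hy, not_or.1 hn⟩)
  have h3 := card_le_of_le h1
  by_cases hx' : x ∈ Z
  · rw [sup_eq_left.2 (zpowers_le.2 hx'), h.card] at h3; omega
  · rw [card_sup2 hx h2 hx', h.card] at h3; omega

structure GT (F : Set G) (Z T S : Subgroup G) : Prop extends ZC F Z where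
  sqT : ∀ x ∈ T, x * x = 1
  ZT : Z ≤ T
  c16 : #|T| = 16
  mx : ∀ y ∈ T, y ∉ Z → SylowIn 2 T 𝐂[y]
  syl : SylowIn 2 S 𝐍(T)

structure Gd (Z T S : Subgroup G) (d : G) : Prop where
  nz : d ∈ 𝐍(Z)
  nc : d ∉ 𝐂(Z)
  odd : Odd (orderOf d)
  nS : d ∈ 𝐍(S)
  cm : ∀ y ∈ T, d * y * d⁻¹ * y⁻¹ ∈ Z

theorem Gd.inv {Z T S : Subgroup G} {d : G} (h : Gd Z T S d) : Gd Z T S d⁻¹ :=
  ⟨inv_mem h.nz, fun e => h.nc (inv_mem_iff.1 e), by rw [orderOf_inv]; exact h.odd, inv_mem h.nS,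
    (inv_mem (show d ∈ SF.GP.cmod Z T from ⟨h.nz, h.cm⟩)).2⟩

structure GR (Z T S R : Subgroup G) : Prop where
  RS : R ≤ S
  nR : S ≤ 𝐍(R)
  ZR : Z ≤ R
  RT : ∀ x ∈ R, x ∈ T → x ∈ Z
  dec : ∀ s ∈ S, ∃ r ∈ R, ∃ y ∈ T, s = r * y
  comm : ∀ x ∈ R, ∀ y ∈ R, x * y = y * x
  c16 : #|R| = 16
  i4 : T.relIndex S = 4

namespace GT

variable {F : Set G} {Z T S : Subgroup G} (h : GT F Z T S)
include h

theorem twoT : IsPGroup 2 T := IsPGroup.of_card (n := 4) h.c16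
theorem twoS : IsPGroup 2 S := h.syl.isPGroup
theorem TS : T ≤ S := h.syl.le_of_le_normalizer h.twoT le_normalizer h.syl.le
theorem ZS : Z ≤ S := h.ZT.trans h.TS
theorem cZ : S ≤ 𝐂(Z) := h.cen S h.twoS h.ZS
theorem nZ : S ≤ 𝐍(Z) := h.le_norm h.twoS h.ZS
theorem NZ : 𝐍(T) ≤ 𝐍(Z) := h.norm_le h.twoT h.ZT
theorem zc {z s : G} (hz : z ∈ Z) (hs : s ∈ S) : z * s = s * z :=
  mem_centralizer_iff.1 (h.cZ hs) z hz
theorem cT {x y : G} (hx : x ∈ T) (hy : y ∈ T) : x * y = y * x := comm_of_sq h.sqT hx hy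
theorem invT {x : G} (hx : x ∈ T) : x⁻¹ = x := Tr.inv_eq_of_mul_self (h.sqT x hx)
theorem ex1 : ∃ y ∈ T, y ∉ Z :=
  let ⟨y, h1, h2, _⟩ := h.ex2 h.c16 (one_mem _) (by simp); ⟨y, h1, h2⟩

theorem cen_eq {P : Subgroup G} (hP : IsPGroup 2 P) (hT : T ≤ P) {y : G} (hy : y ∈ T)
    (hy' : y ∉ Z) : P ⊓ 𝐂[y] = T :=
  (h.mx y hy hy').eq_of_le (pgroup_sub inf_le_left hP) (le_inf hT (h.mx y hy hy').le) inf_le_right

theorem c1 {s y : G} (hs : s ∈ S) (hy : y ∈ T) (hy' : y ∉ Z) (hc : s * y = y * s) : s ∈ T :=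
  (h.cen_eq h.twoS h.TS hy hy').le ⟨hs, mem_centralizer_singleton_iff.2 hc⟩

theorem c1' {s y : G} (hs : s ∈ S) (hs' : s ∉ T) (hy : y ∈ T) (hc : s * y = y * s) : y ∈ Z :=
  by_contra fun hy' => hs' (h.c1 hs hy hy' hc)

theorem phi2 {s y : G} (hs : s ∈ S) (hy : y ∈ T) :
    s * (s * y * s⁻¹ * y⁻¹) * s⁻¹ * (s * y * s⁻¹ * y⁻¹)⁻¹ = s * s * y * (s * s)⁻¹ * y⁻¹ := by
  have h1 := inv_mem ((memJ_norm (h.syl.le hs)).2 hy)
  calc _ = s * s * y * (s * s)⁻¹ * ((s * y * s⁻¹)⁻¹ * y * (s * y * s⁻¹)⁻¹) := by group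
    _ = _ := by rw [h.cT h1 hy, mul_assoc y, h.sqT _ h1, mul_one, h.invT hy]

theorem sq_mem {s : G} (hs : s ∈ S) : s * s ∈ T := by
  have key : ∀ s ∈ S, (∀ y ∈ T, y ∉ Z → s * y * s⁻¹ * y⁻¹ ∉ Z) →
      ∀ y ∈ T, y ∉ Z → s * s * y * (s * s)⁻¹ * y⁻¹ ∉ Z := fun s hs H y hy hy' => by
    rw [← h.phi2 hs hy]
    exact H _ (mul_mem ((memJ_norm (h.syl.le hs)).2 hy) (inv_mem hy)) (H y hy hy')
  by_cases H : ∀ y ∈ T, y ∉ Z → s * y * s⁻¹ * y⁻¹ ∉ Z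
  · obtain ⟨k, hk⟩ := Tr.isPGroup_iff_forall_mem.1 h.twoS s hs
    have : ∀ k : ℕ, ∀ y ∈ T, y ∉ Z → s ^ 2 ^ k * y * (s ^ 2 ^ k)⁻¹ * y⁻¹ ∉ Z := fun k => by
      induction k with
      | zero => simpa only [pow_zero, pow_one] using H
      | succ k ih =>
        rw [pow_succ, pow_mul, sq]
        exact key _ (pow_mem hs _) ih
    obtain ⟨y, hy, hy'⟩ := h.ex1
    exact absurd (by rw [hk]; simp) (this k y hy hy')
  · push Not at H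
    obtain ⟨y, hy, hy', h1⟩ := H
    refine h.c1 (mul_mem hs hs) hy hy' ?_
    rw [← mul_inv_eq_iff_eq_mul, ← mul_inv_eq_one, ← h.phi2 hs hy, ← h.zc h1 hs]
    group

theorem c2 {s y : G} (hs : s ∈ S) (hy : y ∈ T) : s * y * s⁻¹ * y⁻¹ ∈ Z := by
  by_cases hs' : s ∈ T
  · rw [h.cT hs' hy]; simp
  refine h.c1' hs hs' (mul_mem ((memJ_norm (h.syl.le hs)).2 hy) (inv_mem hy)) ?_
  rw [← mul_inv_eq_iff_eq_mul, ← mul_inv_eq_one, h.phi2 hs hy, h.cT (h.sq_mem hs) hy]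
  group

theorem c3 {s : G} (hs : s ∈ S) : s * s ∈ Z := by
  by_cases hs' : s ∈ T
  · rw [h.sqT s hs']; exact one_mem Z
  · exact h.c1' hs hs' (h.sq_mem hs) (mul_assoc s s s).symm

theorem fr {n : G} (hn : n ∈ 𝐍(T)) : ∃ k ∈ SF.GP.cmod Z T, k ∈ 𝐂(Z) ∧ ∃ e ∈ 𝐍(S), n = k * e := by
  obtain ⟨k, hk, e, he, h1⟩ := (h.syl.mono (K := 𝐍(T) ⊓ (SF.GP.cmod Z T ⊓ 𝐂(Z)))
    (le_inf h.syl.le (le_inf (fun s hs => ⟨h.nZ hs, fun y hy => h.c2 hs hy⟩) h.cZ))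
    inf_le_left).frattini (normsI le_normalizer (normsI (norms_of_conj_mem fun n hn k hk => SF.GP.mem_cmod.2 ⟨
      mul_mem (mul_mem (h.NZ hn) hk.1) (inv_mem (h.NZ hn)), fun y hy => by
        have := (memJ_norm (h.NZ hn)).2 (hk.2 _ ((memJ_norm (inv_mem hn)).2 hy))
        convert this using 1; group⟩) (h.NZ.trans (cent_norm Z))) hn)
  exact ⟨k, hk.2.1, hk.2.2, e, he, h1⟩

theorem nT {d : G} (hd : ∀ y ∈ T, d * y * d⁻¹ * y⁻¹ ∈ Z) : d ∈ 𝐍(T) :=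
  Tr.mem_normalizer_of_forall fun y hy => (mul_mem_cancel_right (inv_mem hy)).1 (h.ZT (hd y hy))

theorem exists_gd {d : G} (hn : d ∈ 𝐍(Z)) (hc : d ∉ 𝐂(Z)) (hT : (T ⊓ 𝐂[d]) ⊔ Z = T) :
    ∃ d, Gd Z T S d := by
  have h1 : ∀ y ∈ T, d * y * d⁻¹ * y⁻¹ ∈ Z := fun y hy => by
    obtain ⟨c, hc, z, hz, rfl⟩ := (Tr.mem_sup_of_le_normalizer
      (inf_le_left.trans (le_normalizer.trans h.NZ))).1 (hT.ge hy)
    have := (memJ_norm (h.nZ (h.TS hc.1))).2 (mul_mem ((memJ_norm hn).2 hz) (inv_mem hz))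
    rw [← mul_assoc, ← mul_assoc, ← mul_assoc, mem_centralizer_singleton_iff.1 hc.2] at this
    convert this using 1; group
  obtain ⟨k, hk, kc, e, he, rfl⟩ := h.fr (h.nT h1)
  have h2 : e ∈ SF.GP.cmod Z T := (mul_mem_cancel_left hk).1 ⟨hn, h1⟩
  obtain ⟨v, hv, vo, vc⟩ := h.odd_part h2.1 fun e => hc (mul_mem kc e)
  exact ⟨v, (zpowers_le.2 h2 hv).1, vc, vo, zpowers_le.2 he hv, (zpowers_le.2 h2 hv).2⟩

theorem fpf6 {d s : G} (hd : Gd Z T S d) (hs : s ∈ S) (hf : d * s * d⁻¹ * s⁻¹ ∈ T) : s ∈ T := by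
  obtain ⟨y, hy, hy'⟩ := h.ex1
  refine h.c1 hs hy hy' ?_
  rw [← mul_inv_eq_iff_eq_mul, ← mul_inv_eq_one]
  refine h.fpf hd.nz hd.nc _ (h.c2 hs hy) ?_
  have h1 := hd.cm y hy
  have h2 := h.cT hf ((memJ_norm (h.syl.le hs)).2 ((memJ_norm (h.nT hd.cm)).2 hy))
  have h3 := h.zc h1 hs
  have h4 := h.comm h1 (h.c2 hs hy)
  generalize ht : d * s * d⁻¹ * s⁻¹ = t at h2
  generalize hz : d * y * d⁻¹ * y⁻¹ = z at h3 h4
  calc d * (s * y * s⁻¹ * y⁻¹) * d⁻¹ = t * (s * (d * y * d⁻¹) * s⁻¹) * t⁻¹ * (d * y * d⁻¹)⁻¹ := by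
        rw [← ht]; group
    _ = s * z * y * s⁻¹ * y⁻¹ * z⁻¹ := by rw [h2, ← hz]; group
    _ = z * (s * y * s⁻¹ * y⁻¹) * z⁻¹ := by rw [← h3]; group
    _ = _ := by rw [h4]; group

theorem idx_eq {y : G} (hy : y ∈ T) (hy' : y ∉ Z) : 𝐂[y].relIndex S = T.relIndex S := by
  rw [← h.cen_eq h.twoS h.TS hy hy', inf_comm, inf_relIndex_right]

theorem exists_gr {d : G} (hd : Gd Z T S d) (h0 : ¬ S ≤ T) : ∃ R, GR Z T S R ∧
    ((∀ x ∈ R, x * x = 1) ∨ ∃ i ∈ T, (∀ r ∈ R, i * r * i⁻¹ = r⁻¹) ∧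
      ∀ r ∈ R, r ∉ Z → r * r ≠ 1) := by
  obtain ⟨y, hy, hy'⟩ := h.ex1
  have dT := h.nT hd.cm
  have i4 := (four_mod h.twoS ⟨h.TS, h.syl.le⟩ h0 (by
    rw [← h.idx_eq hy hy', ← h.card]; exact index_cent1_le fun s hs => h.c2 hs hy) hd.nS dT
    fun s hs => h.fpf6 hd hs).1
  set R := ⁅S, zpowers d⁆
  have RS : R ≤ S := commg_subl.2 (zpowers_le.2 hd.nS)
  have nR : S ≤ 𝐍(R) := commg_norml _ _
  have dR : d ∈ 𝐍(R) := commg_normr _ _ (mem_zpowers d)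
  have ZR : Z ≤ R := fun z hz => by
    obtain ⟨a, ha, rfl⟩ := surj_comm hd.nz (h.fpf hd.nz hd.nc) hz
    have := commutator_mem_commutator (inv_mem (h.ZS ha)) (mem_zpowers d)
    rw [commutatorElement_def, inv_inv] at this
    simpa only [mul_assoc] using this
  have RT : ∀ x ∈ R, x ∈ T → x ∈ Z := fun x hx hx' =>
    ti_mod h.twoS h.nZ hd.nS hd.nz hd.odd (fun _ => h.c3) hx (hd.cm x hx')
  have dec : ∀ s ∈ S, ∃ r ∈ R, ∃ y ∈ T, s = r * y := fun s hs => by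
    obtain ⟨n, hn, c, hc, rfl⟩ := Solv.exists_commutator_mul_centralizer (zpowers_le.2 hd.nS)
      (cop_zp h.twoS hd.odd).symm (Or.inr (pgroup_sol h.twoS)) hs
    exact ⟨n, hn, c, h.fpf6 hd hc.1 (by
      rw [mem_centralizer_iff.1 hc.2 d (mem_zpowers d)]; simp), rfl⟩
  have c16 : #|R| = 16 := by
    have h1 := card_join_norm (h.TS.trans nR)
    have h2 := Tr.card_mul_relIndex h.TS
    rw [show R ⊔ T = S from le_antisymm (sup_le RS h.TS) fun s hs => by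
        obtain ⟨r, hr, y, hy, rfl⟩ := dec s hs
        exact mul_mem (mem_sup_left hr) (mem_sup_right hy),
      show R ⊓ T = Z from le_antisymm (fun x hx => RT x hx.1 hx.2) (le_inf ZR h.ZT), h.card,
      ← h2, i4, h.c16] at h1
    omega
  have fp : ∀ x ∈ R, d * x * d⁻¹ * x⁻¹ ∈ Z → x ∈ Z := fun x hx hf =>
    RT x hx (h.fpf6 hd (RS hx) (h.ZT hf))
  have hZR : ¬ R ≤ Z := fun e => by
    have := card_le_of_le e
    rw [c16, h.card] at this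
    omega
  have cos := (four_mod (pgroup_sub RS h.twoS) ⟨ZR, RS.trans h.nZ⟩ hZR (by
    have := Tr.card_mul_relIndex ZR
    rw [c16, h.card] at this
    omega) dR hd.nz fp).2.2
  have gen : ∀ x ∈ R, x ∉ Z → ∀ K : Subgroup G, Z ≤ K → x ∈ K → d * x * d⁻¹ ∈ K → R ≤ K := by
    intro x hx hx' K h1 h2 h3 y hy
    rcases cos x hx hx' y hy with e | e | e | e
    · exact h1 e
    · exact (mul_mem_cancel_right (inv_mem h2)).1 (h1 e)
    · exact (mul_mem_cancel_right (inv_mem h3)).1 (h1 e)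
    · exact (mul_mem_cancel_right (inv_mem (mul_mem h2 h3))).1 (h1 e)
  obtain ⟨x, hx, hx'⟩ := SetLike.not_le_iff_exists.1 hZR
  have hx1 := (memJ_norm dR).2 hx
  have cmm : ∀ a ∈ R, ∀ b ∈ R, a * b * a⁻¹ * b⁻¹ ∈ Z := fun a ha b hb => by
    have := mul_mem (mul_mem (h.c3 (RS (mul_mem ha hb)))
      ((memJ_norm (h.nZ (inv_mem (RS hb)))).2 (inv_mem (h.c3 (RS ha))))) (inv_mem (h.c3 (RS hb)))
    convert this using 1; group
  have hc : x * (d * x * d⁻¹) = d * x * d⁻¹ * x := by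
    have hx2 := (memJ_norm dR).2 hx1
    have k1 : d * (d * x * d⁻¹) * d⁻¹ * (x * (d * x * d⁻¹))⁻¹ ∈ Z := by
      rcases cos x hx hx' _ hx2 with e | e | e | e
      · exact absurd ((memJ_norm hd.nz).1 ((memJ_norm hd.nz).1 e)) hx'
      · refine absurd (fp x hx ?_) hx'
        have h1 := fp _ (mul_mem hx hx1) (by
          have := mul_mem ((memJ_norm (h.nZ (RS hx1))).2 e) (cmm _ hx1 _ hx)
          convert this using 1; group)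
        have := mul_mem ((memJ_norm (h.nZ (RS (inv_mem hx)))).2 h1) (inv_mem (h.c3 (RS hx)))
        convert this using 1; group
      · exact absurd ((memJ_norm hd.nz).1 (fp _ hx1 e)) hx'
      · exact e
    have k2 := cmm _ hx _ hx1
    rw [← mul_inv_eq_iff_eq_mul, ← mul_inv_eq_one, mul_assoc _ x⁻¹, ← mul_assoc _ x⁻¹]
    refine h.fpf hd.nz hd.nc _ k2 ?_
    have k3 := h.zc k1 (RS hx1)
    generalize hz : d * (d * x * d⁻¹) * d⁻¹ * (x * (d * x * d⁻¹))⁻¹ = z at k1 k3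
    have k4 := h.comm k1 (inv_mem k2)
    have k5 : d * (d * x * d⁻¹) * d⁻¹ = z * (x * (d * x * d⁻¹)) := by rw [← hz]; group
    generalize hu : d * x * d⁻¹ = u at *
    calc _ = d * x * d⁻¹ * (d * u * d⁻¹) * (d * x * d⁻¹)⁻¹ * (d * u * d⁻¹)⁻¹ := by group
      _ = z * (x * u * x⁻¹ * u⁻¹)⁻¹ * z⁻¹ := by rw [hu, k5, ← mul_assoc u, ← k3]; group
      _ = _ := by rw [k4, h.inv k2]; group
  have cz : ∀ a ∈ R, Z ≤ 𝐂[a] := fun a ha z hz =>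
    mem_centralizer_singleton_iff.2 (h.zc hz (RS ha))
  have comm : ∀ a ∈ R, ∀ b ∈ R, a * b = b * a := fun a ha b hb =>
    (mem_centralizer_singleton_iff.1 (gen x hx hx' 𝐂[a] (cz a ha)
      (mem_centralizer_singleton_iff.2 (mem_centralizer_singleton_iff.1 (gen x hx hx' _ (cz x hx)
        (mem_centralizer_singleton_iff.2 rfl) (mem_centralizer_singleton_iff.2 hc.symm) ha)).symm)
      (mem_centralizer_singleton_iff.2 (mem_centralizer_singleton_iff.1 (gen x hx hx' _ (cz _ hx1)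
        (mem_centralizer_singleton_iff.2 hc) (mem_centralizer_singleton_iff.2 rfl) ha)).symm)
      hb)).symm
  refine ⟨R, ⟨RS, nR, ZR, RT, dec, comm, c16, i4⟩, ?_⟩
  have inv : ∀ i : G, (∀ z ∈ Z, i * z = z * i) → ∀ x ∈ R, x ∉ Z → i * x * i⁻¹ = x⁻¹ →
      i * (d * x * d⁻¹) * i⁻¹ = (d * x * d⁻¹)⁻¹ → ∀ r ∈ R, i * r * i⁻¹ = r⁻¹ := by
    intro i hi x hx hx' h1 h2 r hr
    let K : Subgroup G :=
      { carrier := {r | r ∈ R ∧ i * r * i⁻¹ = r⁻¹}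
        mul_mem' := fun {a b} ha hb => ⟨mul_mem ha.1 hb.1, by
          rw [comm a ha.1 b hb.1, mul_inv_rev, ← ha.2, ← hb.2, ← comm a ha.1 b hb.1]; group⟩
        one_mem' := ⟨one_mem _, by simp⟩
        inv_mem' := fun {a} ha => ⟨inv_mem ha.1, by
          rw [← conj_inv, ha.2]⟩ }
    exact (gen x hx hx' K (fun z hz => ⟨ZR hz, by rw [hi z hz, h.inv hz]; group⟩) ⟨hx, h1⟩
      ⟨(memJ_norm dR).2 hx, h2⟩ hr).2
  by_cases hA : ∃ r ∈ R, r ∉ Z ∧ r * r = 1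
  · obtain ⟨r, hr, hr', r2⟩ := hA
    refine Or.inl fun a ha => ?_
    have := inv 1 (by simp) r hr hr' (by simp [Tr.inv_eq_of_mul_self r2])
      (by rw [Tr.inv_eq_of_mul_self (Tr.conj_mul_self r2 d)]; simp) a ha
    rw [← eq_inv_iff_mul_eq_one, ← this]; simp
  · have h1 : 𝐂[x].relIndex T = 4 := by
      have := Tr.card_inf_mul_relIndex 𝐂[x] T
      rw [show 𝐂[x] ⊓ T = Z from le_antisymm (fun y hy => h.c1' (RS hx) (fun e => hx' (RT x hx e))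
        hy.2 (mem_centralizer_singleton_iff.1 hy.1).symm) (le_inf (cz x hx) h.ZT), h.card,
        h.c16] at this
      omega
    obtain ⟨i, hi, e⟩ := class_surj (x := x) (A := T) (K := Z) (fun a ha => by
      have := inv_mem (h.c2 (RS hx) ha)
      convert this using 1; group) (by rw [h1, h.card]) (inv_mem (h.c3 (RS hx)))
    have e1 : i * x * i⁻¹ = x⁻¹ := by rw [e]; group
    refine Or.inr ⟨i, hi, inv i (fun z hz => (h.zc hz (h.TS hi)).symm) x hx hx' e1 ?_,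
      fun r hr hr' r2 => hA ⟨r, hr, hr', r2⟩⟩
    have h2 := h.zc (hd.cm i hi) (RS (inv_mem hx1))
    generalize hz : d * i * d⁻¹ * i⁻¹ = z at h2
    calc i * (d * x * d⁻¹) * i⁻¹ = z⁻¹ * (d * (i * x * i⁻¹) * d⁻¹) * z := by rw [← hz]; group
      _ = z⁻¹ * ((d * x * d⁻¹)⁻¹ * z) := by rw [e1]; group
      _ = _ := by rw [← h2]; group

end GT

end Cfsg.Agent.SC
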