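import Cfsg.Agent.Lib.SC.QG1

/-! Piece (g) of row Q: the cases `R = ℤ₄²` and `R = 2⁴` with `S₁` not Sylow. -/

set_option autoImplicit false
set_option linter.unusedSectionVars false

namespace Cfsg.Agent.SC

open Subgroup Cfsg.Agent.FT Cfsg.Agent.SF.GP
open Cfsg.Agent.Tr (SylowIn)

variable {G : Type*} [Group G] [Finite G]

theorem ZC.ex3 {F : Set G} {Z T : Subgroup G} (h : ZC F Z) (hT : #|T| = 16) (hn : T ≤ 𝐍(Z))
    (h2 : ∀ x ∈ T, x * x ∈ Z) : ∃ x ∈ T, ∃ y ∈ T, x ∉ Z ∧ y ∉ Z ∧ x * y ∉ Z := by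
  obtain ⟨y, hy, hy', -⟩ := h.ex2 hT (one_mem _) (by simp)
  obtain ⟨x, hx, hx', h3⟩ := h.ex2 hT (hn (inv_mem hy)) (h2 _ (inv_mem hy))
  exact ⟨x, hx, y, hy, hx', hy', by rwa [inv_inv] at h3⟩

namespace GT

variable {F : Set G} {Z T S R : Subgroup G} (h : GT F Z T S) (r : GR Z T S R)
include h

theorem mem_of_norm {P : Subgroup G} (hP : IsPGroup 2 P) (hS : S ≤ P) {g : G} (hg : g ∈ P)
    (hn : g ∈ 𝐍(T)) : g ∈ S :=
  (h.syl.eq_of_le (pgroup_sub inf_le_left hP) (le_inf hS h.syl.le) inf_le_right).le ⟨hg, hn⟩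

theorem conj_T {A : Subgroup G} {S' : Subgroup G} (h' : GT F Z A S') {g y : G} (hy : y ∈ T)
    (hy' : y ∉ Z) (hx : g * y * g⁻¹ ∈ A) (hx' : g * y * g⁻¹ ∉ Z) :
    ∃ n, cj n T = A ∧ n * y * n⁻¹ = g * y * g⁻¹ := by
  have h1 := (h.mx y hy hy').cj g
  rw [← cent1J] at h1
  obtain ⟨c, hc, e⟩ := (h'.mx _ hx hx').exists_cj_eq h1
  refine ⟨c * g, by rw [Tr.cj_mul, e], ?_⟩
  rw [show c * g * y * (c * g)⁻¹ = c * (g * y * g⁻¹) * c⁻¹ by group,
    mem_centralizer_singleton_iff.1 hc, mul_inv_cancel_right]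

include r

theorem c64 : #|S| = 64 := by rw [← Tr.card_mul_relIndex h.TS, h.c16, r.i4]

section B

variable {i : G} (hi : i ∈ T) (iv : ∀ x ∈ R, i * x * i⁻¹ = x⁻¹) (ns : ∀ x ∈ R, x ∉ Z → x * x ≠ 1)
include hi iv ns

theorem iR : i ∉ R := fun e => by
  obtain ⟨x, hx, y, -, hx', -⟩ := h.ex3 r.c16 (r.RS.trans h.nZ) fun x hx => h.c3 (r.RS hx)
  refine ns x hx hx' ?_
  rw [← eq_inv_iff_mul_eq_one, ← iv x hx, r.comm i e x hx, mul_inv_cancel_right]

theorem invB {x : G} (hx : x ∈ S) (xx : x * x = 1) (hx' : x ∉ T) : x * i⁻¹ ∈ R := by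
  obtain ⟨a, ha, y, hy, rfl⟩ := r.dec x hx
  have h1 : a ∉ T := fun e => hx' (mul_mem e hy)
  have h2 : y * a * y⁻¹ = a⁻¹ := by
    rw [h.invT hy, eq_inv_iff_mul_eq_one, ← Tr.conj_mul_self xx y, h.invT hy]
    simp only [mul_assoc, h.sqT y hy, mul_one]
  have h3 := h.c1' (r.RS ha) h1 (mul_mem (inv_mem hi) hy) (by
    calc a * (i⁻¹ * y) = i⁻¹ * (i * a * i⁻¹) * y := by group
      _ = _ := by rw [iv a ha, ← h2]; group)
  rw [mul_assoc, h.cT hy (inv_mem hi)]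
  exact mul_mem ha (r.ZR h3)

theorem invB2 {x y : G} (hx : x * i⁻¹ ∈ R) (hy : y * i⁻¹ ∈ R) : x * y ∈ R := by
  have := mul_mem hx ((memJ_norm (r.nR (h.TS hi))).2 hy)
  rwa [show x * i⁻¹ * (i * (y * i⁻¹) * i⁻¹) = x * y * (i * i)⁻¹ by group, h.sqT i hi, inv_one,
    mul_one] at this

theorem uniqB {g : G} (hg : g ∈ 𝐍(S)) : g ∈ 𝐍(T) := by
  refine Tr.mem_normalizer_of_forall fun y hy => by_contra fun hn => ?_
  have gZ := h.norm_le h.twoS h.ZS hg
  have key : ∀ x ∈ T, x ∉ Z → g * x * g⁻¹ * i⁻¹ ∈ R := fun x hx hx' =>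
    h.invB r hi iv ns ((memJ_norm hg).2 (h.TS hx)) (Tr.conj_mul_self (h.sqT x hx) g) fun e =>
      hx' ((memJ_norm gZ).1 (h.c1' ((memJ_norm hg).2 (h.TS hy)) hn e
        (Tr.commute_conj_iff.2 (h.cT hy hx))))
  obtain ⟨a, ha, b, hb, ha', hb', hab⟩ := h.ex3 h.c16 (h.TS.trans h.nZ) fun x hx => h.c3 (h.TS hx)
  have h1 := h.invB2 r hi iv ns (key a ha ha') (key b hb hb')
  have h2 := key _ (mul_mem ha hb) hab
  rw [show g * (a * b) * g⁻¹ = g * a * g⁻¹ * (g * b * g⁻¹) by group, mul_mem_cancel_left h1,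
    inv_mem_iff] at h2
  exact h.iR r hi iv ns h2

theorem caseB (hG : ∀ H : Subgroup G, H.index ≠ 2) : False := by
  have iR := h.iR r hi iv ns
  have ii := h.sqT i hi
  have hS : SylowIn 2 S ⊤ := by
    by_contra hS
    obtain ⟨P, h1, h2⟩ := Tr.exists_sylowIn_ge h.twoS (le_normalizer (H := S))
    exact not_le_of_not_syl h.twoS hS h1 fun g hg =>
      h.mem_of_norm h1.isPGroup h2 hg (h.uniqB r hi iv ns (h1.le hg))
  obtain ⟨y, hy, hy', hyi⟩ := h.ex2 h.c16 (h.nZ (h.TS hi)) (ii ▸ one_mem Z)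
  have h3 := mul_mem hy (inv_mem hi)
  have h4 : y * i⁻¹ * (y * i⁻¹) ∈ R := h.sqT _ h3 ▸ one_mem R
  obtain ⟨g, hg, hgS⟩ := Tr.thompson_transfer hG hS (M := R ⊔ zpowers (y * i⁻¹)) (by
    have := Tr.card_mul_relIndex (sup_le r.RS (zpowers_le.2 (h.TS h3)))
    rw [card_sup2 (r.nR (h.TS h3)) h4 fun e => hyi (r.RT _ e h3), r.c16, h.c64 r] at this
    omega) (u := y) (by rw [sq, h.sqT y hy])
  have x2 := Tr.conj_mul_self (h.sqT y hy) g
  have xZ : g * y * g⁻¹ ∉ Z := h.not_mem (pgroup_invol (h.sqT y hy)) (h.nZ (h.TS hy)) hy'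
  have h5 := ((mem_sup2 (r.nR (h.TS h3)) h4).1 hg).resolve_left fun e => ns _ e xZ x2
  have xT : g * y * g⁻¹ ∈ T := by
    by_contra hn
    have := mul_mem (inv_mem h5) (h.invB r hi iv ns hgS x2 hn)
    rw [show (g * y * g⁻¹ * (y * i⁻¹)⁻¹)⁻¹ * (g * y * g⁻¹ * i⁻¹) = y * (i * i)⁻¹ by group, ii,
      inv_one, mul_one] at this
    exact hy' (r.RT y this hy)
  have h6 := r.RT _ h5 (mul_mem xT (inv_mem h3))
  obtain ⟨n, hn, e0⟩ := h.conj_T h hy hy' xT xZ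
  obtain ⟨k, hk, -, e, he, rfl⟩ := h.fr (Tr.cj_eq_iff.1 hn)
  have eT := h.uniqB r hi iv ns he
  have eZ := h.NZ eT
  have h7 : e * y * e⁻¹ * (y * i⁻¹)⁻¹ ∈ Z := by
    rw [← e0] at h6
    have := mul_mem (inv_mem (hk.2 _ ((memJ_norm eT).2 hy))) h6
    convert this using 1; group
  have h8 : e * i * e⁻¹ * i⁻¹ ∈ Z := by
    obtain ⟨a, ha, b, hb, ha', hb', hab⟩ := h.ex3 r.c16 (r.RS.trans h.nZ)
      fun x hx => h.c3 (r.RS hx)
    have key : ∀ x ∈ R, x ∉ Z → e * (x * i) * e⁻¹ * i⁻¹ ∈ R := fun x hx hx' =>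
      h.invB r hi iv ns ((memJ_norm he).2 (mul_mem (r.RS hx) (h.TS hi))) (Tr.conj_mul_self (by
        calc x * i * (x * i) = x * (i * x * i⁻¹) * (i * i) := by group
          _ = 1 := by rw [iv x hx, ii]; group) e) fun e1 =>
        hx' (r.RT x hx ((mul_mem_cancel_right hi).1 ((memJ_norm eT).1 e1)))
    have h9 := mul_mem (h.invB2 r hi iv ns (key a ha ha') (key b hb hb')) (key _ (mul_mem ha hb) hab)
    have e2 : a * i * (b * i) * (a * b * i) = a * a * i := by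
      calc _ = a * (i * b * i⁻¹) * (i * i) * (a * b) * i := by group
        _ = _ := by rw [iv b hb, ii, r.comm a ha b hb]; group
    rw [show e * (a * i) * e⁻¹ * (e * (b * i) * e⁻¹) * (e * (a * b * i) * e⁻¹ * i⁻¹) =
      e * (a * i * (b * i) * (a * b * i)) * e⁻¹ * i⁻¹ by group, e2,
      show e * (a * a * i) * e⁻¹ * i⁻¹ = e * (a * a) * e⁻¹ * (e * i * e⁻¹ * i⁻¹) by group,
      mul_mem_cancel_left (r.ZR ((memJ_norm eZ).2 (h.c3 (r.RS ha))))] at h9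
    exact r.RT _ h9 (mul_mem ((memJ_norm eT).2 hi) (inv_mem hi))
  have h9 : e ∈ SF.GP.cmod Z {y} := mem_of_sq_odd hS he
    (fun s hs => ⟨h.nZ hs, by rintro _ rfl; exact h.c2 hs hy⟩) ⟨mul_mem eZ eZ, by
      rintro y rfl
      have := mul_mem (mul_mem ((memJ_norm eZ).2 h7) h7)
        ((memJ_norm (h.nZ (h.TS hy))).2 (inv_mem h8))
      rw [show e * (e * y * e⁻¹ * (y * i⁻¹)⁻¹) * e⁻¹ * (e * y * e⁻¹ * (y * i⁻¹)⁻¹) *
        (y * (e * i * e⁻¹ * i⁻¹)⁻¹ * y⁻¹) =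
        e * e * y * e⁻¹ * i * e⁻¹ * (i * i) * e * i⁻¹ * e⁻¹ * y⁻¹ by group, ii] at this
      convert this using 1; group⟩
  have := mul_mem (inv_mem (h9.2 y rfl)) h7
  rw [show (e * y * e⁻¹ * y⁻¹)⁻¹ * (e * y * e⁻¹ * (y * i⁻¹)⁻¹) = y * i * y⁻¹ by group,
    memJ_norm (h.nZ (h.TS hy))] at this
  exact iR (r.ZR this)

end B

section A

variable (sq : ∀ x ∈ R, x * x = 1)
include sq

theorem invA {x : G} (hx : x ∈ S) (xx : x * x = 1) : x ∈ T ∨ x ∈ R := by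
  obtain ⟨a, ha, y, hy, rfl⟩ := r.dec x hx
  by_cases h1 : a ∈ T
  · exact Or.inl (mul_mem h1 hy)
  refine Or.inr (mul_mem ha (r.ZR (h.c1' (r.RS ha) h1 hy ?_)))
  rw [← Tr.inv_eq_of_mul_self xx, mul_inv_rev, h.invT hy, Tr.inv_eq_of_mul_self (sq a ha)]

theorem TneR : T ≠ R := fun e => by
  obtain ⟨y, hy, hy'⟩ := h.ex1
  exact hy' (r.RT y (e ▸ hy) hy)

theorem sub2 {E : Subgroup G} (hE : E ≤ S) (e2 : ∀ x ∈ E, x * x = 1) (h16 : #|E| = 16) :
    E = T ∨ E = R := by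
  by_cases h1 : E ≤ T
  · exact Or.inl (eq_of_le_of_card_ge h1 (by rw [h16, h.c16]))
  refine Or.inr (eq_of_le_of_card_ge (fun b hb => by_contra fun hn => ?_) (by rw [h16, r.c16]))
  obtain ⟨a, ha, ha'⟩ := SetLike.not_le_iff_exists.1 h1
  have h2 := (h.invA r sq (hE ha) (e2 a ha)).resolve_left ha'
  have h3 := (h.invA r sq (hE hb) (e2 b hb)).resolve_right hn
  rcases h.invA r sq (hE (mul_mem ha hb)) (e2 _ (mul_mem ha hb)) with e | e
  · exact ha' ((mul_mem_cancel_right h3).1 e)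
  · exact hn ((mul_mem_cancel_left h2).1 e)

omit h r sq in
theorem sq_cj {A : Subgroup G} (hA : ∀ x ∈ A, x * x = 1) (g : G) : ∀ x ∈ cj g A, x * x = 1 := by
  rintro _ ⟨x, hx, rfl⟩
  exact Tr.conj_mul_self (hA x hx) g

theorem swap {g : G} (hg : g ∈ 𝐍(S)) (hn : g ∉ 𝐍(T)) : cj g T = R ∧ cj g R = T := by
  have hc : ∀ A ≤ S, cj g A ≤ S := fun A hA =>
    (Tr.cj_mono g hA).trans (Tr.cj_eq_iff.2 hg).le
  have h1 := (h.sub2 r sq (hc T h.TS) (sq_cj h.sqT g) (by rw [Tr.card_cj, h.c16])).resolve_left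
    fun e => hn (Tr.cj_eq_iff.1 e)
  exact ⟨h1, (h.sub2 r sq (hc R r.RS) (sq_cj sq g) (by rw [Tr.card_cj, r.c16])).resolve_right
    fun e => h.TneR r sq (Tr.cj_inj.1 (h1.trans e.symm))⟩

theorem caseA2 (hG : ∀ H : Subgroup G, H.index ≠ 2) (hS : ¬ SylowIn 2 S ⊤) {d : G}
    (dN : d ∈ 𝐍(Z)) (dC : d ∉ 𝐂(Z)) : False := by
  obtain ⟨P, h1, SP⟩ := Tr.exists_sylowIn_ge h.twoS (le_normalizer (H := S))
  have P2 := h1.isPGroup
  have cP := h.cen P P2 (h.ZS.trans SP)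
  have sw : ∀ x ∈ P, x ∉ S → (∀ y ∈ T, x * y * x⁻¹ ∈ R) ∧ ∀ y ∈ R, x * y * x⁻¹ ∈ T :=
    fun x hx hx' =>
      have := h.swap r sq (h1.le hx) fun e => hx' (h.mem_of_norm P2 SP hx e)
      ⟨Tr.cj_le_iff.1 this.1.le, Tr.cj_le_iff.1 this.2.le⟩
  have mul : ∀ x ∈ P, x ∉ S → ∀ y ∈ P, y ∉ S → x * y ∈ S := fun x hx hx' y hy hy' =>
    h.mem_of_norm P2 SP (mul_mem hx hy) (Tr.mem_normalizer_of_forall fun t ht => by
      have := (sw x hx hx').2 _ ((sw y hy hy').1 t ht)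
      convert this using 1; group)
  have nS : 𝐍(P) ≤ 𝐍(S) := by
    have key : ∀ n ∈ 𝐍(P), ∀ A ≤ S, (∀ x ∈ A, x * x = 1) → #|A| = 16 → ∀ y ∈ A,
        n * y * n⁻¹ ∈ S := fun n hn A hA e2 h16 y hy => by
      by_contra hc
      have hP : ∀ x ∈ A, n * x * n⁻¹ ∈ P := fun x hx => (memJ_norm hn).2 (SP (hA hx))
      have k1 : ∀ x ∈ A, x ∉ Z → n * x * n⁻¹ ∉ S := fun x hx hx' e => by
        have k2 : n * y * n⁻¹ * (n * x * n⁻¹) * (n * y * n⁻¹)⁻¹ = n * x * n⁻¹ := by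
          rw [(Tr.commute_conj_iff.2 (comm_of_sq e2 hy hx)).eq, mul_inv_cancel_right]
        refine hx' ((memJ_norm (h.norm_le P2 (h.ZS.trans SP) hn)).1 ?_)
        rcases h.invA r sq e (Tr.conj_mul_self (e2 x hx) n) with e1 | e1
        · exact r.RT _ (k2 ▸ (sw _ (hP y hy) hc).1 _ e1) e1
        · exact r.RT _ e1 (k2 ▸ (sw _ (hP y hy) hc).2 _ e1)
      obtain ⟨a, ha, b, hb, ha', hb', hab⟩ := h.ex3 h16 (hA.trans h.nZ) fun x hx => h.c3 (hA hx)
      refine k1 _ (mul_mem ha hb) hab ?_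
      have := mul _ (hP a ha) (k1 a ha ha') _ (hP b hb) (k1 b hb hb')
      convert this using 1; group
    refine norms_of_conj_mem fun n hn s hs => ?_
    obtain ⟨a, ha, y, hy, rfl⟩ := r.dec s hs
    have := mul_mem (key n hn R r.RS sq r.c16 a ha) (key n hn T h.TS h.sqT h.c16 y hy)
    convert this using 1; group
  have hP : SylowIn 2 P ⊤ := by
    by_contra hP
    obtain ⟨Q, h2, h3⟩ := Tr.exists_sylowIn_ge P2 (le_normalizer (H := P))
    exact not_le_of_not_syl P2 hP h2 (h1.eq_of_le h2.isPGroup h3 (h2.le.trans nS)).le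
  have invR : ∀ x ∈ R, x⁻¹ = x := fun x hx => Tr.inv_eq_of_mul_self (sq x hx)
  have zP : ∀ z ∈ Z, ∀ x ∈ P, z * x = x * z := fun z hz x hx => mem_centralizer_iff.1 (cP hx) z hz
  obtain ⟨g, hg, hg', gg⟩ : ∃ g ∈ P, g ∉ S ∧ g * g ∈ Z := by
    obtain ⟨g, hg, hg'⟩ := SetLike.not_le_iff_exists.1 (not_le_of_not_syl h.twoS hS h1)
    obtain ⟨a, ha, y, hy, e⟩ := r.dec _ (mul g hg hg' g hg hg')
    refine ⟨a * g, mul_mem (SP (r.RS ha)) hg, fun e => hg' ((mul_mem_cancel_left (r.RS ha)).1 e), ?_⟩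
    have h2 := (sw g hg hg').2 a ha
    have h4 : y⁻¹ * (g * a * g⁻¹) ∈ Z := by
      refine r.RT _ ?_ (mul_mem (inv_mem hy) h2)
      have := mul_mem ((memJ_norm (r.nR (h.TS (inv_mem hy)))).2 ha)
        (inv_mem ((sw g hg hg').1 y hy))
      rw [show y⁻¹ * a * y⁻¹⁻¹ = y⁻¹ * (a * y) by group, ← e,
        show y⁻¹ * (g * g) = y⁻¹ * g * (g * g) * g⁻¹ by group, e] at this
      convert this using 1; group
    have := mul_mem (h.c2 (r.RS ha) h2) h4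
    rw [h.cT (inv_mem hy) h2, h.invT hy, invR a ha] at this
    rw [show a * g * (a * g) = a * g * a * g⁻¹ * (g * g) by group, e]
    convert this using 1; group
  have sqeq : ∀ x ∈ P, x ∉ S → x * x ∈ Z → x * x = g * g := fun x hx hx' xx => by
    obtain ⟨a, ha, y, hy, e⟩ := r.dec _ (mul x hx hx' _ (inv_mem hg) fun e => hg' (inv_mem_iff.1 e))
    have h2 := (sw g hg hg').2 a ha
    have h3 := (sw g hg hg').1 y hy
    have e1 : x * x = a * (y * (g * a * g⁻¹)) * (g * y * g⁻¹) * (g * g) := by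
      rw [mul_inv_eq_iff_eq_mul.1 e]; group
    have h4 : y * (g * a * g⁻¹) ∈ Z := by
      rw [e1, mul_mem_cancel_right gg] at xx
      exact r.RT _ ((mul_mem_cancel_left ha).1 ((mul_mem_cancel_right h3).1 (r.ZR xx)))
        (mul_mem hy h2)
    have h5 : y * (g * a * g⁻¹) = g * y * g⁻¹ * a := by
      calc _ = g * (y * (g * a * g⁻¹)) * g⁻¹ := by rw [← zP _ h4 g hg]; group
        _ = g * y * g⁻¹ * (g * g * a) * (g * g)⁻¹ := by group
        _ = _ := by rw [zP _ gg a (SP (r.RS ha))]; group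
    rw [e1, h5, ← mul_assoc a, mul_assoc (a * _), sq _ (mul_mem ha h3), one_mul]
  have g2 : g * g = 1 := by
    obtain ⟨k, hk, n, hn, rfl⟩ := (hP.mono cP le_top).frattini (cent_norm Z dN)
    have nZ := h.norm_le P2 (h.ZS.trans SP) hn
    refine h.fpf nZ (fun e => dC (mul_mem hk e)) _ gg ?_
    have e : n * g * n⁻¹ * (n * g * n⁻¹) = n * (g * g) * n⁻¹ := by group
    rw [← e]
    exact sqeq _ ((memJ_norm hn).2 hg) (fun e => hg' ((memJ_norm (nS hn)).1 e))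
      (e ▸ (memJ_norm nZ).2 gg)
  have gi := Tr.inv_eq_of_mul_self g2
  obtain ⟨k, hk⟩ : ∃ k, k * g * k⁻¹ ∈ T := by
    obtain ⟨k, hk, -⟩ := Tr.thompson_transfer hG hP (M := S) (by
      rw [← relIndex_sup2 (h1.le hg) (h.ZS gg) hg']
      congr 1
      refine le_antisymm (fun x hx => (mem_sup2 (h1.le hg) (h.ZS gg)).2 ?_)
        (sup_le SP (zpowers_le.2 hg))
      rw [gi]
      exact or_iff_not_imp_left.2 fun hx' => mul x hx hx' g hg hg') (u := g) (by rw [pow_two, g2])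
    rcases h.invA r sq hk (Tr.conj_mul_self g2 k) with e | e
    · exact ⟨k, e⟩
    · exact ⟨g * k, by
        have := (sw g hg hg').2 _ e
        convert this using 1; group⟩
  obtain ⟨n, -, nZ, e⟩ := h.control1 le_top (mem_top k) (cP hg) (h.cZ (h.TS hk))
  rw [← e] at hk
  have wZ : n * g * n⁻¹ ∉ Z := fun e => hg' (h.ZS ((memJ_norm nZ).1 e))
  have wN := h.nZ (h.TS hk)
  have ww : n * g * n⁻¹ * (n * g * n⁻¹) ∈ Z := h.sqT _ hk ▸ one_mem Z
  generalize hw : n * g * n⁻¹ = w at hk wZ wN ww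
  have nB : ∀ x ∈ 𝐍(Z), x * w * x⁻¹ * w⁻¹ ∈ Z → x ∈ 𝐍(Z ⊔ zpowers w) := fun x hx e =>
    Tr.mem_normalizer_of_forall fun b hb => (mem_sup2 wN ww).2 (((mem_sup2 wN ww).1 hb).imp
      (memJ_norm hx).2 fun e1 => by
        have := mul_mem ((memJ_norm hx).2 e1) e
        convert this using 1; group)
  have BZ : 𝐍(Z ⊔ zpowers w) ≤ 𝐍(Z) :=
    h.norm_le (pgroup_sub (sup_le h.ZT (zpowers_le.2 hk)) h.twoT) le_sup_left
  have sB : SylowIn 2 S 𝐍(Z ⊔ zpowers w) := by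
    refine Tr.sylowIn_of_maximal h.twoS (fun s hs => nB s (h.nZ hs) (h.c2 hs hk))
      fun Q hQ h2 h3 => le_antisymm (fun x hx => ?_) h2
    obtain ⟨a, ha, e1⟩ := class_surj (fun a ha => h.c2 ha hk) (by rw [h.idx_eq hk wZ, r.i4, h.card])
      (((mem_sup2 wN ww).1 ((memJ_norm (h3 hx)).2 (mem_sup_elt Z w))).resolve_left
        fun e => wZ ((memJ_norm (BZ (h3 hx))).1 e))
    refine (mul_mem_cancel_left (inv_mem ha)).1 (h.TS ((h.cen_eq hQ (h.TS.trans h2) hk wZ).le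
      (mem_inf.2 ⟨mul_mem (inv_mem (h2 ha)) hx, mem_centralizer_singleton_iff.2 ?_⟩)))
    calc a⁻¹ * x * w = a⁻¹ * (x * w * x⁻¹ * w⁻¹ * w) * x := by group
      _ = _ := by rw [← e1]; group
  obtain ⟨c, hc, h2⟩ := sB.exists_cj_le (Q := cj n P ⊓ 𝐍(Z ⊔ zpowers w))
    (pgroup_sub inf_le_left (Tr.isPGroup_cj n P2)) inf_le_right
  have gg' : ∀ x, g * (g * x) = x := fun x => by rw [← mul_assoc, g2, one_mul]
  have tR : ∀ y ∈ T, g * y * g ∈ R := fun y hy => by simpa only [gi] using (sw g hg hg').1 y hy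
  have t2 : ∀ y ∈ T, g * y * g * y * g * (g * y * g * y * g) = 1 := fun y hy => by
    have yy : ∀ x, y * (y * x) = x := fun x => by rw [← mul_assoc, h.sqT y hy, one_mul]
    simp only [mul_assoc, gg', yy, g2]
  have tS : ∀ y ∈ T, c * n * (g * y * g * y * g) * (c * n)⁻¹ ∈ T ∨
      c * n * (g * y * g * y * g) * (c * n)⁻¹ ∈ R := fun y hy => by
    have hy' := SP (h.TS hy)
    have h3 := mul_mem (mul_mem (mul_mem (mul_mem hg hy') hg) hy') hg
    refine h.invA r sq ?_ (Tr.conj_mul_self (t2 y hy) _)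
    have := Tr.cj_le_iff.1 h2 (n * (g * y * g * y * g) * n⁻¹) ⟨Tr.conj_mem_cj.2 h3,
      nB _ (mul_mem (mul_mem nZ (cent_sub _ (cP h3))) (inv_mem nZ)) (by
        have := (memJ_norm nZ).2 (h.c2 (r.RS (tR y hy)) hy)
        rw [← hw]
        convert this using 1
        simp only [mul_inv_rev, gi, mul_assoc, inv_mul_cancel_left, inv_inv, gg'])⟩
    convert this using 1; group
  have key : ∀ a ∈ T, ∀ b ∈ T, Commute (c * n * (g * a * g * a * g) * (c * n)⁻¹)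
      (c * n * (g * b * g * b * g) * (c * n)⁻¹) → a * b ∈ Z := fun a ha b hb e => by
    have e1 := (Tr.commute_conj_iff.1 e).eq
    have hu := mul_mem ha hb
    have h3 := tR _ hu
    by_contra hn
    refine hn (h.c1' (r.RS h3) (fun e => hn ?_) hu ?_)
    · have := (memJ_norm (cent_sub _ (cP hg))).2 (r.RT _ h3 e)
      simpa only [gi, mul_assoc, gg', g2, mul_one] using this
    · have e2 := r.comm _ (tR a ha) _ (tR b hb)
      have e3 : g * a * g * (a * b) * (g * b * g) = g * b * g * (a * b) * (g * a * g) := by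
        conv_rhs => rw [h.cT ha hb]
        simpa only [mul_assoc, gg'] using e1
      have e4 : g * (a * b) * g = g * a * g * (g * b * g) := by simp only [mul_assoc, gg']
      have e5 := sq _ (tR a ha)
      have e6 := sq _ (tR b hb)
      rw [e4]
      generalize g * a * g = p at *
      generalize g * b * g = q at *
      generalize a * b = u at *
      calc p * q * u = p * (q * u * p) * p := by
            rw [mul_assoc p, mul_assoc p, mul_assoc (q * u), e5, mul_one]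
        _ = p * p * u * (q * p) := by rw [← e3]; group
        _ = _ := by rw [e5, one_mul, e2]
  obtain ⟨a, ha, b, hb, ha', hb', hab⟩ := h.ex3 h.c16 (h.TS.trans h.nZ) fun x hx => h.c3 (h.TS hx)
  have k1 := mt (key 1 (one_mem T) a ha) (by rwa [one_mul])
  have k2 := mt (key 1 (one_mem T) b hb) (by rwa [one_mul])
  have k3 := mt (key a ha b hb) hab
  rcases tS 1 (one_mem T) with e1 | e1 <;> rcases tS a ha with e2 | e2 <;>
    rcases tS b hb with e3 | e3 <;>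
    first
      | exact k1 (h.cT e1 e2) | exact k1 (r.comm _ e1 _ e2) | exact k2 (h.cT e1 e3)
      | exact k2 (r.comm _ e1 _ e3) | exact k3 (h.cT e2 e3) | exact k3 (r.comm _ e2 _ e3)

end A

end GT

end Cfsg.Agent.SC
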