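import Cfsg.Agent.Lib.SC.Bas2
import Cfsg.Agent.Lib.TwoGrp.Tri2
import Cfsg.Agent.S0949

/-! Theorem Q, steps Q1 to Q3. -/

set_option autoImplicit false
set_option linter.unusedSectionVars false
set_option linter.unusedVariables false

namespace Cfsg.Agent.SC.QX

open Subgroup Cfsg.Agent.FT Cfsg.Agent.SF Cfsg.Agent.SF.GP
open Cfsg.Agent.Tr (SylowIn)

universe u

section
variable {G : Type*} [Group G] [Finite G]

/-- an element of odd order stabilizing a chain -/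
theorem stable1 {d x c : G} (ho : Odd (orderOf d)) (hc2 : IsPGroup 2 (zpowers c))
    (h : d * x * d⁻¹ = c * x) (hc : d * c * d⁻¹ = c) : c = 1 := by
  have h1 := TwoGrp.conj_pow_eq_of_conj_eq h hc (orderOf d)
  rw [pow_orderOf_eq_one] at h1
  have h2 : c ^ orderOf d = 1 := by simpa using h1.symm
  obtain ⟨k, hk⟩ := Tr.isPGroup_iff_forall_mem.1 hc2 c (mem_zpowers c)
  exact Tr.eq_one_of_pow_pow_of_coprime hk
    (Nat.coprime_two_right.2 (ho.of_dvd_nat (orderOf_dvd_of_pow_eq_one h2)))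

theorem stable2 {d x : G} {A : Subgroup G} (ho : Odd (orderOf d)) (hA : IsPGroup 2 A)
    (hc : d ∈ 𝐂(A)) (h : d * x * d⁻¹ * x⁻¹ ∈ A) : d * x * d⁻¹ = x := by
  have := stable1 ho (pgroup_mem hA h) (x := x) (by group)
    (cent1_conj.1 (cent_le_cent1 h hc))
  exact mul_inv_eq_one.1 this

theorem exists_central {P N : Subgroup G} (hP : IsPGroup 2 P) (hN : N ⊴ P) (h : N ≠ ⊥) :
    ∃ y ∈ N, orderOf y = 2 ∧ P ≤ 𝐂[y] := by
  obtain ⟨y, hy, h2⟩ := Tr.exists_orderOf_two_of_ne_bot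
    (pgroup_sub (inf_le_left.trans hN.le) hP) (meet_center_pgroup hP hN h)
  exact ⟨y, hy.1, h2, sub_cent1.2 hy.2.2⟩

end

/-- a simple minimal counterexample to Theorem Q -/
structure QH {G : Type u} [Group G] (T : Set G) (Z : Subgroup G) : Prop extends F4 T Z where
  simple : IsSimpleGroup G
  nse : ∀ M : Subgroup G, ¬ IsStronglyEmbedded M
  nmx : ¬ Mx Z ⊤
  lemT : ∀ H : Subgroup G, H ≠ ⊤ → Z ≤ H → ∀ X ≤ H, Odd #|X| → Z ≤ 𝐍(X) → ¬ ⁅X, Z⁆ ≤ 𝐎(H) →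
    Mx Z (NN T H) ∧ ⁅NN T H, NN T H⁆ = NN T H ∧
      ∀ a ∈ Z, a ≠ 1 → ∃ n ∈ NN T H, n ∈ 𝐍(Z) ∧ n * a * n⁻¹ ≠ a

namespace QH

variable {G : Type u} [Group G] [Finite G] {T : Set G} {Z : Subgroup G} (h : QH T Z)
include h

theorem eq_top {N : Subgroup G} (hN : N.Normal) (h1 : N ≠ ⊥) : N = ⊤ :=
  (h.simple.eq_bot_or_eq_top_of_normal N hN).resolve_left h1

theorem cent1_ne {x : G} (hx : x ≠ 1) : 𝐂[x] ≠ ⊤ := fun e => by
  have hc : center G = ⊤ := h.eq_top inferInstance (trivgPn.2 ⟨x, mem_center_iff.2 fun g =>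
    mem_cent1.1 (e ▸ mem_top g : g ∈ 𝐂[x]), hx⟩)
  obtain ⟨a, ha, b, hb, a1, b1, hab⟩ := TwoGrp.kleinFour_exists h.four
  have h1 : zpowers a = ⊤ := h.eq_top ⟨fun y hy g => by
    rwa [mem_center_iff.1 (hc ▸ mem_top y) g, mul_inv_cancel_right]⟩ (mt cycle_eq1.1 a1)
  obtain ⟨m, hm⟩ := (mem_powers_iff_mem_zpowers).2 (h1 ▸ mem_top b : b ∈ zpowers a)
  rcases Tr.pow_eq_one_or_self_of_sq (u := a) (by rw [sq, h.sq ha]) m with e | e
  · exact b1 (hm.symm.trans e)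
  · exact hab (e.symm.trans hm)

theorem not_two : ¬ IsPGroup 2 (⊤ : Subgroup G) := fun h2 => by
  obtain ⟨y, -, h1, h3⟩ := exists_central h2 (Nrm.refl _) (fun e => h.ne_bot
    (eq_bot_iff.2 (e ▸ le_top)))
  exact h.cent1_ne (Tr.ne_one_of_orderOf_two h1) (top_le_iff.1 h3)

theorem two_eq_bot {N : Subgroup G} (hN : N.Normal) (h2 : IsPGroup 2 N) : N = ⊥ := by
  by_contra h1
  exact h.not_two (h.eq_top hN h1 ▸ h2)

theorem odd_eq_bot {N : Subgroup G} (hN : N.Normal) (h2 : Odd #|N|) : N = ⊥ := by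
  by_contra h1
  obtain ⟨a, ha, a1, -⟩ := h.exists_ne 1
  exact a1 (eq_one_of_odd h2 h.two (h.eq_top hN h1 ▸ mem_top a) ha)

theorem odd_eq_bot' (N : Subgroup G) (hN : N.Normal) (h2 : Odd #|N|) : N = ⊥ := h.odd_eq_bot hN h2

theorem hO : oddCore G = ⊥ := h.odd_eq_bot inferInstance odd_oddCore

theorem perfect : commutator G = ⊤ := h.eq_top inferInstance fun e => by
  obtain ⟨a, ha, a1, -⟩ := h.exists_ne 1
  exact h.cent1_ne a1 (top_le_iff.1 ((commG1P.1 e).trans (cent_le_cent1 (mem_top a))))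

theorem index_ne_two (H : Subgroup G) : H.index ≠ 2 := fun e => by
  have hn := normal_of_index_eq_two e
  by_cases h1 : H = ⊥
  · refine h.not_two (IsPGroup.of_card (n := 1) ?_)
    rw [card_top, ← index_bot, ← h1, e, pow_one]
  · rw [h.eq_top hn h1, index_top] at e
    omega

theorem moved {a : G} (ha : a ∈ Z) (a1 : a ≠ 1) :
    ∃ n ∈ (⊤ : Subgroup G), n ∈ 𝐍(Z) ∧ n * a * n⁻¹ ≠ a :=
  h.exists_fuse le_top ha a1 fun h' => by
    have hi : IsIsolatedInvolution a := by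
      simpa using Tr.Iso.map h' (f := (⊤ : Subgroup G).subtype) (fun g => ⟨⟨g, trivial⟩, rfl⟩) a1
    exact h.cent1_ne a1 (eq_top_iff.2 fun g _ => mem_cent1.2
      (mem_center_iff.1 (ZStar.zstar_center h.hO hi) g))

theorem fused {a b : G} (ha : a ∈ Z) (a1 : a ≠ 1) (hb : b ∈ Z) (b1 : b ≠ 1) :
    ∃ n ∈ 𝐍(Z), n * a * n⁻¹ = b := by
  obtain ⟨n, -, h1⟩ := h.fused_of (fun a ha a1 => h.moved ha a1) ha a1 hb b1
  exact ⟨n, h1⟩

theorem cent_of_conj {a x g : G} (ha : a ∈ Z) (a1 : a ≠ 1) (hxa : x ∈ 𝐂[a]) (hx : x ∈ 𝐍(Z))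
    (hg : g * x * g⁻¹ ∈ 𝐂(Z)) : x ∈ 𝐂(Z) := by
  have h1 : cj g⁻¹ Z ≤ 𝐂[x] := sub_cent1.2 (by rw [centJ, Tr.mem_cj_inv]; exact hg)
  obtain ⟨c, hc, h2⟩ := (h.toF4.cj g⁻¹).conj_mem h1 (h.sub a ha) (cent1C.1 hxa)
  have h3 := (h.toF4.cj g⁻¹).cj c⁻¹
  have h4 : a ∈ cj c⁻¹ (cj g⁻¹ Z) := Tr.mem_cj_inv.2 h2
  have h5 : cj c⁻¹ (cj g⁻¹ Z) ≤ 𝐂[x] := Tr.cj_le_of_mem h1 (inv_mem hc)
  generalize cj c⁻¹ (cj g⁻¹ Z) = Z' at h3 h4 h5
  have h6 := h3.lemN (h3.cent1 h4) h4 a1 le_rfl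
  have h7 : Z ≤ 𝐎(𝐂[a]) ⊔ Z' := by
    obtain ⟨k, hk, e⟩ := h.conj_eq h3.toScl (h.cent1 ha) (h3.cent1 h4)
    rw [← e, ← h6.cj_eq hk]
    exact Tr.cj_mono k le_sup_right
  refine mem_cent.2 fun z hz => ?_
  obtain ⟨d, hd, y, hy, rfl⟩ := (mem_join_norm ((h3.cent1 h4).trans (pcore_norm _ _))).1 (h7 hz)
  have h8 : x * (d * y) * x⁻¹ * (d * y)⁻¹ = x * d * x⁻¹ * d⁻¹ := by
    calc _ = x * d * (y * x⁻¹ * y⁻¹) * d⁻¹ := by group
      _ = _ := by rw [cent1_conj'.1 (inv_mem (cent1C.1 (h5 hy)))]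
  have h9 := eq_one_of_odd (odd_core 𝐂[a]) h.two
    (h8 ▸ mul_mem ((pcore_normal _ _).conj_mem hxa hd) (inv_mem hd))
    (mul_mem ((memJ_norm hx).2 hz) (inv_mem hz))
  rw [mul_inv_eq_one, mul_inv_eq_iff_eq_mul] at h9
  exact h9.symm

/-- Q2 -/
theorem cent2 {P : Subgroup G} (hP : IsPGroup 2 P) (hZ : Z ≤ P) : P ≤ 𝐂(Z) := by
  obtain ⟨S, hS, hPS⟩ := Tr.exists_sylowIn_ge hP le_top
  have hn := h.le_norm hS.isPGroup (hZ.trans hPS)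
  obtain ⟨a, ha, a2, hc⟩ := exists_central hS.isPGroup ⟨hZ.trans hPS, hn⟩ h.ne_bot
  have a1 := Tr.ne_one_of_orderOf_two a2
  have := Tr.commutator_inf_le_of_fusion (K := 𝐂(Z)) hS fun x hx g hg => by
    by_cases h1 : x ∈ 𝐂(Z)
    · exact mul_mem (h.cent_of_conj ha a1 (hc hg) (hn hg) (g := g⁻¹) (by simpa [mul_assoc] using h1))
        (inv_mem h1)
    · exact h.mul_mem_cent ha a1 (hn hg) (inv_mem (hn hx)) (cent1_conj.1 (hc hg))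
        (cent1_conj.1 (inv_mem (hc hx))) (fun h2 => h1 (h.cent_of_conj ha a1 (hc hx) (hn hx) h2))
        fun h2 => h1 (inv_mem_iff.1 h2)
  rw [h.perfect, top_inf_eq] at this
  exact hPS.trans this

theorem two_cent {x : G} (hx : IsPGroup 2 (zpowers x)) (hn : x ∈ 𝐍(Z)) : x ∈ 𝐂(Z) :=
  h.cent2 (pgroup_sup_elt h.two hx hn) le_sup_left (mem_sup_elt Z x)

theorem two_le_cent {P : Subgroup G} (hP : IsPGroup 2 P) (hn : P ≤ 𝐍(Z)) : P ≤ 𝐂(Z) :=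
  fun x hx => h.two_cent (pgroup_mem hP hx) (hn hx)

theorem fpf {n a : G} (hn : n ∈ 𝐍(Z)) (ha : a ∈ Z) (a1 : a ≠ 1) (e : n * a * n⁻¹ = a) :
    n ∈ 𝐂(Z) := by
  obtain ⟨u, hu, v, hv, u2, vo, rfl⟩ := exists_parts n
  have h1 : zpowers (u * v) ≤ 𝐍(Z) ⊓ 𝐂[a] := cycle_subG.2 ⟨hn, cent1_conj.2 e⟩
  refine mul_mem (h.two_cent u2 (h1 hu).1) (Tr.mem_of_mul_self_mem_of_odd vo ?_)
  by_cases h2 : v ∈ 𝐂(Z)
  · exact mul_mem h2 h2
  · exact h.mul_mem_cent ha a1 (h1 hv).1 (h1 hv).1 (cent1_conj.1 (h1 hv).2)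
      (cent1_conj.1 (h1 hv).2) h2 h2

theorem exists_not_cent : ∃ n ∈ 𝐍(Z), n ∉ 𝐂(Z) := by
  obtain ⟨a, ha, a1, -⟩ := h.exists_ne 1
  obtain ⟨n, -, hn, h1⟩ := h.moved ha a1
  exact ⟨n, hn, fun h2 => h1 (cent1_conj.1 (cent_le_cent1 ha h2))⟩

section rot
variable {d : G} (hd : d ∈ 𝐍(Z)) (hd' : d ∉ 𝐂(Z))
include hd hd'

theorem eq_one_of_fix {z : G} (hz : z ∈ Z) (e : d * z * d⁻¹ = z) : z = 1 := by
  by_contra z1
  exact hd' (h.fpf hd hz z1 e)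

theorem conj_conj {a : G} (ha : a ∈ Z) : d * (d * a * d⁻¹) * d⁻¹ = a * (d * a * d⁻¹) := by
  by_cases a1 : a = 1
  · simp [a1]
  have hb := (memJ_norm hd).2 ha
  have b1 : d * a * d⁻¹ ≠ 1 := by simpa using a1
  have hab : a ≠ d * a * d⁻¹ := fun e => a1 (h.eq_one_of_fix hd hd' ha e.symm)
  rcases (h.mem_iff ha hb a1 b1 hab _).1 ((memJ_norm hd).2 hb) with e | e | e | e
  · exact absurd (by simpa using e) a1
  · refine absurd (h.eq_one_of_fix hd hd' (mul_mem ha hb) ?_) fun e' => hab ?_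
    · rw [← conj_mul, e, h.comm hb ha]
    · exact (eq_inv_of_mul_eq_one_left e').trans (h.inv hb)
  · exact absurd (h.eq_one_of_fix hd hd' hb e) b1
  · exact e

theorem orbit {a : G} (ha : a ∈ Z) (a1 : a ≠ 1) (x : G) :
    x ∈ Z ↔ x = 1 ∨ x = a ∨ x = d * a * d⁻¹ ∨ x = a * (d * a * d⁻¹) :=
  h.mem_iff ha ((memJ_norm hd).2 ha) a1 (by simpa using a1)
    (fun e => a1 (h.eq_one_of_fix hd hd' ha e.symm)) x

theorem exists_comm {z : G} (hz : z ∈ Z) : ∃ y ∈ Z, d * y * d⁻¹ * y⁻¹ = z := by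
  refine ⟨d * z * d⁻¹, (memJ_norm hd).2 hz, ?_⟩
  rw [h.conj_conj hd hd' hz, mul_inv_cancel_right]

theorem exists_pow {a b : G} (ha : a ∈ Z) (a1 : a ≠ 1) (hb : b ∈ Z) (b1 : b ≠ 1) :
    ∃ e ∈ zpowers d, e * a * e⁻¹ = b := by
  rcases (h.orbit hd hd' ha a1 b).1 hb with e | e | e | e
  · exact absurd e b1
  · exact ⟨1, one_mem _, by simp [e]⟩
  · exact ⟨d, mem_zpowers d, e.symm⟩
  · refine ⟨d * d, mul_mem (mem_zpowers d) (mem_zpowers d), ?_⟩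
    rw [e, ← h.conj_conj hd hd' ha]
    group

theorem exists_mul_cent {n : G} (hn : n ∈ 𝐍(Z)) : ∃ e ∈ zpowers d, n * e ∈ 𝐂(Z) := by
  obtain ⟨a, ha, a1, -⟩ := h.exists_ne 1
  obtain ⟨e, he, h1⟩ := h.exists_pow hd hd' ha a1 ((memJ_norm' hn).2 ha)
    (fun e => a1 (by simpa [mul_assoc] using congrArg (fun x => n * x * n⁻¹) e))
  refine ⟨e, he, h.fpf (mul_mem hn (cycle_subG.2 hd he)) ha a1 ?_⟩
  calc n * e * a * (n * e)⁻¹ = n * (e * a * e⁻¹) * n⁻¹ := by group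
    _ = a := by rw [h1]; group

theorem cube_mem : d * d * d ∈ 𝐂(Z) := mem_cent.2 fun z hz => by
  have h1 := h.conj_conj hd hd' hz
  have h2 : d * d * d * z * (d * d * d)⁻¹ = z := by
    calc _ = d * (d * (d * z * d⁻¹) * d⁻¹) * d⁻¹ := by group
      _ = (d * z * d⁻¹) * (d * (d * z * d⁻¹) * d⁻¹) := by rw [h1, ← conj_mul, h1]
      _ = z := by
        rw [h1, h.comm hz ((memJ_norm hd).2 hz), ← mul_assoc, h.sq ((memJ_norm hd).2 hz), one_mul]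
  exact (mul_inv_eq_iff_eq_mul.1 h2).symm

theorem mul_or {n : G} (hn : n ∈ 𝐍(Z)) (hn' : n ∉ 𝐂(Z)) : d * n ∈ 𝐂(Z) ∨ d⁻¹ * n ∈ 𝐂(Z) := by
  obtain ⟨a, ha, a1, -⟩ := h.exists_ne 1
  rcases (h.orbit hd hd' ha a1 _).1 ((memJ_norm hn).2 ha) with e | e | e | e
  · exact absurd (by simpa using e) a1
  · exact absurd (h.fpf hn ha a1 e) hn'
  · refine Or.inr (h.fpf (mul_mem (inv_mem hd) hn) ha a1 ?_)
    calc d⁻¹ * n * a * (d⁻¹ * n)⁻¹ = d⁻¹ * (n * a * n⁻¹) * d := by group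
      _ = a := by rw [e]; group
  · refine Or.inl (h.fpf (mul_mem hd hn) ha a1 ?_)
    calc d * n * a * (d * n)⁻¹ = d * (n * a * n⁻¹) * d⁻¹ := by group
      _ = d * d * d * a * (d * d * d)⁻¹ := by rw [e, ← h.conj_conj hd hd' ha]; group
      _ = a := cent1_conj.1 (cent_le_cent1 ha (h.cube_mem hd hd'))

end rot

/-- an element of odd order normalizing a Sylow subgroup and acting on `Z` -/
theorem exists_odd {K P : Subgroup G} (hP : SylowIn 2 P K) (hZ : Z ≤ P) (hK : K ≤ 𝐂(Z)) {n : G}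
    (hn : n ∈ 𝐍(K)) (hn' : n ∉ 𝐂(Z)) : ∃ k ∈ K, ∃ d ∈ zpowers (k * n), Odd (orderOf d) ∧
      k * n ∈ 𝐍(P) ∧ d ∉ 𝐂(Z) := by
  obtain ⟨k, hk, y, hy, rfl⟩ := hP.frattini hn
  obtain ⟨u, hu, v, hv, u2, vo, e⟩ := exists_parts y
  refine ⟨k⁻¹, inv_mem hk, v, by simpa using hv, vo, by simpa using hy, fun h1 => hn' ?_⟩
  exact e ▸ mul_mem (hK hk) (mul_mem (h.two_cent u2
    (h.norm_le hP.isPGroup hZ (cycle_subG.2 hy hu))) h1)

theorem exists_sylow : ∃ S : Sylow 2 G, Z ≤ S := h.two.exists_le_sylow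

theorem exists_norm_sylow {S : Subgroup G} (hS : SylowIn 2 S ⊤) (hZ : Z ≤ S) :
    ∃ e ∈ 𝐍(S), Odd (orderOf e) ∧ e ∉ 𝐂(Z) := by
  obtain ⟨n, hn, hn'⟩ := h.exists_not_cent
  obtain ⟨k, -, d, hd, ho, h1, h2⟩ := h.exists_odd (hS.mono (h.cent2 hS.isPGroup hZ) le_top) hZ
    le_rfl (cent_norm Z hn) hn'
  exact ⟨d, cycle_subG.2 h1 hd, ho, h2⟩

/-- Q3 -/
theorem exists_invol (hL : LyonsStmt.{u}) : ∃ x, x * x = 1 ∧ x ∈ 𝐂(Z) ∧ x ∉ Z := by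
  by_contra hcon
  push Not at hcon
  have := h.simple
  obtain ⟨S, hZS⟩ := h.exists_sylow
  have hc := h.cent2 S.isPGroup' hZS
  by_cases hab : ∀ x ∈ (S : Subgroup G), ∀ y ∈ (S : Subgroup G), Commute x y
  swap
  · push Not at hab
    obtain ⟨M, hM⟩ := hL G S Z h.card
      (fun x => ⟨fun hx => ⟨hZS hx, h.sq hx⟩, fun hx => hcon x hx.2 (hc hx.1)⟩) hc hab
    exact h.nse M hM
  obtain ⟨e, he, -, he'⟩ := h.exists_norm_sylow (SylowIn.top S) hZS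
  have hV : IsKleinFour (Z.subgroupOf S) := (h.toF4.subgroupOf hZS).four
  have hc' : ∀ v ∈ Z.subgroupOf (S : Subgroup G), ∀ x, x * v = v * x := fun v _ x =>
    Subtype.ext (hab _ x.2 _ v.2)
  have hΩ : ∀ x : (S : Subgroup G), x * x = 1 → x ∈ Z.subgroupOf S := fun x hx =>
    hcon x (congrArg Subtype.val hx) (hc x.2)
  obtain ⟨ψ, h3, hf⟩ := TwoGrp.exists_aut_three S.isPGroup' hV hc' hΩ
    (φ := (S : Subgroup G).normalizerMonoidHom ⟨e, he⟩) fun v hv v1 e' => v1 (Subtype.ext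
      (h.eq_one_of_fix (h.norm_le S.isPGroup' hZS he) he' hv (congrArg Subtype.val e')))
  let D : TwoGrp.Tri (S : Subgroup G) := ⟨S.isPGroup', _, hV, hc', hΩ, ψ, fun x => by
    have := DFunLike.congr_fun h3 x
    simpa [pow_succ] using this, hf⟩
  obtain ⟨x, m, h1, h2⟩ := D.exists_max
  obtain ⟨f⟩ := D.homocyclic h1 (h2 x) fun y => D.mem_A h1 (h2 x) le_rfl
    (Subtype.ext (hab _ y.2 _ x.2)) (Subtype.ext (hab _ y.2 _ (D.ψ x).2)) (h2 y)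
  rcases Nat.eq_zero_or_pos m with rfl | hm
  · refine h.nmx fun P hP hZP _ p hp => ?_
    obtain ⟨g, hg⟩ := conj_into S hP
    refine hcon p ?_ (h.cent2 hP hZP hp)
    have h4 : (g * p * g⁻¹) ^ 2 = 1 := by simpa using congrArg Subtype.val (h2 ⟨_, hg p hp⟩)
    rw [conj_pow, sq] at h4
    simpa using h4
  · have h4 := (S0949.result S (m + 1) (by omega) f h.odd_eq_bot').1
    exact h.ne_bot (eq_bot_iff.2 (h.two_eq_bot h4 S.isPGroup' ▸ hZS))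

end QH

end Cfsg.Agent.SC.QX
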