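import Cfsg.Agent.Lib.SC.QX1
import Cfsg.Agent.Lib.SF.S1172Of
import Cfsg.Agent.Lib.ZStar.WC

/-! Theorem Q, step Q4 (signalizer functor) and the structure of the centralizer of a bad involution. -/

set_option autoImplicit false
set_option linter.unusedSectionVars false
set_option linter.unusedVariables false

namespace Cfsg.Agent.SC.QX

open Subgroup Cfsg.Agent.FT Cfsg.Agent.SF Cfsg.Agent.SF.GP
open Cfsg.Agent.Tr (SylowIn)

universe u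

/-- the centralizer of `w` is not good -/
def Bad {G : Type*} [Group G] (Z : Subgroup G) (w : G) : Prop :=
  ∃ X ≤ 𝐂[w], Odd #|X| ∧ Z ≤ 𝐍(X) ∧ ¬ ⁅X, Z⁆ ≤ 𝐎(𝐂[w])

section
variable {G : Type*} [Group G] [Finite G]

theorem Bad.conj {Z : Subgroup G} {w n : G} (h : Bad Z w) (hn : n ∈ 𝐍(Z)) :
    Bad Z (n * w * n⁻¹) := by
  obtain ⟨X, h1, h2, h3, h4⟩ := h
  have e := Tr.cj_eq_iff.2 hn
  refine ⟨cj n X, cent1J n w ▸ Tr.cj_mono n h1, by rwa [Tr.card_cj], ?_, ?_⟩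
  · rw [normJ, ← e]
    exact Tr.cj_mono n h3
  · rwa [cent1J, pcoreJ, ← e, ← Tr.cj_commutator, Tr.cj_le_cj]

theorem mem_zpowers_invol {x y : G} (hx : x * x = 1) : y ∈ zpowers x ↔ y = 1 ∨ y = x := by
  refine ⟨fun h => ?_, fun h => ?_⟩
  · obtain ⟨m, rfl⟩ := (mem_powers_iff_mem_zpowers).2 h
    exact Tr.pow_eq_one_or_self_of_sq (by rw [sq, hx]) m
  · rcases h with rfl | rfl
    exacts [one_mem _, mem_zpowers _]

theorem mem_sup_invol {Z : Subgroup G} {x y : G} (hx : x * x = 1) (hn : x ∈ 𝐍(Z)) :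
    y ∈ Z ⊔ zpowers x ↔ y ∈ Z ∨ ∃ z ∈ Z, y = z * x := by
  rw [mem_join_norm (cycle_subG.2 hn)]
  constructor
  · rintro ⟨a, ha, b, hb, rfl⟩
    rcases (mem_zpowers_invol hx).1 hb with rfl | rfl
    · exact Or.inl (by simpa using ha)
    · exact Or.inr ⟨a, ha, rfl⟩
  · rintro (h | ⟨z, hz, rfl⟩)
    · exact ⟨y, h, 1, one_mem _, mul_one y⟩
    · exact ⟨z, hz, x, mem_zpowers x, rfl⟩

theorem card_sup_invol {Z : Subgroup G} {x : G} (hx : x * x = 1) (hn : x ∈ 𝐍(Z)) (hxZ : x ∉ Z) :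
    #|Z ⊔ zpowers x| = #|Z| * 2 := by
  rw [TI_cardMg (cycle_subG.2 hn) (eq_bot_iff.2 fun y hy => by
    rcases (mem_zpowers_invol hx).1 hy.2 with rfl | rfl
    exacts [one_mem _, absurd hy.1 hxZ]), Nat.card_zpowers,
    Tr.orderOf_eq_two hx fun e => hxZ (e ▸ one_mem _)]

theorem abelem_sup_invol {Z : Subgroup G} (hZ : Abelem 2 Z) {x : G} (hx : x * x = 1)
    (hc : x ∈ 𝐂(Z)) : Abelem 2 (Z ⊔ zpowers x) := exponent2_abelem fun y hy => by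
  rcases (mem_sup_invol hx (cent_sub Z hc)).1 hy with h | ⟨z, hz, rfl⟩
  · exact abelem_pow hZ h
  · rw [(show Commute z x from mem_cent.1 hc z hz).mul_pow, abelem_pow hZ hz, sq, hx, one_mul]

/-- an involution centralizing `n` modulo a group of odd order -/
theorem cover1 {D : Subgroup G} (hD : Odd #|D|) {y n : G} (hy : y * y = 1)
    (h : y * n * y⁻¹ * n⁻¹ ∈ D) : ∃ k ∈ D, k * n ∈ 𝐂[y] := by
  have e : y * n * y⁻¹ * n⁻¹ = y * (n * y * n⁻¹) := by rw [Tr.inv_eq_of_mul_self hy]; group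
  rw [e] at h
  obtain ⟨k, hk, h1⟩ := Tr.exists_conj_of_odd hy (Tr.conj_mul_self hy n)
    (Tr.odd_orderOf_of_odd_card hD h)
  exact ⟨k, cycle_subG.2 h hk, cent1_conj.2 ((by group : _ = k * (n * y * n⁻¹) * k⁻¹).trans h1)⟩

theorem norm_cmod {D N : Subgroup G} {g : G} (h1 : g ∈ 𝐍(D)) (h2 : g ∈ 𝐍(N)) :
    g ∈ 𝐍(GP.cmod D N) := Tr.mem_normalizer_of_forall fun x hx =>
  ⟨mul_mem (mul_mem h1 hx.1) (inv_mem h1), fun t ht => by
    have := (memJ_norm h1).2 (hx.2 _ ((memJ_norm' h2).2 ht))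
    convert this using 1
    group⟩

end

namespace QH

variable {G : Type u} [Group G] [Finite G] {T : Set G} {Z : Subgroup G} (h : QH T Z)
include h

theorem false_of_proper (hS : S1174Stmt.{u}) {M : Subgroup G} (hM : M ≠ ⊤)
    (hC : ∀ a ∈ Z, a ≠ 1 → 𝐂[a] ≤ M) : False := by
  have := h.simple
  obtain ⟨S, hZS⟩ := h.exists_sylow
  obtain ⟨H, hH⟩ := hS G S Z h.ne_bot (h.sc S.isPGroup' hZS) fun e => hM (top_le_iff.1
    (e ▸ iSup_le fun t => hC t t.2.1 (Tr.ne_one_of_orderOf_two t.2.2)))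
  exact h.nse H hH

/-- Q4 -/
theorem exists_bad (hS : S1174Stmt.{u}) {x : G} (hx : x * x = 1) (hc : x ∈ 𝐂(Z)) (hxZ : x ∉ Z) :
    ∃ z ∈ Z, Bad Z (z * x) := by
  by_contra hcon
  push Not at hcon
  have : Fact OddOrderThm.{u} := ⟨FT.oddOrder⟩
  have hE := abelem_sup_invol (four_abelem h.four) hx hc
  have hEc := abelem_cent hE
  have hgood : ∀ g ∈ Z ⊔ zpowers x, g ≠ 1 → ∀ X ≤ 𝐂[g], Odd #|X| → Z ≤ 𝐍(X) →
      ⁅X, Z⁆ ≤ 𝐎(𝐂[g]) := fun g hg g1 X hX ho hn => by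
    rcases (mem_sup_invol hx (cent_sub Z hc)).1 hg with h1 | ⟨z, hz, rfl⟩
    · exact h.good (h.cent1 h1) h1 g1 le_rfl hX ho hn
    · by_contra h2
      exact hcon z hz ⟨X, hX, ho, hn, h2⟩
  have hEg : ∀ g ∈ Z ⊔ zpowers x, Z ⊔ zpowers x ≤ 𝐂[g] := fun g hg => hEc.trans (cent_le_cent1 hg)
  have hZg : ∀ g ∈ Z ⊔ zpowers x, Z ≤ 𝐍(𝐎(𝐂[g])) := fun g hg =>
    (le_sup_left.trans (hEg g hg)).trans (pcore_norm _ _)
  have hEZ : Z ⊔ zpowers x ≤ 𝐂(Z) := hEc.trans (centS le_sup_left)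
  have hn : ∀ g, ∀ A ≤ 𝐂[g] ⊓ 𝐂(Z), A ≤ 𝐍(⁅𝐎(𝐂[g]), Z⁆) := fun g A hA =>
    normsR ((hA.trans inf_le_left).trans (pcore_norm _ _)) (cents_norm (hA.trans inf_le_right))
  have hn' : ∀ g, 𝐎(𝐂(Z)) ⊓ 𝐂[g] ≤ 𝐍(⁅𝐎(𝐂[g]), Z⁆) := fun g =>
    hn g _ (le_inf inf_le_right (inf_le_left.trans (pcore_sub _ _)))
  have hodd : ∀ g ∈ Z ⊔ zpowers x, Odd #|⁅𝐎(𝐂[g]), Z⁆ ⊔ (𝐎(𝐂(Z)) ⊓ 𝐂[g])| := fun g hg =>
    odd_sup (odd_of_le (commg_subl.2 (hZg g hg)) (odd_core _)) (odd_of_le inf_le_left (odd_core _))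
      (hn' g)
  have hinv : ∀ g ∈ Z ⊔ zpowers x, Z ⊔ zpowers x ≤ 𝐍(⁅𝐎(𝐂[g]), Z⁆ ⊔ (𝐎(𝐂(Z)) ⊓ 𝐂[g])) :=
    fun g hg => normsY (hn g _ (le_inf (hEg g hg) hEZ))
      (normsI (hEZ.trans (pcore_norm _ _)) (normsG (hEg g hg)))
  obtain ⟨W, hW, hEW, hθ⟩ := SF.sft G (Z ⊔ zpowers x)
    (fun g => ⁅𝐎(𝐂[g]), Z⁆ ⊔ (𝐎(𝐂(Z)) ⊓ 𝐂[g])) hE
    (by rw [card_sup_invol hx (cent_sub Z hc) hxZ, h.card])
    ⟨fun g hg _ => hodd g hg, fun g hg _ => sup_le ((commg_subl.2 (hZg g hg)).trans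
      (pcore_sub _ _)) inf_le_right, fun g hg _ => hinv g hg, fun a ha a1 g hg g1 => by
      have h1 := odd_of_le (inf_le_left (b := 𝐂[g])) (hodd a ha)
      have h2 := le_sup_left.trans (normsI (hinv a ha) (normsG (hEg g hg)))
      refine le_of_comm_cent h1 h.two h2 (le_sup_of_le_left ?_) (le_sup_of_le_right
        (le_inf (fun y hy => ?_) (inf_le_left.trans inf_le_right)))
      · rw [← commGid2 h1 h.two h2]
        exact commSg Z (hgood g hg g1 _ inf_le_right h1 h2)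
      · obtain ⟨u, hu, v, hv, rfl⟩ := (mem_join_norm (hn' a)).1 hy.1.1
        refine mul_mem (zG_le (Y := 𝐎(𝐂(Z))) (fun e he e1 => ?_) (lemG4 h.four (odd_core 𝐂[a])
          (hZg a ha) ⟨hu, (𝐂(Z).mul_mem_cancel_right (pcore_sub _ _ hv.1)).1 hy.2⟩)) hv.1
        exact (inf_le_inf_right _ (hgood e (mem_sup_left he) e1 _ inf_le_right
          (odd_of_le inf_le_left (odd_core _)) (normsI (hZg a ha) (normsG (h.cent1 he))))).trans
          (inf_core_le (cent_le_cent1 he))⟩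
  have hZW : Z ≤ 𝐍(W) := le_sup_left.trans hEW
  have hNW : 𝐍(Z) ≤ 𝐍(W) := by
    refine norms_of_conj_mem fun n hn w hw => ?_
    have h1 : W ≤ cj n⁻¹ W := gen4 h.four hW hZW fun f hf f1 => by
      have h3 := hθ _ (mem_sup_left ((memJ_norm hn).2 hf)) (by simpa using f1)
      have e := Tr.cj_eq_iff.2 hn
      rw [hθ f (mem_sup_left hf) f1, ← Tr.cj_le_iff_le_cj_inv, Tr.cj_sup, Tr.cj_commutator,
        Tr.cj_inf, ← pcoreJ, ← pcoreJ, ← cent1J, ← centJ, e, ← h3]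
      exact inf_le_left
    exact Tr.mem_cj_inv.1 (h1 hw)
  refine h.false_of_proper hS (M := 𝐍(W ⊔ Z)) (fun e => ?_) fun a ha a1 =>
    (h.le_core_sup_norm (h.cent1 ha) ha a1 le_rfl).trans
      (sup_le (normsG (le_sup_of_le_left ?_)) (normsY hNW le_rfl))
  · have h1 := h.eq_top (norm_eq_top_iff.1 e) fun e' => h.ne_bot (eq_bot_iff.2 (e' ▸ le_sup_right))
    have h2 := h.odd_eq_bot (FT.normal_top.1 (h1 ▸ normalYl.2 hZW)) hW
    rw [h2, bot_sup_eq] at h1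
    exact h.not_two (h1 ▸ h.two)
  · refine le_trans (le_of_comm_cent (odd_core _) h.two (hZg a (mem_sup_left ha)) le_sup_left
      (le_sup_of_le_right (le_inf (inf_core_le (cent_le_cent1 ha))
        (inf_le_left.trans (pcore_sub _ _))))) ((hθ a (mem_sup_left ha) a1).ge.trans inf_le_left)

/-- an element centralizing `d` centralizes `N` modulo the core -/
theorem cent_mod {N : Subgroup G} (hZ : Z ≤ N) (hmx : Mx Z N) {y d : G}
    (hy : IsPGroup 2 (zpowers y)) (hyZ : y ∈ 𝐂(Z)) (hyN : y ∈ 𝐍(N)) (hdN : d ∈ N) (hd : d ∈ 𝐍(Z))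
    (hd' : d ∉ 𝐂(Z)) (hdy : d ∈ 𝐂[y]) {n : G} (hn : n ∈ N) : y * n * y⁻¹ * n⁻¹ ∈ 𝐎(N) := by
  have hN : N ⊴ N ⊔ zpowers y := normalYl.2 (cycle_subG.2 hyN)
  obtain ⟨P, hP, hZP⟩ := Tr.exists_sylowIn_ge (pgroup_sup_elt h.two hy (cent_sub Z hyZ))
    (sup_le_sup_right hZ (zpowers y))
  have hyP := hZP (mem_sup_elt Z y)
  have hZP' : Z ≤ P := le_sup_left.trans hZP
  have key : ∀ g ∈ N ⊔ zpowers y, g * y * g⁻¹ ∈ P → g * y * g⁻¹ = y := fun g hg hgP => by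
    obtain ⟨a, ha, b, hb, rfl⟩ := (mem_join_norm (cycle_subG.2 hyN)).1 hg
    have e : a * b * y * (a * b)⁻¹ = a * y * a⁻¹ := by
      calc _ = a * (b * y * b⁻¹) * a⁻¹ := by group
        _ = _ := by rw [cent1_conj.1 (cycle_subG.2 (cent1id y) hb)]
    rw [e] at hgP ⊢
    have h1 : a * y * a⁻¹ * y⁻¹ ∈ Z := hmx (P ⊓ N) (pgroup_sub inf_le_left hP.isPGroup)
      (le_inf hZP' hZ) inf_le_right (mem_inf.2 ⟨mul_mem hgP (inv_mem hyP), by
        have := mul_mem ha ((memJ_norm hyN).2 (inv_mem ha))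
        simpa only [mul_assoc] using this⟩)
    obtain ⟨m, hm, hm', h2⟩ := h.control1 hZ ha hyZ (h.cent2 hP.isPGroup hZP' hgP)
    obtain ⟨e, he, h3⟩ := h.exists_mul_cent hd hd' hm'
    have h4 : m * e * y * (m * e)⁻¹ = a * y * a⁻¹ := by
      calc _ = m * (e * y * e⁻¹) * m⁻¹ := by group
        _ = _ := by rw [cent1_conj.1 (cycle_subG.2 hdy he), h2]
    have h5 : m * e ∈ N := mul_mem hm (cycle_subG.2 hdN he)
    rw [← h4] at h1 ⊢
    generalize m * e = c at h1 h3 h5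
    obtain ⟨u, hu, v, hv, u2, vo, e⟩ := exists_parts c
    have hu' : u ∈ Z := hmx.mem h.two hZ u2 (cycle_subG.2 h5 hu) (cent_sub Z (cycle_subG.2 h3 hu))
    have h6 : c * y * c⁻¹ = v * y * v⁻¹ := by
      have : c = v * u := e.trans (setLike_mul_comm hu hv)
      calc c * y * c⁻¹ = v * (u * y * u⁻¹) * v⁻¹ := by rw [this]; group
        _ = _ := by rw [mem_cent.1 hyZ u hu', mul_inv_cancel_right]
    rw [h6] at h1 ⊢
    exact stable2 vo h.two (cycle_subG.2 h3 hv) h1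
  have h7 := ZStar.zstar_wc hP.toSylow (x := ⟨y, mem_sup_elt N y⟩) hyP
    (fun g hg => Subtype.ext (key g g.2 hg)) ⟨n, mem_sup_left hn⟩
  rw [← pcore_top_pPrimeCore] at h7
  exact inf_core_le hN.le (mem_inf.2
    ⟨(mem_core_iff _).1 h7, mul_mem ((memJ_norm hyN).2 hn) (inv_mem hn)⟩)

end QH

end Cfsg.Agent.SC.QX
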