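import Cfsg.Agent.Lib.SC.QX2

/-! Theorem Q, step Q5 (a) to (e): bad involutions with a largest Sylow subgroup. -/

set_option autoImplicit false
set_option linter.unusedSectionVars false
set_option linter.unusedVariables false

namespace Cfsg.Agent.SC.QX

open Subgroup Cfsg.Agent.FT Cfsg.Agent.SF Cfsg.Agent.SF.GP
open Cfsg.Agent.Tr (SylowIn)

universe u

section
variable {G : Type*} [Group G]

/-- `w` is a bad involution and `P` a Sylow subgroup of its centralizer containing `Z` -/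
structure BS (Z : Subgroup G) (w : G) (P : Subgroup G) : Prop where
  sq : w * w = 1
  nm : w ∉ Z
  bad : Bad Z w
  syl : SylowIn 2 P 𝐂[w]
  le : Z ≤ P

/-- centralizers of bad involutions have 2-subgroups of order at most `m` -/
def Mb (Z : Subgroup G) (m : ℕ) : Prop :=
  ∀ y, y * y = 1 → y ∈ 𝐂(Z) → y ∉ Z → Bad Z y → ∀ R ≤ 𝐂[y], IsPGroup 2 R → #|R| ≤ m

/-- the part of `P` centralizing `⟨Z^C(w)⟩` modulo the core -/
def Qw (T : Set G) (w : G) (P : Subgroup G) : Subgroup G := P ⊓ GP.cmod 𝐎(𝐂[w]) (NN T 𝐂[w])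

/-- an element of odd order acting on `P` with `[P, d] = Z` -/
structure Dd (Z P : Subgroup G) (d : G) : Prop where
  odd : Odd (orderOf d)
  nz : d ∈ 𝐍(P)
  nc : d ∉ 𝐂(Z)
  comm : ∀ t ∈ P, d * t * d⁻¹ * t⁻¹ ∈ Z

theorem NN_cj {T : Set G} (hT : Fam T) (n : G) (H : Subgroup G) : NN T (cj n H) ≤ cj n (NN T H) :=
  NN_le_iff.2 fun t ht h => Tr.mem_cj.2 (mem_NN (hT.conj' ht n) (Tr.mem_cj.1 h))

variable [Finite G] {T : Set G} {Z P : Subgroup G} {w : G}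

theorem BS.two (h : BS Z w P) : IsPGroup 2 P := h.syl.isPGroup
theorem BS.cent (h : BS Z w P) : w ∈ 𝐂(Z) := sub_cent1.1 (h.le.trans h.syl.le)
theorem BS.ne (h : BS Z w P) : w ≠ 1 := fun e => h.nm (e ▸ one_mem _)

theorem BS.mem_of (h : BS Z w P) {R : Subgroup G} (hR : IsPGroup 2 R) (hP : P ≤ R) {x : G}
    (hx : x ∈ R) (hc : x ∈ 𝐂[w]) : x ∈ P :=
  (h.syl.eq_of_le (pgroup_sub inf_le_left hR) (le_inf hP h.syl.le) inf_le_right).le ⟨hx, hc⟩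

theorem BS.mem (h : BS Z w P) : w ∈ P :=
  h.mem_of (pgroup_sup_elt h.two (pgroup_invol h.sq) (cent_sub P (sub_cent1.1 h.syl.le)))
    le_sup_left (mem_sup_elt P w) (cent1id w)

theorem Mb.bs (h : Mb Z #|P|) (hP : IsPGroup 2 P) (hZ : Z ≤ P) {y : G} (h1 : y * y = 1)
    (h2 : y ∉ Z) (h3 : Bad Z y) (h4 : P ≤ 𝐂[y]) : BS Z y P :=
  ⟨h1, h2, h3, Tr.sylowIn_of_maximal hP h4 fun Q hQ h5 h6 => (eq_of_le_of_card_ge h5
    (h y h1 (sub_cent1.1 (hZ.trans h4)) h2 h3 Q h6 hQ)).symm, hZ⟩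

theorem BS.conj (h : BS Z w P) {n : G} (hn : n ∈ 𝐍(Z)) : BS Z (n * w * n⁻¹) (cj n P) :=
  ⟨Tr.conj_mul_self h.sq n, fun e => h.nm ((memJ_norm hn).1 e), h.bad.conj hn,
    cent1J n w ▸ h.syl.cj n, Tr.cj_eq_iff.2 hn ▸ Tr.cj_mono n h.le⟩

theorem Qw_le : Qw T w P ≤ P := inf_le_left

theorem norm_Qw (hT : Fam T) {g : G} (h1 : g ∈ 𝐂[w]) (h2 : g ∈ 𝐍(P)) : g ∈ 𝐍(Qw T w P) :=
  cycle_subG.1 (normsI (cycle_subG.2 h2) (cycle_subG.2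
    (norm_cmod (pcore_norm _ _ h1) ((hT.NN_nrm _).nz h1))))

theorem conj_mem_Qw (hT : Fam T) {n q : G} (hn : n ∈ 𝐍(P)) (hq : q ∈ Qw T w P) :
    n * q * n⁻¹ ∈ Qw T (n * w * n⁻¹) P := by
  refine ⟨(memJ_norm hn).2 hq.1, ?_, fun t ht => ?_⟩
  · rw [cent1J, pcoreJ, normJ]
    exact Tr.conj_mem_cj.2 hq.2.1
  · rw [cent1J] at ht
    rw [cent1J, pcoreJ, Tr.mem_cj]
    convert hq.2.2 _ (Tr.mem_cj.1 (NN_cj hT n _ ht)) using 1
    group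

end

namespace QH

variable {G : Type u} [Group G] [Finite G] {T : Set G} {Z : Subgroup G} (h : QH T Z)
  {P : Subgroup G} {w d : G}
include h

theorem bs_T (hw : BS Z w P) : Mx Z (NN T 𝐂[w]) ∧ ⁅NN T 𝐂[w], NN T 𝐂[w]⁆ = NN T 𝐂[w] ∧
    ∀ a ∈ Z, a ≠ 1 → ∃ n ∈ NN T 𝐂[w], n ∈ 𝐍(Z) ∧ n * a * n⁻¹ ≠ a := by
  obtain ⟨X, h1, h2, h3, h4⟩ := hw.bad
  exact h.lemT _ (h.cent1_ne hw.ne) (hw.le.trans hw.syl.le) X h1 h2 h3 h4

theorem dd_dec (hP : IsPGroup 2 P) (hZ : Z ≤ P) (hd : Dd Z P d) {t : G} (ht : t ∈ P) :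
    ∃ z ∈ Z, z * t ∈ P ⊓ 𝐂[d] := by
  obtain ⟨y, hy, e⟩ := h.exists_comm (h.norm_le hP hZ hd.nz) hd.nc (hd.comm t ht)
  refine ⟨y⁻¹, inv_mem hy, mem_inf.2 ⟨mul_mem (inv_mem (hZ hy)) ht, cent1_conj'.2 ?_⟩⟩
  have h1 := mem_cent.1 (h.cent2 hP hZ ((memJ_norm hd.nz).2 ht)) _
    ((memJ_norm (h.norm_le hP hZ hd.nz)).2 hy)
  calc d * (y⁻¹ * t) * d⁻¹ = (d * y * d⁻¹)⁻¹ * (d * t * d⁻¹ * t⁻¹) * t := by group
    _ = y⁻¹ * t := by rw [← e]; group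

theorem dd_disj (hP : IsPGroup 2 P) (hZ : Z ≤ P) (hd : Dd Z P d) {z : G} (hz : z ∈ Z)
    (hc : z ∈ 𝐂[d]) : z = 1 :=
  h.eq_one_of_fix (h.norm_le hP hZ hd.nz) hd.nc hz (cent1_conj'.1 hc)

/-- (a) -/
theorem exists_d (hw : BS Z w P) : ∃ d, Dd Z P d ∧ d ∈ 𝐂[w] ∧ P ⊓ 𝐂[d] = Qw T w P := by
  obtain ⟨hmx, -, hf⟩ := h.bs_T hw
  have hN := h.fam.NN_nrm 𝐂[w]
  have hZN := h.le_NN (hw.le.trans hw.syl.le)
  have hPc := h.cent2 hw.two hw.le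
  have hPN : P ≤ 𝐍(NN T 𝐂[w]) := hw.syl.le.trans hN.nz
  obtain ⟨a, ha, a1, -⟩ := h.exists_ne 1
  obtain ⟨n, hn, hn', h1⟩ := hf a ha a1
  obtain ⟨k, hk, y, hy, e⟩ := (hw.syl.mono (le_inf le_sup_right hPc)
    (inf_le_left.trans (sup_le hN.le hw.syl.le))).frattini (x := n)
    (cycle_subG.1 (normsI (normsG (cycle_subG.2 (mem_sup_left hn)))
      (norms_cent (cycle_subG.2 hn'))))
  have h2 : y ∈ NN T 𝐂[w] ⊔ P := by
    rw [← inv_mul_eq_iff_eq_mul.2 e]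
    exact mul_mem (inv_mem hk.1) (mem_sup_left hn)
  obtain ⟨m, hm, t, ht, rfl⟩ := (mem_join_norm hPN).1 h2
  have h3 : m ∈ 𝐍(P) := by simpa using mul_mem hy (inv_mem (normG P ht))
  obtain ⟨u, hu, v, hv, u2, vo, e'⟩ := exists_parts m
  have hvN := cycle_subG.2 hm hv
  have hvP := cycle_subG.2 h3 hv
  have hv' : v ∉ 𝐂(Z) := fun h4 => h1 (cent1_conj.1 (cent_le_cent1 ha (by
    rw [e, e']
    exact mul_mem hk.2 (mul_mem (mul_mem (h.two_cent u2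
      (h.norm_le hw.two hw.le (cycle_subG.2 h3 hu))) h4) (hPc ht)))))
  refine ⟨v, ⟨vo, hvP, hv', fun t ht => hmx (P ⊓ NN T 𝐂[w]) (pgroup_sub inf_le_left hw.two)
    (le_inf hw.le hZN) inf_le_right (mem_inf.2 ⟨mul_mem ((memJ_norm hvP).2 ht) (inv_mem ht), ?_⟩)⟩,
    hN.le hvN, le_antisymm (fun y hy => ⟨hy.1, pcore_norm _ _ (hw.syl.le hy.1), fun t ht =>
      pcore_normal_le _ hN (h.cent_mod hZN hmx (pgroup_mem hw.two hy.1) (hPc hy.1) (hPN hy.1) hvN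
        (h.norm_le hw.two hw.le hvP) hv' (cent1C.1 hy.2) ht)⟩) fun y hy => ⟨hy.1, ?_⟩⟩
  · have := mul_mem hvN ((memJ_norm (hPN ht)).2 (inv_mem hvN))
    simpa only [mul_assoc] using this
  · have h4 := eq_one_of_odd (odd_core _) hw.two (comm_mem_symm (hy.2.2 v hvN))
      (mul_mem ((memJ_norm hvP).2 hy.1) (inv_mem hy.1))
    exact cent1_conj'.2 (mul_inv_eq_one.1 h4)

theorem Q_disj (hw : BS Z w P) {z : G} (hz : z ∈ Z) (hq : z ∈ Qw T w P) : z = 1 := by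
  obtain ⟨d, hd, -, e⟩ := h.exists_d hw
  exact h.dd_disj hw.two hw.le hd hz (e.ge hq).2

theorem Q_dec (hw : BS Z w P) {t : G} (ht : t ∈ P) : ∃ z ∈ Z, z * t ∈ Qw T w P := by
  obtain ⟨d, hd, -, e⟩ := h.exists_d hw
  exact e ▸ h.dd_dec hw.two hw.le hd ht

theorem mem_Q (hw : BS Z w P) : w ∈ Qw T w P := by
  obtain ⟨d, -, hd, e⟩ := h.exists_d hw
  exact e.le ⟨hw.mem, cent1C.1 hd⟩

/-- (b) -/
theorem bad_of_Q (hw : BS Z w P) {y : G} (hy : y ∈ Qw T w P) (y2 : y * y = 1) : Bad Z y := by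
  obtain ⟨X, h1, h2, h3, h4⟩ := hw.bad
  have hN := h.fam.NN_nrm 𝐂[w]
  have hZw := hw.le.trans hw.syl.le
  have hD := pcore_normal ({2}ᶜ : Set ℕ) 𝐂[w]
  have hYN : ⁅X, Z⁆ ≤ NN T 𝐂[w] := (commgS X (h.le_NN hZw)).trans (hN.commutator_le_right h1)
  have hZy : Z ≤ 𝐂[y] := sub_cent1.2 (h.cent2 hw.two hw.le hy.1)
  have hc : ∀ n ∈ NN T 𝐂[w], ∃ k ∈ 𝐎(𝐂[w]), k * n ∈ 𝐂[y] := fun n hn =>
    cover1 (odd_core _) y2 (hy.2.2 n hn)
  refine ⟨(𝐎(𝐂[w]) ⊔ ⁅X, Z⁆) ⊓ 𝐂[y], inf_le_right, odd_of_le inf_le_left (odd_sup (odd_core _)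
    (odd_of_le (commg_subl.2 h3) h2) ((hYN.trans hN.le).trans hD.nz)),
    normsI (normsY (hZw.trans hD.nz) (commg_normr _ _)) (normsG hZy), fun h5 => h4 ?_⟩
  have h6 : 𝐎(𝐂[y]) ⊓ (𝐎(𝐂[w]) ⊔ NN T 𝐂[w]) ≤ 𝐎(𝐂[w]) :=
    olem (J := (𝐎(𝐂[w]) ⊔ NN T 𝐂[w]) ⊓ 𝐂[y]) (hD.sup hN) (inf_le_left.trans (hD.sup hN).le)
      (sup_le le_sup_right fun n hn => by
        obtain ⟨k, hk, h7⟩ := hc n hn
        have := mul_mem (mem_sup_right (S := (𝐎(𝐂[w]) ⊔ NN T 𝐂[w]) ⊓ 𝐂[y]) (inv_mem hk))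
          (mem_sup_left (mem_inf.2 ⟨mul_mem_sup hk hn, h7⟩))
        simpa using this)
      inf_le_right (normsI (inf_le_right.trans (pcore_norm _ _)) (normsG inf_le_left))
      (odd_of_le inf_le_left (odd_core _))
  have h7 : ⁅(𝐎(𝐂[w]) ⊔ ⁅X, Z⁆) ⊓ 𝐂[y], Z⁆ ≤ 𝐎(𝐂[w]) := (le_inf h5 (comm_subG
    (inf_le_left.trans (sup_le_sup_left hYN _)) (le_sup_of_le_right (h.le_NN hZw)))).trans h6
  rw [← commGid2 h2 h.two h3]
  refine comm_le_of_le_cmod fun n hn => ?_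
  obtain ⟨k, hk, h8⟩ := hc n (hYN hn)
  have := mul_mem (self_le_cmod (fun t ht => hD.nz (hZw ht)) (inv_mem hk))
    (le_cmod (inf_le_left.trans (sup_le hD.le (hYN.trans hN.le)) |>.trans hD.nz) h7
      (mem_inf.2 ⟨mul_mem_sup hk hn, h8⟩))
  simpa using this

theorem Q_eq_of_mem (hw : BS Z w P) {y : G} (hy : BS Z y P) (hq : y ∈ Qw T w P) :
    Qw T y P = Qw T w P := by
  obtain ⟨d, hd, -, e⟩ := h.exists_d hw
  have h1 : Qw T y P ≤ Qw T w P := fun q hq' => e.le ⟨hq'.1, cent1_conj'.2 (mul_inv_eq_one.1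
    (h.Q_disj hy (hd.comm q hq'.1) (mul_mem ((memJ_norm
      (norm_Qw h.fam (cent1C.1 (e.ge hq).2) hd.nz)).2 hq') (inv_mem hq'))))⟩
  refine le_antisymm h1 fun q hq' => ?_
  obtain ⟨z, hz, h2⟩ := h.Q_dec hy hq'.1
  rwa [h.Q_disj hw hz (((Qw T w P).mul_mem_cancel_right hq').1 (h1 h2)), one_mul] at h2

theorem Q_nrm (hw : BS Z w P) : Qw T w P ⊴ P :=
  ⟨Qw_le, fun g hg => norm_Qw h.fam (hw.syl.le hg) (normG P hg)⟩

/-- (c) -/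
theorem Q_eq (hm : Mb Z #|P|) (hw : BS Z w P) {w' : G} (hw' : BS Z w' P)
    (hne : Qw T w P ⊓ Qw T w' P ≠ ⊥) : Qw T w P = Qw T w' P := by
  obtain ⟨y, hy, y2, hc⟩ := exists_central hw.two ((h.Q_nrm hw).inf (h.Q_nrm hw')) hne
  have h1 := Tr.mul_self_of_orderOf_two y2
  have h2 := hm.bs hw.two hw.le h1
    (fun e => Tr.ne_one_of_orderOf_two y2 (h.Q_disj hw e hy.1)) (h.bad_of_Q hw hy.1 h1) hc
  rw [← h.Q_eq_of_mem hw h2 hy.1, h.Q_eq_of_mem hw' h2 hy.2]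

/-- (d) -/
theorem not_sylow (hB : BScStmt.{u}) (hw : BS Z w P) : ¬ SylowIn 2 P ⊤ := fun hS => by
  obtain ⟨d, hd, hdw, e⟩ := h.exists_d hw
  have hdZ := h.norm_le hw.two hw.le hd.nz
  have hPc := h.cent2 hw.two hw.le
  generalize Qw T w P = Q at e
  have hQP : Q ≤ P := e.ge.trans inf_le_left
  have hdec : ∀ t ∈ P, ∃ z ∈ Z, z * t ∈ Q := fun t ht => e ▸ h.dd_dec hw.two hw.le hd ht
  have hdisj : ∀ z ∈ Z, z ∈ Q → z = 1 := fun z hz hq => h.dd_disj hw.two hw.le hd hz (e.ge hq).2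
  have hZ' : ∀ z ∈ Z, z ∈ ⁅𝐂(Z), 𝐂(Z)⁆ → z = 1 := fun z hz hz' => by
    by_contra z1
    refine Tr.not_mem_commutator_of_control (p := 2) (G := 𝐂(Z)) (H := P.subgroupOf _)
      (K := Q.subgroupOf _) (g := ⟨z, h.cent hz⟩) (k := 1) (fun x hx y hy => ?_)
      (hS.mono hPc le_top).not_dvd (hw.le hz) (fun hq => z1 (hdisj z hz hq))
      (Subtype.ext (by simpa [sq] using h.sq hz)) (fun m a _ => ?_) ?_
    · obtain ⟨a, ha, h1⟩ := hdec x hx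
      obtain ⟨b, hb, h2⟩ := hdec y hy
      have h3 := mul_mem (mul_mem (mul_mem h1 h2) (inv_mem h1)) (inv_mem h2)
      have c1 := mem_cent.1 x.2 b hb
      have c2 := mem_cent.1 (mul_mem (mul_mem x.2 (mul_mem (h.cent hb) y.2)) (inv_mem x.2)) a ha
      change (x : G) * y * (x : G)⁻¹ * (y : G)⁻¹ ∈ Q
      convert h3 using 1
      calc (x : G) * y * (x : G)⁻¹ * (y : G)⁻¹ = b⁻¹ * (b * x) * y * (x : G)⁻¹ * (y : G)⁻¹ := by group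
        _ = b⁻¹ * (x * (b * y) * (x : G)⁻¹ * (y : G)⁻¹ * b⁻¹) * b := by rw [c1]; group
        _ = x * (b * y) * (x : G)⁻¹ * (y : G)⁻¹ * b⁻¹ := by
          rw [mul_assoc, ← mem_cent.1 (mul_mem (mul_mem (mul_mem (mul_mem x.2
            (mul_mem (h.cent hb) y.2)) (inv_mem x.2)) (inv_mem y.2)) (inv_mem (h.cent hb))) b hb]
          group
        _ = a * (x * (b * y) * (x : G)⁻¹) * a⁻¹ * (b * y)⁻¹ := by rw [c2]; group
        _ = _ := by group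
    · have : a * ⟨z, h.cent hz⟩ ^ m = ⟨z, h.cent hz⟩ ^ m * a :=
        Subtype.ext (mem_cent.1 a.2 _ (pow_mem hz m)).symm
      rw [this]
      simp
    · rw [commutator_def, ← mem_map_iff_mem 𝐂(Z).subtype_injective, map_commutator,
        ← MonoidHom.range_eq_map, range_subtype]
      exact hz'
  obtain ⟨S, rfl⟩ := hS.exists_sylow
  have hsc : IsStronglyClosed Q (S : Subgroup G) := ⟨hQP, fun x hx g hg => by
    obtain ⟨n, -, hn, h1⟩ := h.control1 le_top (mem_top g) (hPc (hQP hx)) (hPc hg)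
    obtain ⟨f, hf, h2⟩ := h.exists_mul_cent hdZ hd.nc hn
    have h3 : n * f * x * (n * f)⁻¹ = g * x * g⁻¹ := by
      calc _ = n * (f * x * f⁻¹) * n⁻¹ := by group
        _ = _ := by rw [cent1_conj.1 (cycle_subG.2 (cent1C.1 (e.ge hx).2) hf), h1]
    have h4 := mem_commg h2 (hPc (hQP hx))
    rw [h3] at h4
    obtain ⟨z, hz, h5⟩ := hdec _ hg
    have h6 := (memJ_norm (norms_der (cent_norm Z) hdZ)).2 h4
    have h7 : d * (g * x * g⁻¹ * x⁻¹) * d⁻¹ * (g * x * g⁻¹ * x⁻¹)⁻¹ = (d * z * d⁻¹)⁻¹ * z := by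
      calc _ = (d * z * d⁻¹)⁻¹ * (d * (z * (g * x * g⁻¹)) * d⁻¹) * (d * x * d⁻¹)⁻¹ *
            (g * x * g⁻¹ * x⁻¹)⁻¹ := by group
        _ = _ := by rw [cent1_conj'.1 (e.ge h5).2, cent1_conj'.1 (e.ge hx).2]; group
    have h8 := hZ' _ (mul_mem (inv_mem ((memJ_norm hdZ).2 hz)) hz) (h7 ▸ mul_mem h6 (inv_mem h4))
    rwa [h.eq_one_of_fix hdZ hd.nc hz (inv_mul_eq_one.1 h8), one_mul] at h5⟩
  have h1 := thmA_of_bsc hB G S Q Z hsc (h.sc S.isPGroup' hw.le) (hQP.trans hPc)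
    (eq_bot_iff.2 fun x hx => hdisj x hx.2 hx.1) (Or.inl (le_antisymm (sup_le hQP hw.le)
      fun t ht => by
        obtain ⟨z, hz, h2⟩ := hdec t ht
        simpa using mul_mem (mem_sup_right (S := Q) (inv_mem hz)) (mem_sup_left (T := Z) h2)))
  rw [h.eq_top normalClosure_normal (trivgPn.2 ⟨w, subset_normalClosure
      (e.le ⟨hw.mem, cent1C.1 hdw⟩), hw.ne⟩), h.eq_top normalClosure_normal
      fun e' => h.ne_bot (eq_bot_iff.2 (e' ▸ le_normalClosure)), h.hO, ← commutator_def,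
    h.perfect] at h1
  exact h.ne_bot (eq_bot_iff.2 (le_top.trans h1))

end QH

/-- the configuration reached after (e) -/
structure Cf {G : Type*} [Group G] (Z P : Subgroup G) : Prop where
  two : IsPGroup 2 P
  le : Z ≤ P
  sq : ∀ x ∈ P, x * x = 1
  ne : ∃ y ∈ P, y ∉ Z
  all : ∀ y ∈ P, y ∉ Z → BS Z y P
  nsyl : ¬ SylowIn 2 P ⊤

theorem exists_gt {G : Type*} [Group G] [Finite G] {P : Subgroup G} (hP : IsPGroup 2 P)
    (h : ¬ SylowIn 2 P ⊤) : ∃ R, SylowIn 2 R 𝐍(P) ∧ P < R := by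
  obtain ⟨R, hR, h1⟩ := Tr.exists_sylowIn_ge hP (normG P)
  refine ⟨R, hR, lt_of_le_of_ne h1 fun e => h (Tr.sylowIn_of_maximal hP le_top fun Q hQ h2 _ => ?_)⟩
  by_contra h3
  have h4 := Tr.lt_normalizer_inf hQ (lt_of_le_of_ne h2 (Ne.symm h3))
  exact h4.ne' ((hR.eq_of_le (pgroup_sub inf_le_right hQ) (e.ge.trans h4.le) inf_le_left).trans
    e.symm)

/-- (e) -/
theorem QH.cf {G : Type u} [Group G] [Finite G] {T : Set G} {Z : Subgroup G} (h : QH T Z)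
    (hB : BScStmt.{u}) {P : Subgroup G} {w : G} (hm : Mb Z #|P|) (hw : BS Z w P) : Cf Z P := by
  have hns := h.not_sylow hB hw
  obtain ⟨R, hR, hPR⟩ := exists_gt hw.two hns
  have hc : ∀ s ∈ R, BS Z (s * w * s⁻¹) P := fun s hs => by
    have := hw.conj (h.norm_le hw.two hw.le (hR.le hs))
    rwa [Tr.cj_eq_iff.2 (hR.le hs)] at this
  obtain ⟨s, hs, h1⟩ : ∃ s ∈ R, Qw T w P ⊓ Qw T (s * w * s⁻¹) P = ⊥ := by
    by_contra hcon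
    push Not at hcon
    obtain ⟨y, hy, y2, h2⟩ := exists_central (N := Qw T w P) hR.isPGroup
      ⟨Qw_le.trans hPR.le, norms_of_conj_mem fun s hs q hq =>
        h.Q_eq hm hw (hc s hs) (hcon s hs) ▸ conj_mem_Qw h.fam (hR.le hs) hq⟩
      (trivgPn.2 ⟨w, h.mem_Q hw, hw.ne⟩)
    have h3 := Tr.mul_self_of_orderOf_two y2
    exact (proper_card hPR).not_ge (hm y h3 (h.cent2 hw.two hw.le hy.1)
      (fun e => Tr.ne_one_of_orderOf_two y2 (h.Q_disj hw e hy)) (h.bad_of_Q hw hy h3) R h2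
      hR.isPGroup)
  have hw' := hc s hs
  generalize s * w * s⁻¹ = w' at h1 hw'
  have hsq : ∀ z ∈ Z, ∀ t ∈ P, z * t * (z * t) = t * t := fun z hz t ht => by
    rw [mul_assoc, ← mul_assoc t, ← mem_cent.1 (h.cent2 hw.two hw.le ht) z hz, ← mul_assoc,
      ← mul_assoc, h.sq hz, one_mul]
  have h2 : ∀ t ∈ P, t * t = 1 := fun t ht => by
    obtain ⟨a, ha, h3⟩ := h.Q_dec hw ht
    obtain ⟨b, hb, h4⟩ := h.Q_dec hw' ht
    rw [← mem_bot, ← h1]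
    exact ⟨hsq a ha t ht ▸ mul_mem h3 h3, hsq b hb t ht ▸ mul_mem h4 h4⟩
  refine ⟨hw.two, hw.le, h2, ⟨w, hw.mem, hw.nm⟩, fun y hy hyZ => hm.bs hw.two hw.le (h2 y hy) hyZ ?_
    (sub_cent1.2 (abelem_cent (exponent2_abelem fun x hx => by rw [sq, h2 x hx]) hy)), hns⟩
  obtain ⟨d, hd, -, e⟩ := h.exists_d hw
  obtain ⟨a, ha, h3⟩ := h.Q_dec hw hy
  by_cases a1 : a = 1
  · exact h.bad_of_Q hw (by simpa [a1] using h3) (h2 y hy)
  obtain ⟨b, hb, h4⟩ := h.Q_dec hw' h3.1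
  have b1 : b ≠ 1 := fun e' => hyZ (by
    have : a * y ∈ (⊥ : Subgroup G) := h1 ▸ ⟨h3, by simpa [e'] using h4⟩
    rw [eq_inv_of_mul_eq_one_right (mem_bot.1 this)]
    exact inv_mem ha)
  have hdZ := h.norm_le hw.two hw.le hd.nz
  obtain ⟨f, hf, h5⟩ := h.exists_pow hdZ hd.nc hb b1 ha a1
  have h6 := (h.bad_of_Q hw' h4 (h2 _ h4.1)).conj (cycle_subG.2 hdZ hf)
  rwa [← conj_mul, h5, cent1_conj.1 (cycle_subG.2 (cent1C.1 (e.ge h3).2) hf), ← mul_assoc,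
    h.sq ha, one_mul] at h6

end Cfsg.Agent.SC.QX
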