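import Cfsg.Agent.Lib.SC.QX3

/-! Theorem Q: the Sylow subgroup of the normalizer of the elementary abelian group `P`. -/

set_option autoImplicit false
set_option linter.unusedSectionVars false
set_option linter.unusedVariables false

namespace Cfsg.Agent.SC.QX

open Subgroup Cfsg.Agent.FT Cfsg.Agent.SF Cfsg.Agent.SF.GP
open Cfsg.Agent.Tr (SylowIn)

universe u

section
variable {G : Type*} [Group G]

/-- the commutator -/
def cm (x y : G) : G := x * y * x⁻¹ * y⁻¹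

theorem cm_eq_one {x y : G} : cm x y = 1 ↔ x * y = y * x := by
  rw [cm, mul_inv_eq_one, mul_inv_eq_iff_eq_mul]

theorem conj_cm (g x y : G) : g * cm x y * g⁻¹ = cm (g * x * g⁻¹) (g * y * g⁻¹) := by
  simp only [cm]; group

theorem conj_eq_cm (x y : G) : x * y * x⁻¹ = cm x y * y := by simp [cm]

/-- `R` centralizes the elementary group `Z` and `R / Z` is elementary -/
structure C2 (Z R : Subgroup G) : Prop where
  le : Z ≤ R
  cent : R ≤ 𝐂(Z)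
  zsq : ∀ z ∈ Z, z * z = 1
  sq : ∀ s ∈ R, s * s ∈ Z

namespace C2

variable {Z R : Subgroup G} (h : C2 Z R) {x y w z : G}
include h

theorem comm (hz : z ∈ Z) (hx : x ∈ R) : z * x = x * z := mem_cent.1 (h.cent hx) z hz

theorem conj (hz : z ∈ Z) (hx : x ∈ R) : x * z * x⁻¹ = z := by
  rw [← h.comm hz hx, mul_inv_cancel_right]

theorem cm_mem (hx : x ∈ R) (hy : y ∈ R) : cm x y ∈ Z := by
  have h2 := (memJ_norm (cent_sub Z (h.cent hy))).2 (h.sq x hx)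
  have h3 := mul_mem (h.sq _ (mul_mem hx hy)) (inv_mem (mul_mem h2 (h.sq y hy)))
  convert h3 using 1
  simp only [cm]
  group

theorem cm_mul_left (hx : x ∈ R) (hy : y ∈ R) (hw : w ∈ R) : cm (x * y) w = cm x w * cm y w := by
  calc cm (x * y) w = x * cm y w * x⁻¹ * cm x w := by simp only [cm]; group
    _ = _ := by rw [h.conj (h.cm_mem hy hw) hx, h.comm (h.cm_mem hy hw) (h.le (h.cm_mem hx hw))]

theorem cm_mul_right (hx : x ∈ R) (hy : y ∈ R) (hw : w ∈ R) : cm x (y * w) = cm x y * cm x w := by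
  calc cm x (y * w) = cm x y * (y * cm x w * y⁻¹) := by simp only [cm]; group
    _ = _ := by rw [h.conj (h.cm_mem hx hw) hy]

theorem cm_symm (hx : x ∈ R) (hy : y ∈ R) : cm x y = cm y x := by
  rw [← Tr.inv_eq_of_mul_self (h.zsq _ (h.cm_mem hx hy))]
  simp only [cm]
  group

theorem cm_left (hz : z ∈ Z) (hx : x ∈ R) : cm z x = 1 := cm_eq_one.2 (h.comm hz hx)
theorem cm_right (hz : z ∈ Z) (hx : x ∈ R) : cm x z = 1 := cm_eq_one.2 (h.comm hz hx).symm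

theorem cm_congr_left (hx : x ∈ R) (hy : y ∈ R) (hw : w ∈ R) (e : x * y⁻¹ ∈ Z) :
    cm x w = cm y w := by
  rw [← inv_mul_cancel_right x y, h.cm_mul_left (h.le e) hy hw, h.cm_left e hw, one_mul]

theorem cm_congr_right (hx : x ∈ R) (hy : y ∈ R) (hw : w ∈ R) (e : x * y⁻¹ ∈ Z) :
    cm w x = cm w y := by
  rw [h.cm_symm hw hx, h.cm_symm hw hy, h.cm_congr_left hx hy hw e]

theorem cm_inv_left (hx : x ∈ R) (hy : y ∈ R) : cm x⁻¹ y = cm x y :=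
  h.cm_congr_left (inv_mem hx) hx hy (by simpa using inv_mem (h.sq x hx))

theorem sq_mul (hx : x ∈ R) (hy : y ∈ R) : x * y * (x * y) = cm x y * (x * x * (y * y)) := by
  calc x * y * (x * y) = cm x y * (y * (x * x) * y⁻¹ * (y * y)) := by simp only [cm]; group
    _ = _ := by rw [h.conj (h.sq x hx) hy]

theorem sq_z_mul (hz : z ∈ Z) (hx : x ∈ R) : z * x * (z * x) = x * x := by
  rw [h.sq_mul (h.le hz) hx, h.cm_left hz hx, h.zsq z hz, one_mul, one_mul]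

theorem norm {A : Subgroup G} (h1 : Z ≤ A) (h2 : A ≤ R) : R ≤ 𝐍(A) :=
  norms_of_conj_mem fun s hs a ha => conj_eq_cm s a ▸ mul_mem (h1 (h.cm_mem hs (h2 ha))) ha

end C2

theorem mem_sup_sq {A : Subgroup G} {x y : G} (hx : x * x ∈ A) (hn : x ∈ 𝐍(A)) :
    y ∈ A ⊔ zpowers x ↔ y ∈ A ∨ y * x⁻¹ ∈ A := by
  refine ⟨fun hy => ?_, fun hy => ?_⟩
  · obtain ⟨a, ha, b, ⟨m, rfl⟩, rfl⟩ := (mem_join_norm (cycle_subG.2 hn)).1 hy
    have h1 : ∀ k : ℤ, (x * x) ^ k = x ^ (2 * k) := fun k => by rw [zpow_mul, zpow_two]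
    rcases Int.even_or_odd' m with ⟨k, rfl | rfl⟩
    · exact Or.inl (mul_mem ha ((h1 k).subst (motive := (· ∈ A)) (zpow_mem hx k)))
    · refine Or.inr ?_
      simp only [zpow_add, zpow_one, mul_assoc, mul_inv_cancel, mul_one]
      exact mul_mem ha (h1 k ▸ zpow_mem hx k)
  · rcases hy with hy | hy
    · exact mem_sup_left hy
    · simpa using mul_mem (mem_sup_left hy) (mem_sup_elt A x)

theorem relIndex_sup_sq {A : Subgroup G} {x : G} (hx : x * x ∈ A) (hn : x ∈ 𝐍(A)) (h : x ∉ A) :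
    A.relIndex (A ⊔ zpowers x) = 2 :=
  relIndex_eq_two_iff_exists_notMem_and.2 ⟨x⁻¹, inv_mem (mem_sup_elt A x), by simpa using h,
    fun _ hb => ((mem_sup_sq hx hn).1 hb).symm⟩

theorem card_sup_sq {A : Subgroup G} {x : G} (hx : x * x ∈ A) (hn : x ∈ 𝐍(A)) (h : x ∉ A) :
    #|A ⊔ zpowers x| = #|A| * 2 := by
  rw [← Lagrange (le_sup_left : A ≤ A ⊔ zpowers x), relIndex_sup_sq hx hn h]

theorem le_or_le {A B C : Subgroup G} (h : ∀ x ∈ A, x ∈ B ∨ x ∈ C) : A ≤ B ∨ A ≤ C := by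
  by_contra hcon
  simp only [not_or, SetLike.not_le_iff_exists] at hcon
  obtain ⟨⟨x, hx, h1⟩, y, hy, h2⟩ := hcon
  rcases h _ (mul_mem hx hy) with h3 | h3
  · exact h1 ((B.mul_mem_cancel_right ((h y hy).resolve_right h2)).1 h3)
  · exact h2 ((C.mul_mem_cancel_left ((h x hx).resolve_left h1)).1 h3)

theorem Dd.inv {Z P : Subgroup G} {d : G} (h : Dd Z P d) (hd : d ∈ 𝐍(Z)) : Dd Z P d⁻¹ :=
  ⟨by simpa using h.odd, inv_mem h.nz, by simpa using h.nc,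
    (inv_mem (show d ∈ GP.cmod Z P from ⟨hd, h.comm⟩)).2⟩

variable [Finite G] {Z P R : Subgroup G}

theorem Cf.cent (h : Cf Z P) : P ≤ 𝐂(P) :=
  abelem_cent (exponent2_abelem fun x hx => by rw [pow_two, h.sq x hx])

theorem Cf.mem_of (h : Cf Z P) (hR : IsPGroup 2 R) (hP : P ≤ R) {y s : G} (hy : y ∈ P)
    (hyZ : y ∉ Z) (hs : s ∈ R) (hc : s * y = y * s) : s ∈ P :=
  (h.all y hy hyZ).mem_of hR hP hs (mem_cent1.2 hc)

theorem Cf.mem_Z (h : Cf Z P) (hR : IsPGroup 2 R) (hP : P ≤ R) {y s : G} (hy : y ∈ P)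
    (hs : s ∈ R) (hsP : s ∉ P) (hc : s * y = y * s) : y ∈ Z := by
  by_contra hyZ
  exact hsP (h.mem_of hR hP hy hyZ hs hc)

/-- two conjugate elements of `P \ Z` are conjugate in `N(P)` -/
theorem exists_norm_conj {Q : Subgroup G} {x g : G} (h1 : SylowIn 2 P 𝐂[x])
    (h2 : SylowIn 2 Q 𝐂[g * x * g⁻¹]) : ∃ n : G, cj n P = Q ∧ n * x * n⁻¹ = g * x * g⁻¹ := by
  obtain ⟨c, hc, e⟩ := h2.exists_cj_eq (cent1J g x ▸ h1.cj g)
  refine ⟨c * g, by rw [Tr.cj_mul, e], ?_⟩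
  calc c * g * x * (c * g)⁻¹ = c * (g * x * g⁻¹) * c⁻¹ := by group
    _ = _ := cent1_conj.1 hc

end

namespace QH

variable {G : Type u} [Group G] [Finite G] {T : Set G} {Z : Subgroup G} (h : QH T Z)
  {P R : Subgroup G} (hP : Cf Z P) (hR : IsPGroup 2 R) (hPR : P ≤ R) (hn : R ≤ 𝐍(P))
include h hP hR hPR hn

theorem sq_mem {s : G} (hs : s ∈ R) : s * s ∈ P := by
  by_contra h1
  have hsP : s ∉ P := fun e => h1 (mul_mem e e)
  have hc := h.cent2 hR (hP.le.trans hPR)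
  have h2 : Z ⊔ zpowers s ≤ 𝐂[s] := sup_le (sub_cent1.2 (hc hs)) (cycle_subG.2 (cent1id s))
  obtain ⟨y, hy, hyZ⟩ := hP.ne
  obtain ⟨x, hx, hxn, hx'⟩ := Tr.exists_mem_normalizer_not_mem (Q := Z ⊔ zpowers s)
    (pgroup_sub (sup_le hPR (cycle_subG.2 hs)) hR) (lt_of_le_of_ne (sup_le_sup_right hP.le _)
      fun e => hyZ (hP.mem_Z hR hPR hy hs hsP (mem_cent1.1 (h2 (e ▸ mem_sup_left hy))).symm))
  obtain ⟨t, ht, b, hb, rfl⟩ := (mem_join_norm (cycle_subG.2 (hn hs))).1 hx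
  have h3 : t ∈ 𝐍(Z ⊔ zpowers s) := by
    simpa using mul_mem hxn (inv_mem (normG _ (mem_sup_right hb)))
  have htZ : t ∉ Z := fun e => hx' (mul_mem_sup e hb)
  have h4 : s * t * s⁻¹ * t⁻¹ ∈ Z := hP.mem_Z hR hPR
    (mul_mem ((memJ_norm (hn hs)).2 ht) (inv_mem ht)) hs hsP (mem_cent1.1 (h2 (by
      have := mul_mem (mem_sup_elt Z s) ((memJ_norm h3).2 (inv_mem (mem_sup_elt Z s)))
      simpa only [mul_assoc] using this))).symm
  refine h1 (hP.mem_of hR hPR ht htZ (mul_mem hs hs) (mul_inv_eq_iff_eq_mul.1 ?_))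
  calc s * s * t * (s * s)⁻¹ = s * (s * t * s⁻¹ * t⁻¹) * s⁻¹ * (s * t * s⁻¹ * t⁻¹) * t := by group
    _ = t := by rw [← mem_cent.1 (hc hs) _ h4, mul_inv_cancel_right, h.sq h4, one_mul]

theorem c2 : C2 Z R := ⟨hP.le.trans hPR, h.cent2 hR (hP.le.trans hPR), fun z hz => h.sq hz,
  fun s hs => by
    by_cases hsP : s ∈ P
    · exact hP.sq s hsP ▸ one_mem _
    · exact hP.mem_Z hR hPR (h.sq_mem hP hR hPR hn hs) hs hsP (mul_assoc _ _ _).symm⟩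

theorem card_le {s : G} (hs : s ∈ R) (hsP : s ∉ P) : #|P| = 8 ∨ #|P| = 16 := by
  have hc := h.c2 hP hR hPR hn
  have h1 := index_cent1_le (A := P) (K := Z) (x := s) fun a ha => hc.cm_mem (hPR ha) hs
  have h2 : 𝐂[s] ⊓ P = Z := le_antisymm (fun y hy => hP.mem_Z hR hPR hy.2 hs hsP
    (mem_cent1.1 hy.1).symm) (le_inf (sub_cent1.2 (hc.cent hs)) hP.le)
  have h3 := LagrangeI 𝐂[s] P
  obtain ⟨y, hy, hyZ⟩ := hP.ne
  have h4 := proper_card (lt_of_le_of_ne hP.le fun e => hyZ (e ▸ hy))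
  obtain ⟨k, hk⟩ := IsPGroup.iff_card.1 hP.two
  rw [h2] at h3
  rw [h.card] at h1 h3 h4
  have h5 : 2 < k := (Nat.pow_lt_pow_iff_right one_lt_two).1 (by omega)
  have h6 : k ≤ 4 := (Nat.pow_le_pow_iff_right one_lt_two).1 (by omega)
  interval_cases k <;> omega

omit hn in
theorem mem_of_cm (hc : C2 Z R) {y s t : G} (hy : y ∈ P) (hyZ : y ∉ Z) (hs : s ∈ R) (ht : t ∈ R)
    (e : cm s y = cm t y) : s * t⁻¹ ∈ P := by
  refine hP.mem_of hR hPR hy hyZ (mul_mem hs (inv_mem ht)) (cm_eq_one.1 ?_)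
  rw [hc.cm_mul_left hs (inv_mem ht) (hPR hy), hc.cm_inv_left ht (hPR hy), e,
    h.sq (hc.cm_mem ht (hPR hy))]

section
variable {d : G} (hd : Dd Z P d) (hdR : d ∈ 𝐍(R))
include hd hdR

theorem cm_conj {y s : G} (hy : y ∈ P) (hs : s ∈ R) :
    cm (d * s * d⁻¹) y = d * cm s y * d⁻¹ := by
  rw [conj_cm, (h.c2 hP hR hPR hn).cm_congr_right (hPR ((memJ_norm hd.nz).2 hy)) (hPR hy)
    ((memJ_norm hdR).2 hs) (hd.comm y hy)]

theorem mem_of_comm {s : G} (hs : s ∈ R) (e : d * s * d⁻¹ * s⁻¹ ∈ P) : s ∈ P := by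
  have hc := h.c2 hP hR hPR hn
  obtain ⟨y, hy, hyZ⟩ := hP.ne
  refine hP.mem_of hR hPR hy hyZ hs (cm_eq_one.1 (h.eq_one_of_fix (h.norm_le hP.two hP.le hd.nz)
    hd.nc (hc.cm_mem hs (hPR hy)) ?_))
  rw [← h.cm_conj hP hR hPR hn hd hdR hy hs, ← inv_mul_cancel_right (d * s * d⁻¹) s,
    hc.cm_mul_left (hPR e) hs (hPR hy), cm_eq_one.2 (centsP.1 hP.cent _ e y hy), one_mul]

theorem cube_cent {s : G} (hs : s ∈ R) : d * (d * (d * s * d⁻¹) * d⁻¹) * d⁻¹ = s := by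
  have hc := h.c2 hP hR hPR hn
  have hdZ := h.norm_le hP.two hP.le hd.nz
  have h3 := h.cube_mem hdZ hd.nc
  have ho : Odd (orderOf (d * d * d)) := Tr.odd_orderOf_of_mem_zpowers hd.odd
    (mul_mem (mul_mem (mem_zpowers d) (mem_zpowers d)) (mem_zpowers d))
  have hm : d ∈ GP.cmod Z P := ⟨hdZ, hd.comm⟩
  have h1 : d * d * d ∈ 𝐂(P) := mem_cent.2 fun t ht => (mul_inv_eq_iff_eq_mul.1
    (stable2 ho h.two h3 ((mul_mem (mul_mem hm hm) hm).2 t ht))).symm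
  obtain ⟨y, hy, hyZ⟩ := hP.ne
  have h2 := (memJ_norm (mul_mem (mul_mem hdR hdR) hdR)).2 hs
  refine Eq.trans (by group) (stable2 ho hP.two h1 (h.mem_of_cm hP hR hPR hc hy hyZ h2 hs ?_))
  rw [← cent1_conj.1 (cent_le_cent1 hy h1), ← conj_cm, cent1_conj.1 (cent_le_cent1 hy h1),
    cent1_conj.1 (cent_le_cent1 (hc.cm_mem hs (hPR hy)) h3)]

end

end QH

theorem QH.exists_dR {G : Type u} [Group G] [Finite G] {T : Set G} {Z : Subgroup G} (h : QH T Z)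
    {P R : Subgroup G} (hP : Cf Z P) (hR : SylowIn 2 R 𝐍(P)) (hPR : P ≤ R) :
    ∃ d, Dd Z P d ∧ d ∈ 𝐍(R) := by
  obtain ⟨y, hy, hyZ⟩ := hP.ne
  obtain ⟨d, hd, -, -⟩ := h.exists_d (hP.all y hy hyZ)
  have hc := h.c2 hP hR.isPGroup hPR hR.le
  have hdZ := h.norm_le hP.two hP.le hd.nz
  have hdm : d ∈ GP.cmod Z P := ⟨hdZ, hd.comm⟩
  obtain ⟨k, hk, v, hv, vo, h1, h2⟩ := h.exists_odd (K := 𝐍(P) ⊓ GP.cmod Z P ⊓ 𝐂(Z))
    (hR.mono (le_inf (le_inf hR.le fun s hs => ⟨cent_sub Z (hc.cent hs), fun t ht =>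
      hc.cm_mem hs (hPR ht)⟩) hc.cent) (inf_le_left.trans inf_le_left)) hc.le inf_le_right
    (cycle_subG.1 (normsI (normsG (cycle_subG.2 ⟨hd.nz, hdm⟩)) (norms_cent (cycle_subG.2 hdZ))))
    hd.nc
  have h3 := cycle_subG.2 (mul_mem hk.1 (show d ∈ 𝐍(P) ⊓ GP.cmod Z P from ⟨hd.nz, hdm⟩)) hv
  exact ⟨v, ⟨vo, h3.1, h2, h3.2.2⟩, cycle_subG.2 h1 hv⟩

end Cfsg.Agent.SC.QX
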