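import Cfsg.Agent.Lib.SC.QX4
import Cfsg.Agent.Lib.Transfer.FStar2
import Cfsg.Agent.Lib.Transfer.Alperin

/-! Theorem Q, step Q5 (f): the case `|P| = 8`. -/

set_option autoImplicit false
set_option linter.unusedSectionVars false
set_option linter.unusedVariables false

namespace Cfsg.Agent.SC.QX

open Subgroup Cfsg.Agent.FT Cfsg.Agent.SF Cfsg.Agent.SF.GP
open Cfsg.Agent.Tr (SylowIn)

universe u

section
variable {G : Type*} [Group G] [Finite G]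

theorem exists_of_index_cent1 {A K : Subgroup G} {x : G}
    (h : ∀ a ∈ A, a * x * a⁻¹ * x⁻¹ ∈ K) (hc : #|K| ≤ 𝐂[x].relIndex A) {k : G} (hk : k ∈ K) :
    ∃ a ∈ A, a * x * a⁻¹ * x⁻¹ = k := by
  let f : A ⧸ 𝐂[x].subgroupOf A → K := Quotient.lift
    (fun a : A => (⟨a * x * (a : G)⁻¹ * x⁻¹, h a a.2⟩ : K)) fun a b hab => by
      have h1 : (a : G)⁻¹ * b ∈ 𝐂[x] :=
        (QuotientGroup.leftRel_apply (s := 𝐂[x].subgroupOf A)).mp hab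
      rw [mem_cent1] at h1
      refine Subtype.ext ?_
      show (a : G) * x * (a : G)⁻¹ * x⁻¹ = b * x * (b : G)⁻¹ * x⁻¹
      calc (a : G) * x * (a : G)⁻¹ * x⁻¹ = a * (x * ((a : G)⁻¹ * b)) * (b : G)⁻¹ * x⁻¹ := by group
        _ = _ := by rw [← h1]; group
  have hf : Function.Injective f := fun a b => by
    induction a using QuotientGroup.induction_on with | H a => ?_
    induction b using QuotientGroup.induction_on with | H b => ?_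
    intro hab
    have h1 : (a : G) * x * (a : G)⁻¹ = b * x * (b : G)⁻¹ :=
      mul_right_cancel (congrArg Subtype.val hab)
    refine QuotientGroup.eq.2 (cent1_conj.2 ?_ : (a : G)⁻¹ * b ∈ 𝐂[x])
    calc (a : G)⁻¹ * b * x * ((a : G)⁻¹ * b)⁻¹ = (a : G)⁻¹ * (b * x * (b : G)⁻¹) * a := by group
      _ = x := by rw [← h1]; group
  obtain ⟨a, ha⟩ := (hf.bijective_of_nat_card_le hc).2 ⟨k, hk⟩
  induction a using QuotientGroup.induction_on with | H a => ?_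
  exact ⟨a, a.2, congrArg Subtype.val ha⟩

theorem exists_central_mod {P N : Subgroup G} (hP : IsPGroup 2 P) (hn : P ≤ 𝐍(N))
    (h : ¬ P ≤ N) : ∃ s ∈ P, s ∉ N ∧ s * s ∈ N ∧ ∀ t ∈ P, s * t * s⁻¹ * t⁻¹ ∈ N := by
  have := finite_coset N
  obtain ⟨y, hy, y2, hc⟩ := exists_central (quotient_isPGroup N hP) (Nrm.refl _)
    (mt (quotient_eq_bot hn).1 h)
  obtain ⟨s, hs, rfl⟩ := (mem_qt_of_le hn).1 hy
  refine ⟨s, hs, fun e => Tr.ne_one_of_orderOf_two y2 (coset_id e), ?_, fun t ht => ?_⟩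
  · rw [← sq, ← cst_pow_eq_one (hn hs), Tr.sq_of_orderOf_two y2]
  · exact (commute_cst (hn hs) (hn ht)).1 (mem_cent1.1 (hc (mem_quotient N ht))).symm

theorem mem_of_mem_comm {K A R : Subgroup G} (hA : A ≤ 𝐍(K)) (hK : K ≤ 𝐍(R)) (hA' : A ≤ 𝐍(R))
    (hc : (#|K|).Coprime #|A|) (hab : ⁅K, K⁆ ≤ R) {w : G} (h1 : w ∈ ⁅K, A⁆) (h2 : w ∈ 𝐂(A)) :
    w ∈ R := by
  have := finite_coset R
  have h3 := coprime_abel_cent_TI (quotient_norms R hA) (coprime_quotient R hc) (sub_der1_abelian hab)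
  rw [← quotientR hK hA'] at h3
  exact coset_idr (commg_le_norm hK hA' h1) (mem_bot.1 (h3 ▸ mem_inf.2
    ⟨mem_quotient R h1, quotient_cent R A (mem_quotient R h2)⟩))

theorem cop_elt {P : Subgroup G} (hP : IsPGroup 2 P) {d : G} (hd : Odd (orderOf d)) :
    (#|P|).Coprime #|zpowers d| := (cop2 (by rwa [Nat.card_zpowers]) hP).symm

theorem prod_three {R : Subgroup G} {d : G} (hd : d ∈ 𝐍(R))
    (hf : ∀ x ∈ R, d * x * d⁻¹ = x → x = 1) (h3 : d * d * d ∈ 𝐂(R)) {x : G} (hx : x ∈ R) :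
    x * (d * x * d⁻¹) * (d * (d * x * d⁻¹) * d⁻¹) = 1 := by
  have h1 : MonoidHom.FixedPointFree (R.normalizerMonoidHom ⟨d, hd⟩) := fun y hy =>
    Subtype.ext (hf y y.2 (congrArg Subtype.val hy))
  have h2 := h1.prod_pow_eq_one (n := 3) (funext fun y => Subtype.ext (by
    change d * (d * (d * y * d⁻¹) * d⁻¹) * d⁻¹ = y
    exact Eq.trans (by group) (cent1_conj.1 (cent_le_cent1 y.2 h3)))) ⟨x, hx⟩
  have h4 := congrArg Subtype.val h2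
  simp only [List.range_succ, List.range_zero, List.nil_append, List.map_append, List.map_cons,
    List.map_nil, List.prod_append, List.prod_cons, List.prod_nil, mul_one, coe_mul] at h4
  exact h4

end

/-- the triples of step (f) -/
structure Tp {G : Type*} [Group G] (Z P₀ : Subgroup G) (w : G) (P : Subgroup G) (d : G) : Prop where
  two : IsPGroup 2 P
  le : P₀ ≤ P
  odd : Odd (orderOf d)
  cw : d ∈ 𝐂[w]
  nz : d ∈ 𝐍(P)
  nc : d ∉ 𝐂(Z)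

namespace QH

variable {G : Type u} [Group G] [Finite G] {T : Set G} {Z : Subgroup G} (h : QH T Z)
  {P₀ P : Subgroup G} {w d : G} (hw : BS Z w P₀) (h8 : P₀ = Z ⊔ zpowers w) (ht : Tp Z P₀ w P d)
include h hw h8 ht

theorem tp_fix {x : G} (hx : x ∈ P) (hc : x ∈ 𝐂[d]) : x = 1 ∨ x = w := by
  have hdZ := h.norm_le ht.two (hw.le.trans ht.le) ht.nz
  have h1 : zpowers w ≤ P ⊓ 𝐂[d] := cycle_subG.2 ⟨ht.le hw.mem, cent1C.1 ht.cw⟩
  rw [← mem_zpowers_invol hw.sq]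
  by_contra hcon
  obtain ⟨y, hy, hyn, hy'⟩ := Tr.exists_mem_normalizer_not_mem (pgroup_sub inf_le_left ht.two)
    (lt_of_le_of_ne h1 fun e => hcon (e ▸ mem_inf.2 ⟨hx, hc⟩))
  have h2 : y ∈ P₀ := hw.mem_of ht.two ht.le hy.1 (cent1_conj.2
    (((mem_zpowers_invol hw.sq).1 ((memJ_norm hyn).2 (mem_zpowers w))).resolve_left
      (by simpa using hw.ne)))
  rcases (mem_sup_invol hw.sq (cent_sub Z hw.cent)).1 (h8 ▸ h2) with h3 | ⟨z, hz, rfl⟩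
  · exact hy' (h.eq_one_of_fix hdZ ht.nc h3 (cent1_conj'.1 hy.2) ▸ one_mem _)
  · have h4 : z ∈ 𝐂[d] := (𝐂[d].mul_mem_cancel_right (cent1C.1 ht.cw)).1 hy.2
    rw [h.eq_one_of_fix hdZ ht.nc hz (cent1_conj'.1 h4), one_mul] at hy'
    exact hy' (mem_zpowers w)

theorem tp_cube : d * d * d ∈ 𝐂(P) := by
  have hdZ := h.norm_le ht.two (hw.le.trans ht.le) ht.nz
  have h1 : d * d * d ∈ 𝐂(zpowers w) := by
    rw [cent_cycle]
    exact mul_mem (mul_mem ht.cw ht.cw) ht.cw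
  refine Tr.mem_centralizer_of_p_times_q (pgroup_invol hw.sq) ht.two
    (normsG (cycle_subG.2 (ht.le hw.mem))) (Nat.coprime_two_right.2
      (Tr.odd_orderOf_of_mem_zpowers ht.odd (mul_mem (mul_mem (mem_zpowers d) (mem_zpowers d))
        (mem_zpowers d)))) h1 (mul_mem (mul_mem ht.nz ht.nz) ht.nz)
    (centS (show P ⊓ 𝐂(zpowers w) ≤ P₀ from
      fun x hx => hw.mem_of ht.two ht.le hx.1 (cent_cycle w ▸ hx.2)) ?_)
  rw [h8, centY]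
  exact ⟨h.cube_mem hdZ ht.nc, h1⟩

theorem tp_dec {x : G} (hx : x ∈ P) : x ∈ ⁅P, zpowers d⁆ ∨ x * w ∈ ⁅P, zpowers d⁆ := by
  obtain ⟨a, ha, b, hb, rfl⟩ := (coprime_cent_prod (cycle_subG.2 ht.nz) (cop_elt ht.two ht.odd)
    (Or.inr (pgroup_sol ht.two))).exists hx
  rcases h.tp_fix hw h8 ht hb.1 (cent_cycle d ▸ hb.2) with rfl | rfl
  · exact Or.inl (by simpa using ha)
  · exact Or.inr (by simpa [mul_assoc, hw.sq] using ha)

theorem tp_le : Z ≤ ⁅P, zpowers d⁆ := fun z hz => by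
  obtain ⟨y, hy, rfl⟩ := h.exists_comm (h.norm_le ht.two (hw.le.trans ht.le) ht.nz) ht.nc hz
  rw [commGC]
  exact mem_commg (mem_zpowers d) (ht.le (hw.le hy))

variable (hS : S1174Stmt.{u}) (hm : Mb Z 8) (hR : w ∉ ⁅P, zpowers d⁆)
include hS hm hR

theorem tp_omega {x : G} (hx : x ∈ ⁅P, zpowers d⁆) (x2 : x * x = 1) : x ∈ Z := by
  by_contra hxZ
  have hdZ := h.norm_le ht.two (hw.le.trans ht.le) ht.nz
  have hRP : ⁅P, zpowers d⁆ ≤ P := commg_subl.2 (cycle_subG.2 ht.nz)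
  have hdR := commg_normr P _ (mem_zpowers d)
  have hc := h.cent2 ht.two (hw.le.trans ht.le)
  have h1 := prod_three hdR (fun y hy e => (h.tp_fix hw h8 ht (hRP hy) (cent1_conj'.2 e)).resolve_right
    fun e' => hR (e' ▸ hy)) (centS hRP (h.tp_cube hw h8 ht)) hx
  have hy := (memJ_norm hdR).2 hx
  have y2 := Tr.conj_mul_self x2 d
  have h2 := Tr.conj_mul_self y2 d
  have h3 : x * (d * x * d⁻¹) = d * (d * x * d⁻¹) * d⁻¹ := by
    rw [eq_inv_of_mul_eq_one_left h1, Tr.inv_eq_of_mul_self h2]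
  have h4 : x * (d * x * d⁻¹) = d * x * d⁻¹ * x := by
    rw [← Tr.inv_eq_of_mul_self (h3 ▸ h2 : x * (d * x * d⁻¹) * (x * (d * x * d⁻¹)) = 1), mul_inv_rev,
      Tr.inv_eq_of_mul_self x2, Tr.inv_eq_of_mul_self y2]
  have h5 : d * x * d⁻¹ ∉ Z ⊔ zpowers x := fun e => by
    rcases (mem_sup_invol x2 (cent_sub Z (hc (hRP hx)))).1 e with e | ⟨z, hz, e⟩
    · exact hxZ ((memJ_norm hdZ).1 e)
    · have h6 : x * (z * x) = z := by
        rw [← mul_assoc, ← mem_cent.1 (hc (hRP hx)) z hz, mul_assoc, x2, mul_one]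
      nth_rw 1 [e] at h3
      exact hxZ ((memJ_norm hdZ).1 ((memJ_norm hdZ).1 (h3 ▸ h6.symm ▸ hz)))
  have h6 : d * x * d⁻¹ ∈ 𝐂(Z ⊔ zpowers x) := by
    rw [centY, cent_cycle]
    exact ⟨hc (hRP hy), mem_cent1.2 h4.symm⟩
  have hE := abelem_sup_invol (abelem_sup_invol (four_abelem h.four) x2 (hc (hRP hx))) y2 h6
  obtain ⟨z, hz, hb⟩ := h.exists_bad hS x2 (hc (hRP hx)) hxZ
  have h7 : z * x ∈ Z ⊔ zpowers x ⊔ zpowers (d * x * d⁻¹) :=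
    mem_sup_left (mul_mem_sup hz (mem_zpowers x))
  have h9 := hm (z * x) (by rw [← sq, abelem_pow hE h7]) (mul_mem (h.cent hz) (hc (hRP hx)))
    (fun e => hxZ ((Z.mul_mem_cancel_left hz).1 e)) hb _
    ((abelem_cent hE).trans (cent_le_cent1 h7))
    (pgroup_sub (sup_le (sup_le (hw.le.trans ht.le) (cycle_subG.2 (hRP hx)))
      (cycle_subG.2 (hRP hy))) ht.two)
  rw [card_sup_invol y2 (cent_sub _ h6) h5, card_sup_invol x2 (cent_sub Z (hc (hRP hx))) hxZ,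
    h.card] at h9
  omega

theorem tp_index : ⁅P, zpowers d⁆.relIndex P = 2 :=
  relIndex_eq_two_iff_exists_notMem_and.2 ⟨w, ht.le hw.mem, hR,
    fun b hb => (h.tp_dec hw h8 ht hb).symm⟩

theorem tp_not_sylow : ¬ SylowIn 2 P ⊤ := fun hP => by
  obtain ⟨g, h1, -⟩ := Tr.thompson_transfer h.index_ne_two hP (h.tp_index hw h8 ht hS hm hR)
    (u := w) (by rw [sq, hw.sq])
  exact hw.nm (h.mem_of_norm (h.fam.conj_iff.1 (h.sub _ (h.tp_omega hw h8 ht hS hm hR h1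
    (Tr.conj_mul_self hw.sq g)))) (cent_sub Z hw.cent))

theorem tp_step : ∃ P' d', P < P' ∧ Tp Z P₀ w P' d' ∧ w ∉ ⁅P', zpowers d'⁆ := by
  obtain ⟨P₁, hP₁, hlt⟩ := exists_gt ht.two (h.tp_not_sylow hw h8 ht hS hm hR)
  have hZP := hw.le.trans ht.le
  have hU := h.norm_le ht.two hZP
  have hw' := ht.le hw.mem
  obtain ⟨R, hRd⟩ : ∃ R, R = ⁅P, zpowers d⁆ := ⟨_, rfl⟩
  have hRP : R ≤ P := hRd ▸ commg_subl.2 (cycle_subG.2 ht.nz)
  have hdec : ∀ x ∈ P, x ∈ R ∨ x * w ∈ R := fun x hx => hRd ▸ h.tp_dec hw h8 ht hx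
  have hidx : R.relIndex P = 2 := hRd ▸ h.tp_index hw h8 ht hS hm hR
  have hnR : ∀ g ∈ 𝐍(P), g * w * g⁻¹ ∉ R := fun g hg e => hw.nm ((memJ_norm (hU hg)).1
    (h.tp_omega hw h8 ht hS hm hR (hRd ▸ e) (Tr.conj_mul_self hw.sq g)))
  have hcm : ∀ g ∈ 𝐍(P), g * w * g⁻¹ * w⁻¹ ∈ R := fun g hg => by
    rw [Tr.inv_eq_of_mul_self hw.sq]
    exact (hdec _ ((memJ_norm hg).2 hw')).resolve_left (hnR g hg)
  have h0 : P₀ ≤ P₁ := ht.le.trans hlt.le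
  have hc8 : 8 * 𝐂[w].relIndex P₁ = #|P₁| := by
    rw [← LagrangeI 𝐂[w] P₁, le_antisymm (fun x hx => hw.mem_of hP₁.isPGroup h0 hx.2 hx.1)
      (le_inf hw.syl.le h0 : P₀ ≤ 𝐂[w] ⊓ P₁), h8,
      card_sup_invol hw.sq (cent_sub Z hw.cent) hw.nm, h.card]
  have hc2 := Lagrange hRP
  have hc1 := Lagrange hlt.le
  obtain ⟨k, hk⟩ := Tr.relIndex_eq_pow_of_isPGroup P hP₁.isPGroup
  have hk0 : k ≠ 0 := fun e => hlt.not_ge (indexg_eq1.1 (by rw [hk, e, pow_zero]))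
  have hk2 : 2 ≤ 2 ^ k := Nat.le_self_pow hk0 2
  rw [hidx] at hc2
  rw [hk, ← hc2] at hc1
  -- the normalizer of `P₁` is generated by `P₁` and the centralizer of `w`
  have hV : 𝐍(P) ⊓ 𝐍(P₁) ≤ P₁ ⊔ (𝐍(P) ⊓ 𝐍(P₁) ⊓ 𝐂[w]) := by
    have hn : 𝐍(P) ⊓ 𝐍(P₁) ⊓ 𝐂[w] ≤ 𝐍(P₁) := inf_le_left.trans inf_le_right
    have hle : P₁ ≤ 𝐍(P) ⊓ 𝐍(P₁) := le_inf hP₁.le (normG _)
    have h1 := Lagrange_index (le_sup_right : 𝐍(P) ⊓ 𝐍(P₁) ⊓ 𝐂[w] ≤ P₁ ⊔ _)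
      (sup_le hle inf_le_left)
    rw [index_join_right hn, indexgI, ← indexgI P₁, ← inf_assoc, inf_eq_left.2 hle, indexgI] at h1
    have h2 := index_cent1_le (A := 𝐍(P) ⊓ 𝐍(P₁)) fun a ha => hcm a ha.1
    have h3 := (hP₁.mono hle inf_le_left).not_dvd_relIndex_of_le
      (K := P₁ ⊔ (𝐍(P) ⊓ 𝐍(P₁) ⊓ 𝐂[w])) le_sup_left (sup_le hle inf_le_left)
    have h4 := indexg_gt0 (𝐍(P) ⊓ 𝐍(P₁)) (P₁ ⊔ (𝐍(P) ⊓ 𝐍(P₁) ⊓ 𝐂[w]))
    have h5 := cardG_gt0 R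
    rw [← indexg_eq1]
    generalize (P₁ ⊔ (𝐍(P) ⊓ 𝐍(P₁) ⊓ 𝐂[w])).relIndex (𝐍(P) ⊓ 𝐍(P₁)) = j at h1 h3 h4
    by_contra h6
    have h7 : 3 ≤ j := by omega
    nlinarith
  obtain ⟨d₁, ht₁, hd₁⟩ : ∃ d₁, Tp Z P₀ w P₁ d₁ ∧ d₁ ∈ 𝐍(P) := by
    have hc := h.cent2 hP₁.isPGroup (hZP.trans hlt.le)
    obtain ⟨a, ha, y, hy, e⟩ := (hP₁.mono (le_inf hP₁.le hc) inf_le_left).frattini (x := d)
      (cycle_subG.1 (normsI (normsG (cycle_subG.2 ht.nz)) (norms_cent (cycle_subG.2 (hU ht.nz)))))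
    have h1 : y ∈ 𝐍(P) := (𝐍(P).mul_mem_cancel_left ha.1).1 (e ▸ ht.nz)
    obtain ⟨p, hp, c, hc', rfl⟩ := (mem_join_norm (inf_le_left.trans inf_le_right)).1 (hV ⟨h1, hy⟩)
    obtain ⟨u, hu, v, hv, u2, vo, e'⟩ := exists_parts c
    have h2 := cycle_subG.2 hc' hv
    exact ⟨v, ⟨hP₁.isPGroup, h0, vo, h2.2, h2.1.2, fun h3 => ht.nc (e ▸ mul_mem ha.2 (mul_mem (hc hp)
      (e' ▸ mul_mem (h.two_cent u2 (hU (cycle_subG.2 hc' hu).1.1)) h3)))⟩, h2.1.1⟩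
  have hk4 : 4 ≤ 2 ^ k := by
    by_contra h1
    have h2 : P.relIndex P₁ = 2 := by
      rcases k with _ | _ | k
      · exact absurd rfl hk0
      · exact hk
      · exact absurd (by rw [pow_add, pow_add]; have := Nat.one_le_two_pow (n := k); omega) h1
    have h3 : ⁅P₁, zpowers d₁⁆ ≤ P := commg_le.2 fun a ha b hb => by
      have h4 := cycle_subG.2 ht₁.nz hb
      rw [mul_assoc, mul_assoc, ← mul_assoc b, Tr.mul_mem_iff_of_relIndex_two h2 ha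
        ((memJ_norm h4).2 (inv_mem ha)), memJ_norm (cycle_subG.2 hd₁ hb), inv_mem_iff]
    exact hlt.not_ge fun x hx => (h.tp_dec hw h8 ht₁ hx).elim (fun e => h3 e)
      fun e => (P.mul_mem_cancel_right hw').1 (h3 e)
  have hsurj : ∀ x ∈ P, x ∉ R → ∃ a ∈ P₁, a * w * a⁻¹ = x := fun x hx hxR => by
    obtain ⟨a, ha, e⟩ := exists_of_index_cent1 (A := P₁) (fun a ha => hcm a (hP₁.le ha))
      (by nlinarith) ((hdec x hx).resolve_left hxR)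
    rw [Tr.inv_eq_of_mul_self hw.sq] at e
    exact ⟨a, ha, mul_right_cancel e⟩
  have hUR : 𝐍(P) ≤ 𝐍(R) := norms_of_conj_mem fun g hg r hr => by
    by_contra h1
    obtain ⟨a, ha, e⟩ := hsurj _ ((memJ_norm hg).2 (hRP hr)) h1
    refine hnR _ (mul_mem (inv_mem hg) (hP₁.le ha)) ?_
    convert hr using 1
    calc g⁻¹ * a * w * (g⁻¹ * a)⁻¹ = g⁻¹ * (a * w * a⁻¹) * g := by group
      _ = r := by rw [e]; group
  let P₂ : Subgroup G := Tr.subgroupOfMulClosed {s | s ∈ P₁ ⊓ GP.cmod P P₁ ∧ s * s ∈ P}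
    ⟨one_mem _, by simp⟩ fun a ha b hb => ⟨mul_mem ha.1 hb.1, by
      have := mul_mem (mul_mem ((memJ_norm ha.1.2.1).2 (hb.1.2.2 a ha.1.1)) ha.2) hb.2
      convert this using 1
      group⟩
  have hm₂ : ∀ s, s ∈ P₂ ↔ s ∈ P₁ ⊓ GP.cmod P P₁ ∧ s * s ∈ P := fun s => Iff.rfl
  have h21 : P₂ ≤ P₁ := fun s hs => hs.1.1
  have hP2 : P ≤ P₂ := fun s hs => ⟨⟨hlt.le hs, self_le_cmod (fun t ht => hP₁.le ht) hs⟩,
    mul_mem hs hs⟩
  have hd2 : d₁ ∈ 𝐍(P₂) := Tr.mem_normalizer_of_forall fun s hs =>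
    ⟨⟨(memJ_norm ht₁.nz).2 hs.1.1, (memJ_norm (norm_cmod hd₁ ht₁.nz)).2 hs.1.2⟩,
      by rw [conj_mul]; exact (memJ_norm hd₁).2 hs.2⟩
  have hsq : ∀ s ∈ P₂, s * s ∈ R := fun s hs => by
    by_contra h1
    obtain ⟨a, ha, e⟩ := hsurj _ hs.2 h1
    have h2 : a⁻¹ * s * a * (a⁻¹ * s * a) = w := by
      calc _ = a⁻¹ * (s * s) * a := by group
        _ = w := by rw [← e]; group
    have h3 := hw.mem_of hP₁.isPGroup h0 (mul_mem (mul_mem (inv_mem ha) (h21 hs)) ha)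
      (mem_cent1.2 (by rw [← h2]; group))
    have h4 := abelem_pow (abelem_sup_invol (four_abelem h.four) hw.sq hw.cent) (h8 ▸ h3)
    exact hw.ne (h2.symm.trans (by rw [← sq, h4]))
  obtain ⟨s, hs, hsP, s2, hsc⟩ := exists_central_mod hP₁.isPGroup hP₁.le hlt.not_ge
  refine ⟨P₂, d₁, lt_of_le_of_ne hP2 fun e => hsP (e ▸ (hm₂ s).2 ⟨⟨hs, hP₁.le hs, hsc⟩, s2⟩),
    ⟨pgroup_sub h21 hP₁.isPGroup, ht.le.trans hP2, ht₁.odd, ht₁.cw, hd2, ht₁.nc⟩, fun e => ?_⟩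
  refine hR (hRd ▸ mem_of_mem_comm (cycle_subG.2 hd2) ((h21.trans hP₁.le).trans hUR)
    (cycle_subG.2 (hUR hd₁)) (cop_elt (pgroup_sub h21 hP₁.isPGroup) ht₁.odd)
    (commg_le.2 fun a ha b hb => ?_) e (cent_cycle d₁ ▸ cent1C.1 ht₁.cw))
  have h1 := mul_mem (hsq _ (mul_mem ha hb)) (inv_mem (mul_mem
    ((memJ_norm (hUR (hP₁.le (h21 hb)))).2 (hsq a ha)) (hsq b hb)))
  convert h1 using 1
  group

end QH

/-- (f) -/
theorem QH.not_eight {G : Type u} [Group G] [Finite G] {T : Set G} {Z : Subgroup G} (h : QH T Z)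
    (hS : S1174Stmt.{u}) {P₀ : Subgroup G} {w : G} (hw : BS Z w P₀) (hm : Mb Z #|P₀|) :
    #|P₀| ≠ 8 := fun e => by
  have h8 : P₀ = Z ⊔ zpowers w := (eq_of_le_of_card_ge (sup_le hw.le (cycle_subG.2 hw.mem)) (by
    rw [e, card_sup_invol hw.sq (cent_sub Z hw.cent) hw.nm, h.card])).symm
  have key : ∀ P : Subgroup G, ∀ d, Tp Z P₀ w P d → w ∈ ⁅P, zpowers d⁆ := fun P => by
    induction P using WellFoundedGT.induction with | _ P ih => ?_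
    intro d ht
    by_contra hR
    obtain ⟨P', d', h1, h2, h3⟩ := h.tp_step hw h8 ht hS (e ▸ hm) hR
    exact h3 (ih P' h1 d' h2)
  obtain ⟨d, hd, hdw, -⟩ := h.exists_d hw
  exact hw.nm (comm_zpowers_le (h.norm_le hw.two hw.le hd.nz) hd.comm
    (commGC P₀ _ ▸ key P₀ d ⟨hw.two, le_rfl, hd.odd, hdw, hd.nz, hd.nc⟩))

end Cfsg.Agent.SC.QX
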