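import Cfsg.Agent.Lib.SC.QX4

/-! Theorem Q, step Q5 (g): the second abelian subgroup of order 16, and the homocyclic case. -/

set_option autoImplicit false
set_option linter.unusedSectionVars false
set_option linter.unusedVariables false

namespace Cfsg.Agent.SC.QX

open Subgroup Cfsg.Agent.FT Cfsg.Agent.SF Cfsg.Agent.SF.GP
open Cfsg.Agent.Tr (SylowIn)

universe u

/-- an abelian complement to `P` in `R` modulo `Z` -/
structure Tw {G : Type*} [Group G] (Z P R A : Subgroup G) : Prop where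
  le : Z ≤ A
  sub : A ≤ R
  inf : ∀ x ∈ A, x ∈ P → x ∈ Z
  dec : ∀ s ∈ R, ∃ y ∈ P, ∃ a ∈ A, s = y * a
  card : #|A| = 16
  two : ∃ a ∈ A, ∃ b ∈ A, a ∉ P ∧ b ∉ P ∧ a * b ∉ P

section
variable {G : Type*} [Group G] [Finite G] {Z P R : Subgroup G}

theorem Cf.exists_third (hP : Cf Z P) (hc : C2 Z R) (hPR : P ≤ R) (h4 : #|Z| = 4)
    (h16 : #|P| = 16) {y : G} (hy : y ∈ P) (hyZ : y ∉ Z) : ∃ x ∈ P, x ∉ Z ∧ x * y⁻¹ ∉ Z := by
  have hn := cent_sub Z (hc.cent (hPR hy))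
  have h1 : ¬ P ≤ Z ⊔ zpowers y := fun e => by
    have := card_le_of_le e
    rw [card_sup_invol (hP.sq y hy) hn hyZ] at this
    omega
  obtain ⟨x, hx, h2⟩ := SetLike.not_le_iff_exists.1 h1
  rw [mem_sup_sq (hc.sq y (hPR hy)) hn, not_or] at h2
  exact ⟨x, hx, h2⟩

theorem Cf.cm_inj (hP : Cf Z P) (hc : C2 Z R) (hR : IsPGroup 2 R) (hPR : P ≤ R) {a x y : G}
    (ha : a ∈ R) (haP : a ∉ P) (hx : x ∈ P) (hy : y ∈ P) (e : cm a x = cm a y) : x * y⁻¹ ∈ Z := by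
  refine hP.mem_Z hR hPR (mul_mem hx (inv_mem hy)) ha haP (cm_eq_one.1 ?_)
  rw [Tr.inv_eq_of_mul_self (hP.sq y hy), hc.cm_mul_right ha (hPR hx) (hPR hy), e,
    hc.zsq _ (hc.cm_mem ha (hPR hy))]

end

namespace QH

variable {G : Type u} [Group G] [Finite G] {T : Set G} {Z : Subgroup G} (h : QH T Z)
  {P R : Subgroup G} (hP : Cf Z P) (hR : SylowIn 2 R 𝐍(P)) (hPR : P < R) (h16 : #|P| = 16)
include h hP hR hPR h16

theorem exists_tw : ∃ A, Tw Z P R A ∧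
    ((∀ a ∈ A, a * a = 1) ∨ ∃ i ∈ P, i ∉ Z ∧ ∀ a ∈ A, cm a i = a * a) := by
  obtain ⟨d, hd, hdR⟩ := h.exists_dR hP hR hPR.le
  have h2 := hR.isPGroup
  have hc := h.c2 hP h2 hPR.le hR.le
  have hdZ := h.norm_le hP.two hP.le hd.nz
  obtain ⟨s, hs, hsP⟩ := SetLike.not_le_iff_exists.1 hPR.not_ge
  obtain ⟨r, hr⟩ : ∃ r, r = d * s * d⁻¹ * s⁻¹ := ⟨_, rfl⟩
  have m0 : r ∈ R := hr ▸ mul_mem ((memJ_norm hdR).2 hs) (inv_mem hs)
  have n0 : r ∉ P := fun e => hsP (h.mem_of_comm hP h2 hPR.le hR.le hd hdR hs (hr ▸ e))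
  have m1 := (memJ_norm hdR).2 m0
  have n1 : d * r * d⁻¹ ∉ P := fun e => n0 ((memJ_norm hd.nz).1 e)
  have e2 : d * (d * r * d⁻¹) * d⁻¹ = (d * r * d⁻¹ * r)⁻¹ := by
    have := h.cube_cent hP h2 hPR.le hR.le hd hdR hs
    calc _ = d * (d * (d * s * d⁻¹) * d⁻¹) * d⁻¹ * (d * (d * s * d⁻¹) * d⁻¹)⁻¹ := by rw [hr]; group
      _ = _ := by rw [this, hr]; group
  have hcm : r * (d * r * d⁻¹) = d * r * d⁻¹ * r := by
    refine cm_eq_one.1 (h.eq_one_of_fix hdZ hd.nc (hc.cm_mem m0 m1) ?_)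
    rw [conj_cm, e2, hc.cm_symm m1 (inv_mem (mul_mem m1 m0)), hc.cm_inv_left (mul_mem m1 m0) m1,
      hc.cm_mul_left m1 m0 m1, cm_eq_one.2 rfl, one_mul]
  have n2 : r * (d * r * d⁻¹) ∉ P := fun e => n1 ((memJ_norm hd.nz).1 (by
    rw [e2, ← hcm]; exact inv_mem e))
  have hc1 := fun {y s} => h.cm_conj hP h2 hPR.le hR.le hd hdR (y := y) (s := s)
  have hsq : d * r * d⁻¹ * (d * r * d⁻¹) = d * (r * r) * d⁻¹ := conj_mul
  generalize hr' : d * r * d⁻¹ = r' at *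
  have k0 : R ≤ 𝐍(Z ⊔ zpowers r) := hc.norm le_sup_left (sup_le hc.le (cycle_subG.2 m0))
  have hmem : ∀ x, x ∈ Z ⊔ zpowers r ⊔ zpowers r' →
      ∃ z ∈ Z, x = z ∨ x = z * r ∨ x = z * r' ∨ x = z * (r * r') := fun x hx => by
    rw [mem_sup_sq (mem_sup_left (hc.sq _ m1)) (k0 m1), mem_sup_sq (hc.sq _ m0)
      (cent_sub Z (hc.cent m0)), mem_sup_sq (hc.sq _ m0) (cent_sub Z (hc.cent m0))] at hx
    rcases hx with (e | e) | e | e
    exacts [⟨_, e, by simp⟩, ⟨_, e, by simp⟩, ⟨_, e, by simp⟩, ⟨_, e, by simp [mul_assoc]⟩]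
  have a0 : r ∈ Z ⊔ zpowers r ⊔ zpowers r' := mem_sup_left (mem_sup_elt Z r)
  have a1 : r' ∈ Z ⊔ zpowers r ⊔ zpowers r' := mem_sup_elt _ r'
  refine ⟨Z ⊔ zpowers r ⊔ zpowers r', ⟨le_sup_of_le_left le_sup_left,
    sup_le (sup_le hc.le (cycle_subG.2 m0)) (cycle_subG.2 m1), fun x hx hxP => ?_, fun s hs => ?_,
    ?_, r, a0, r', a1, n0, n1, n2⟩, ?_⟩
  · obtain ⟨z, hz, rfl | rfl | rfl | rfl⟩ := hmem x hx
    · exact hz
    all_goals exact absurd ((P.mul_mem_cancel_left (hP.le hz)).1 hxP) ‹_›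
  · obtain ⟨y, hy, hyZ⟩ := hP.ne
    have key := fun {t} => h.mem_of_cm hP h2 hPR.le hc hy hyZ hs (t := t)
    rcases (h.orbit hdZ hd.nc (hc.cm_mem m0 (hPR.le hy)) (fun e => n0 (hP.mem_of h2 hPR.le hy hyZ m0
      (cm_eq_one.1 e))) _).1 (hc.cm_mem hs (hPR.le hy)) with e | e | e | e
    · exact ⟨s, hP.mem_of h2 hPR.le hy hyZ hs (cm_eq_one.1 e), 1, one_mem _, by simp⟩
    · exact ⟨_, key m0 e, r, a0, by simp⟩
    · exact ⟨_, key m1 (by rw [e, ← hc1 hy m0, hr']), r', a1, by simp⟩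
    · exact ⟨_, key (mul_mem m0 m1) (by
        rw [e, ← hc1 hy m0, hr', hc.cm_mul_left m0 m1 (hPR.le hy)]), _, mul_mem a0 a1, by group⟩
  · rw [card_sup_sq (mem_sup_left (hc.sq _ m1)) (k0 m1) fun e => ?_,
      card_sup_sq (hc.sq _ m0) (cent_sub Z (hc.cent m0)) fun e => n0 (hP.le e), h.card]
    rcases (mem_sup_sq (hc.sq _ m0) (cent_sub Z (hc.cent m0))).1 e with e | e
    · exact n1 (hP.le e)
    · refine n2 ?_
      rw [hcm, ← inv_mul_cancel_right r' r, mul_assoc]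
      exact hP.le (mul_mem e (hc.sq _ m0))
  have hrr : r * r' * (r * r') = r * r * (r' * r') := by
    rw [hc.sq_mul m0 m1, cm_eq_one.2 hcm, one_mul]
  by_cases h0 : r * r = 1
  · left
    have h1 : r' * r' = 1 := by rw [hsq, h0]; simp
    intro a ha
    obtain ⟨z, hz, rfl | rfl | rfl | rfl⟩ := hmem a ha
    · exact h.sq hz
    · rw [hc.sq_z_mul hz m0, h0]
    · rw [hc.sq_z_mul hz m1, h1]
    · rw [hc.sq_z_mul hz (mul_mem m0 m1), hrr, h0, h1, one_mul]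
  right
  obtain ⟨i, hi, hiZ, e⟩ : ∃ i ∈ P, i ∉ Z ∧ cm r i = r * r := by
    obtain ⟨y, hy, hyZ⟩ := hP.ne
    obtain ⟨x, hx, hxZ, hxy⟩ := hP.exists_third hc hPR.le h.card h16 hy hyZ
    have h1 : ∀ t ∈ P, t ∉ Z → cm r t ≠ 1 := fun t ht htZ e =>
      n0 (hP.mem_of h2 hPR.le ht htZ m0 (cm_eq_one.1 e))
    rcases (h.mem_iff (hc.cm_mem m0 (hPR.le hx)) (hc.cm_mem m0 (hPR.le hy)) (h1 x hx hxZ)
      (h1 y hy hyZ) (fun e => hxy (hP.cm_inj hc h2 hPR.le m0 n0 hx hy e)) _).1 (hc.sq r m0)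
      with e | e | e | e
    · exact absurd e h0
    · exact ⟨x, hx, hxZ, e.symm⟩
    · exact ⟨y, hy, hyZ, e.symm⟩
    · exact ⟨x * y, mul_mem hx hy, by rwa [Tr.inv_eq_of_mul_self (hP.sq y hy)] at hxy,
        by rw [e, hc.cm_mul_right m0 (hPR.le hx) (hPR.le hy)]⟩
  have e' : cm r' i = r' * r' := by rw [hsq, ← e, ← hc1 hi m0, hr']
  refine ⟨i, hi, hiZ, fun a ha => ?_⟩
  have hi' := hPR.le hi
  obtain ⟨z, hz, rfl | rfl | rfl | rfl⟩ := hmem a ha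
  · rw [hc.cm_left hz hi', h.sq hz]
  · rw [hc.sq_z_mul hz m0, hc.cm_mul_left (hc.le hz) m0 hi', hc.cm_left hz hi', one_mul, e]
  · rw [hc.sq_z_mul hz m1, hc.cm_mul_left (hc.le hz) m1 hi', hc.cm_left hz hi', one_mul, e']
  · rw [hc.sq_z_mul hz (mul_mem m0 m1), hc.cm_mul_left (hc.le hz) (mul_mem m0 m1) hi',
      hc.cm_left hz hi', one_mul, hc.cm_mul_left m0 m1 hi', e, e', hrr]

/-- the homocyclic case -/
theorem not_homo {A : Subgroup G} (hA : Tw Z P R A) {i : G} (hi : i ∈ P) (hiZ : i ∉ Z)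
    (hq : ∀ a ∈ A, cm a i = a * a) : False := by
  have h2 := hR.isPGroup
  have hc := h.c2 hP h2 hPR.le hR.le
  have hi' := hPR.le hi
  have i2 := hP.sq i hi
  have hRA := hc.norm hA.le hA.sub
  have hinv : ∀ x ∈ R, x ∉ P → x * x = 1 → x * i ∈ A := fun x hx hxP x2 => by
    obtain ⟨y, hy, a, ha, rfl⟩ := hA.dec x hx
    have haP : a ∉ P := fun e => hxP (mul_mem hy e)
    rw [hc.sq_mul (hPR.le hy) (hA.sub ha), hP.sq y hy, one_mul, ← hq a ha,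
      hc.cm_symm (hPR.le hy) (hA.sub ha)] at x2
    have h1 := hP.cm_inj hc h2 hPR.le (hA.sub ha) haP hy hi ((eq_inv_of_mul_eq_one_left x2).trans
      (h.inv (hc.cm_mem (hA.sub ha) hi')))
    have h3 := mul_mem ((memJ_norm (hRA (hPR.le hy))).2 ha) (hA.le h1)
    rwa [Tr.inv_eq_of_mul_self i2, ← mul_assoc, Tr.inv_eq_of_mul_self (hP.sq y hy),
      mul_assoc (y * a) y y, hP.sq y hy, mul_one] at h3
  have hprod : ∀ x y, x * i ∈ A → y * i ∈ A → x * y ∈ A := fun x y hx hy => by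
    have := mul_mem hx ((memJ_norm (hRA hi')).2 hy)
    rwa [show x * i * (i * (y * i) * i⁻¹) = x * (i * i) * y by group, i2, mul_one] at this
  have hiA : i ∉ A := fun e => hiZ (hA.inf i e hi)
  obtain ⟨y, hy, hyZ, hyi⟩ := hP.exists_third hc hPR.le h.card h16 hi hiZ
  have hN : 𝐍(R) ≤ 𝐍(P) := norms_of_conj_mem fun g hg t ht => by
    by_contra h1
    have hgZ := h.norm_le h2 hc.le hg
    have key : ∀ x ∈ P, x ∉ Z → g * x * g⁻¹ * i ∈ A := fun x hx hxZ =>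
      hinv _ ((memJ_norm hg).2 (hPR.le hx)) (fun e => h1 (hP.mem_of h2 hPR.le e
        (fun e' => hxZ ((memJ_norm hgZ).1 e')) ((memJ_norm hg).2 (hPR.le ht)) (by
          rw [conj_mul, conj_mul, centsP.1 hP.cent t ht x hx]))) (Tr.conj_mul_self (hP.sq x hx) g)
    have h3 := hprod _ _ (key y hy hyZ) (key i hi hiZ)
    rw [conj_mul] at h3
    exact hiA ((A.mul_mem_cancel_left h3).1 (key _ (mul_mem hy hi)
      (by rwa [Tr.inv_eq_of_mul_self i2] at hyi)))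
  have hS : SylowIn 2 R ⊤ := by
    by_contra h1
    obtain ⟨Q, hQ, h3⟩ := exists_gt h2 h1
    exact h3.ne' (hR.eq_of_le hQ.isPGroup h3.le (hQ.le.trans hN))
  have hy' := hPR.le hy
  have y2 : y * y ∈ A := hA.le (hc.sq y hy')
  have hiM : i ∉ A ⊔ zpowers y := fun e => by
    rcases (mem_sup_sq y2 (hRA hy')).1 e with e | e
    · exact hiA e
    · exact hyi (by simpa using inv_mem (hA.inf _ e (mul_mem hi (inv_mem hy))))
  have hM : A ⊔ zpowers y ≤ R := sup_le hA.sub (cycle_subG.2 hy')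
  have hidx : (A ⊔ zpowers y).relIndex R = 2 := by
    refine relIndex_eq_two_iff_exists_notMem_and'.2 ⟨i, hi', hiM, fun s hs => ?_⟩
    obtain ⟨t, ht, a, ha, rfl⟩ := hA.dec s hs
    rw [← mul_assoc, mul_mem_cancel_right (mem_sup_left ha), mul_mem_cancel_right (mem_sup_left ha)]
    obtain ⟨b, hb, -, -, hbP, -⟩ := hA.two
    have hb' := hA.sub hb
    have h1 : ∀ t ∈ P, t ∉ Z → cm b t ≠ 1 := fun t ht htZ e =>
      hbP (hP.mem_of h2 hPR.le ht htZ hb' (cm_eq_one.1 e))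
    have h3 := fun {x y} => hP.cm_inj hc h2 hPR.le hb' hbP (x := x) (y := y)
    have h4 : ∀ x, x * y⁻¹ ∈ Z → x ∈ A ⊔ zpowers y := fun x hx =>
      (mem_sup_sq y2 (hRA hy')).2 (Or.inr (hA.le hx))
    have h5 : ∀ x ∈ P, i * x = x * i⁻¹ := fun x hx => by
      rw [Tr.inv_eq_of_mul_self i2, centsP.1 hP.cent i hi x hx]
    rcases (h.mem_iff (hc.cm_mem hb' hy') (hc.cm_mem hb' hi') (h1 y hy hyZ) (h1 i hi hiZ)
      (fun e => hyi (h3 hy hi e)) _).1 (hc.cm_mem hb' (hPR.le ht)) with e | e | e | e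
    · exact Or.inr (mem_sup_left (hA.le (hP.mem_Z h2 hPR.le ht hb' hbP (cm_eq_one.1 e))))
    · exact Or.inr (h4 t (h3 ht hy e))
    · exact Or.inl (mem_sup_left (hA.le (h5 t ht ▸ h3 ht hi e)))
    · refine Or.inl (h4 _ ?_)
      rw [← hc.cm_mul_right hb' hy' hi'] at e
      have := h3 ht (mul_mem hy hi) e
      rwa [mul_inv_rev, ← mul_assoc, ← h5 t ht] at this
  obtain ⟨g, h1, -⟩ := Tr.thompson_transfer h.index_ne_two hS hidx (u := i) (by rw [sq, i2])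
  have h3 : g * i * g⁻¹ ∈ P := by
    by_contra e
    exact hiM ((mul_mem_cancel_left h1).1 (mem_sup_left (hinv _ (hM h1) e (Tr.conj_mul_self i2 g))))
  have h4 : g * i * g⁻¹ ∉ Z := fun e =>
    hiZ (h.mem_of_norm (h.fam.conj_iff.1 (h.sub _ e)) (cent_sub Z (hc.cent hi')))
  have h5 : g * i * g⁻¹ * y⁻¹ ∈ Z := by
    rcases (mem_sup_sq y2 (hRA hy')).1 h1 with e | e
    · exact absurd (hA.inf _ e h3) h4
    · exact hA.inf _ e (mul_mem h3 (inv_mem hy))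
  obtain ⟨n, hn, e⟩ := exists_norm_conj (hP.all i hi hiZ).syl (hP.all _ h3 h4).syl
  rw [Tr.cj_eq_iff] at hn
  obtain ⟨k, hk, m, hm, rfl⟩ := (hS.mono (K := GP.cmod Z P) (fun s hs =>
    ⟨cent_sub Z (hc.cent hs), fun t ht => hc.cm_mem hs (hPR.le ht)⟩) le_top).frattini
    (norm_cmod (h.norm_le hP.two hP.le hn) hn)
  have hmP := hN hm
  have hi2 := (memJ_norm hmP).2 hi
  have h6 : m * i * m⁻¹ * i⁻¹ ∈ Z := by
    obtain ⟨a, ha, b, hb, haP, hbP, habP⟩ := hA.two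
    have key : ∀ a ∈ A, a ∉ P → m * (a * i) * m⁻¹ * i ∈ A := fun a ha haP =>
      hinv _ ((memJ_norm hm).2 (mul_mem (hA.sub ha) hi'))
        (fun e => haP ((P.mul_mem_cancel_right hi).1 ((memJ_norm hmP).1 e)))
        (Tr.conj_mul_self (by rw [hc.sq_mul (hA.sub ha) hi', i2, mul_one, hq a ha,
          h.sq (hc.sq a (hA.sub ha))]) m)
    have h7 := hprod _ _ (key a ha haP) (key b hb hbP)
    have h8 : a * i * (b * i) ∈ A := hprod _ _ (by rwa [mul_assoc, i2, mul_one])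
      (by rwa [mul_assoc, i2, mul_one])
    have h9 : a * i * (b * i) ∉ P := fun e => habP (by
      have := mul_mem (mul_mem e (inv_mem hi)) (inv_mem ((memJ_norm' (hR.le (hA.sub hb))).2 hi))
      convert this using 1
      group)
    rw [conj_mul] at h7
    generalize a * i * (b * i) = r at h7 h8 h9
    refine hP.cm_inj hc h2 hPR.le (hA.sub h7) (fun e => h9 ((memJ_norm hmP).1 e)) hi2 hi ?_
    rw [← conj_cm, hq r h8, hq _ h7, conj_mul]
  have h7 := hk.2 _ hi2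
  have h8 : k * (m * i * m⁻¹) * k⁻¹ = g * i * g⁻¹ := by rw [← e]; group
  rw [h8] at h7
  have h9 := mul_mem (inv_mem h5) (mul_mem h7 h6)
  refine hyi ?_
  convert h9 using 1
  group

end QH

end Cfsg.Agent.SC.QX
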