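import Cfsg.Agent.Lib.SC.QX6

/-! Theorem Q, step Q5 (g): two elementary abelian subgroups of order 16. -/

set_option autoImplicit false
set_option linter.unusedSectionVars false
set_option linter.unusedVariables false

namespace Cfsg.Agent.SC.QX

open Subgroup Cfsg.Agent.FT Cfsg.Agent.SF Cfsg.Agent.SF.GP
open Cfsg.Agent.Tr (SylowIn)

universe u

/-- a 2-group of type `L₃(4)` -/
structure Sy {G : Type*} [Group G] (Z P A R : Subgroup G) : Prop where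
  cP : Cf Z P
  cA : Cf Z A
  nP : #|P| = 16
  nA : #|A| = 16
  lP : P ≤ R
  lA : A ≤ R
  two : IsPGroup 2 R
  c2 : C2 Z R
  inf : ∀ x ∈ A, x ∈ P → x ∈ Z
  dec : ∀ s ∈ R, ∃ y ∈ P, ∃ a ∈ A, s = y * a

namespace Sy

variable {G : Type*} [Group G] [Finite G] {Z P A R : Subgroup G} (h : Sy Z P A R)
include h

theorem symm : Sy Z A P R :=
  ⟨h.cA, h.cP, h.nA, h.nP, h.lA, h.lP, h.two, h.c2, fun x h1 h2 => h.inf x h2 h1, fun s hs => by
    obtain ⟨y, hy, a, ha, e⟩ := h.dec _ (inv_mem hs)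
    exact ⟨a⁻¹, inv_mem ha, y⁻¹, inv_mem hy, by rw [← mul_inv_rev, ← e, inv_inv]⟩⟩

theorem nz : R ≤ 𝐍(P) := h.c2.norm h.cP.le h.lP

theorem invol {x : G} (hx : x ∈ R) (x2 : x * x = 1) : x ∈ P ∨ x ∈ A := by
  obtain ⟨y, hy, a, ha, rfl⟩ := h.dec x hx
  rw [h.c2.sq_mul (h.lP hy) (h.lA ha), h.cP.sq y hy, h.cA.sq a ha, mul_one, mul_one] at x2
  by_cases haP : a ∈ P
  · exact Or.inl (mul_mem hy haP)
  · exact Or.inr (mul_mem (h.cA.le (h.cP.mem_Z h.two h.lP hy (h.lA ha) haP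
      (cm_eq_one.1 x2).symm)) ha)

theorem ne : P ≠ A := fun e => by
  obtain ⟨y, hy, hyZ⟩ := h.cP.ne
  exact hyZ (h.inf y (e ▸ hy) hy)

theorem eq_or {B : Subgroup G} (hB : B ≤ R) (h2 : ∀ x ∈ B, x * x = 1) (h16 : #|B| = 16) :
    B = P ∨ B = A :=
  (le_or_le fun x hx => h.invol (hB hx) (h2 x hx)).imp
    (fun e => eq_of_le_of_card_ge e (by rw [h.nP, h16]))
    fun e => eq_of_le_of_card_ge e (by rw [h.nA, h16])

theorem cj_sq (g : G) : ∀ x ∈ cj g P, x * x = 1 := fun x hx => by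
  obtain ⟨y, hy, rfl⟩ := Tr.mem_cj'.1 hx
  exact Tr.conj_mul_self (h.cP.sq y hy) g

theorem cj_or {g : G} (hg : g ∈ 𝐍(R)) : cj g P = P ∨ cj g P = A :=
  h.eq_or (Tr.cj_eq_iff.2 hg ▸ Tr.cj_mono g h.lP) (h.cj_sq g) (by rw [Tr.card_cj, h.nP])

theorem norm_other {g : G} (hg : g ∈ 𝐍(R)) (hP : g ∈ 𝐍(P)) : g ∈ 𝐍(A) :=
  Tr.cj_eq_iff.1 ((h.symm.cj_or hg).resolve_right fun e =>
    h.ne (Tr.cj_inj.1 ((Tr.cj_eq_iff.2 hP).trans e.symm)))

theorem swap {g : G} (hg : g ∈ 𝐍(R)) (hP : g ∉ 𝐍(P)) : cj g P = A ∧ cj g A = P :=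
  ⟨(h.cj_or hg).resolve_left (mt Tr.cj_eq_iff.1 hP), (h.symm.cj_or hg).resolve_left
    fun e => hP (h.symm.norm_other hg (Tr.cj_eq_iff.1 e))⟩

theorem mul_norm {g k : G} (hg : g ∈ 𝐍(R)) (hP : g ∉ 𝐍(P)) (hk : k ∈ 𝐍(R)) (hP' : k ∉ 𝐍(P)) :
    g * k ∈ 𝐍(P) := Tr.cj_eq_iff.1 (by rw [Tr.cj_mul, (h.swap hk hP').1, (h.swap hg hP).2])

theorem norm_le (hS : SylowIn 2 R ⊤) : 𝐍(R) ≤ 𝐍(P) := fun g hg => by
  obtain ⟨u, hu, v, hv, u2, vo, e⟩ := exists_parts g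
  refine e ▸ mul_mem (h.nz ((mx_of_sylowIn hS).mem h.two le_top u2 trivial (cycle_subG.2 hg hu)))
    (Tr.mem_of_mul_self_mem_of_odd vo ?_)
  by_cases h1 : v ∈ 𝐍(P)
  · exact mul_mem h1 h1
  · exact h.mul_norm (cycle_subG.2 hg hv) h1 (cycle_subG.2 hg hv) h1

theorem sc {T : Set G} (hT : Scl T Z) (hS : SylowIn 2 R ⊤) : IsStronglyClosed P R :=
  ⟨h.lP, fun x hx g hg => by
    by_contra h1
    have hxZ : x ∉ Z := fun e => h1 (h.cP.le ((hT.sc h.two h.c2.le).2 x e g hg))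
    have h2 := (h.invol hg (Tr.conj_mul_self (h.cP.sq x hx) g)).resolve_left h1
    obtain ⟨n, hn, -⟩ := exists_norm_conj (h.cP.all x hx hxZ).syl
      (h.cA.all _ h2 fun e => h1 (h.cP.le e)).syl
    have h3 := (hS.mono h.nz le_top).cj n
    rw [← normJ, hn] at h3
    obtain ⟨c, hc, e⟩ := (hS.mono h.symm.nz le_top).exists_cj_eq h3
    rw [← Tr.cj_mul, Tr.cj_eq_iff] at e
    have h4 := Tr.cj_eq_iff.2 (h.norm_le hS e)
    rw [Tr.cj_mul, hn, Tr.cj_eq_iff.2 hc] at h4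
    exact h.ne h4.symm⟩

theorem comm_mem {d : G} (hd : Dd Z A d) (hP : d ∈ 𝐍(P)) {x : G} (hx : x ∈ R) :
    d * x * d⁻¹ * x⁻¹ ∈ P := by
  obtain ⟨y, hy, a, ha, rfl⟩ := h.dec x hx
  have := mul_mem (mul_mem ((memJ_norm hP).2 hy) (h.cP.le (hd.comm a ha))) (inv_mem hy)
  convert this using 1
  group

theorem sylow_L (hZ : IsKleinFour Z) {w : G} (hw : w ∈ P) (hwZ : w ∉ Z) :
    SylowIn 2 R (𝐂(Z) ⊓ GP.cmod Z {w}) := by
  have hc := h.c2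
  refine Tr.sylowIn_of_maximal h.two (le_inf hc.cent fun s hs => ⟨cent_sub Z (hc.cent hs),
    fun t ht => ht ▸ hc.cm_mem hs (h.lP hw)⟩) fun Q hQ h1 h2 => le_antisymm (fun p hp => ?_) h1
  obtain ⟨s, hs, e⟩ : ∃ s ∈ R, cm s w = cm p w := by
    obtain ⟨a, ha, haZ⟩ := h.cA.ne
    obtain ⟨b, hb, hbZ, hab⟩ := h.cA.exists_third hc h.lA hZ.card_four h.nA ha haZ
    have h3 : ∀ a ∈ A, a ∉ Z → cm a w ≠ 1 := fun a ha haZ e =>
      haZ (h.inf a ha (h.cP.mem_of h.two h.lP hw hwZ (h.lA ha) (cm_eq_one.1 e)))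
    have h4 := hc.cm_mul_left (h.lA hb) (h.lA ha) (h.lP hw)
    rcases (TwoGrp.kleinFour_mem_iff hZ (hc.cm_mem (h.lA hb) (h.lP hw))
      (hc.cm_mem (h.lA ha) (h.lP hw)) (h3 b hb hbZ) (h3 a ha haZ) (fun e => h3 _ (mul_mem hb ha)
        (by rwa [Tr.inv_eq_of_mul_self (h.cA.sq a ha)] at hab) (by
          rw [h4, e, hc.zsq _ (hc.cm_mem (h.lA ha) (h.lP hw))])) _).1 ((h2 hp).2.2 w rfl)
      with e | e | e | e
    · exact ⟨1, one_mem _, by rw [cm_eq_one.2 (by simp)]; exact e.symm⟩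
    · exact ⟨b, h.lA hb, e.symm⟩
    · exact ⟨a, h.lA ha, e.symm⟩
    · exact ⟨_, h.lA (mul_mem hb ha), h4.trans e.symm⟩
  have h5 := (h.cP.all w hw hwZ).mem_of hQ (h.lP.trans h1) (mul_mem (inv_mem (h1 hs)) hp)
    (cent1_conj.2 (by
      calc s⁻¹ * p * w * (s⁻¹ * p)⁻¹ = s⁻¹ * (p * w * p⁻¹) * s := by group
        _ = w := by rw [conj_eq_cm p, ← e, ← conj_eq_cm]; group))
  simpa using mul_mem hs (h.lP h5)

end Sy

namespace QH

variable {G : Type u} [Group G] [Finite G] {T : Set G} {Z : Subgroup G} (h : QH T Z)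
  {P A R : Subgroup G}
include h

theorem sy_of (hB : BScStmt.{u}) (hS : S1174Stmt.{u}) (hP : Cf Z P) (hR : SylowIn 2 R 𝐍(P))
    (hPR : P ≤ R) (h16 : #|P| = 16) (hm : Mb Z #|P|) (hA : Tw Z P R A) (h2 : ∀ a ∈ A, a * a = 1) :
    Sy Z P A R := by
  have hc := h.c2 hP hR.isPGroup hPR hR.le
  obtain ⟨a, ha, -, -, haP, -⟩ := hA.two
  obtain ⟨z, hz, hb⟩ := h.exists_bad hS (h2 a ha) (hc.cent (hA.sub ha)) fun e => haP (hP.le e)
  have h1 := mul_mem (hA.le hz) ha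
  rw [h16, ← hA.card] at hm
  exact ⟨hP, h.cf hB hm (hm.bs (pgroup_sub hA.sub hR.isPGroup) hA.le (h2 _ h1)
    (fun e => haP (hP.le ((Z.mul_mem_cancel_left hz).1 e))) hb ((abelem_cent (exponent2_abelem
      fun x hx => by rw [sq, h2 x hx])).trans (cent_le_cent1 h1))), h16, hA.card, hPR, hA.sub,
    hR.isPGroup, hc, hA.inf, hA.dec⟩

theorem sy_not_sylow (hC : CountStmt.{u}) (hy : Sy Z P A R) : ¬ SylowIn 2 R ⊤ := fun hS => by
  have s0 := hy.sc h.toScl hS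
  have s1 := hy.symm.sc h.toScl hS
  obtain ⟨d₀, hd₀, hd₀R⟩ := h.exists_dR hy.cP (hS.mono hy.nz le_top) hy.lP
  obtain ⟨d₁, hd₁, hd₁R⟩ := h.exists_dR hy.cA (hS.mono hy.symm.nz le_top) hy.lA
  have hZ := h.norm_le hy.two hy.c2.le
  obtain ⟨d, hd, hdR, he⟩ : ∃ d, Dd Z P d ∧ d ∈ 𝐍(R) ∧ d * d₁ ∈ 𝐂(Z) :=
    (h.mul_or (hZ hd₀R) hd₀.nc (hZ hd₁R) hd₁.nc).elim (fun e => ⟨d₀, hd₀, hd₀R, e⟩)
      fun e => ⟨d₀⁻¹, hd₀.inv (hZ hd₀R), inv_mem hd₀R, e⟩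
  obtain ⟨S, rfl⟩ := hS.exists_sylow
  refine hC G S Z P A (exponent2_abelem fun x hx => by rw [sq, hy.cP.sq x hx])
    (exponent2_abelem fun x hx => by rw [sq, hy.cA.sq x hx]) hy.nP hy.nA
    (le_antisymm (fun x hx => hy.inf x hx.2 hx.1) (le_inf hy.cP.le hy.cA.le)) h.card
    (le_antisymm (sup_le hy.lP hy.lA) fun s hs => ?_) s0 s1
    (fun y hy' hyZ v hv hvZ e => hvZ (hy.inf v hv (hy.cP.mem_of hy.two hy.lP hy' hyZ (hy.lA hv)
      e.eq.symm)))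
    (fun a ha a1 b hb b1 => ?_) ⟨d * d₁, mul_mem hdR hd₁R, he, fun x hx e => hy.inf x ?_ ?_⟩
    fun y hy' hyZ => ?_
  · obtain ⟨y, hy', a, ha, rfl⟩ := hy.dec s hs
    exact mul_mem_sup hy' ha
  · obtain ⟨n, -, e⟩ := h.fused ha a1 hb b1
    exact isConj_iff.2 ⟨n, e⟩
  · refine h.mem_of_comm hy.cA hy.two hy.lA hy.symm.nz hd₁ hd₁R hx ?_
    have := mul_mem (inv_mem (hy.symm.comm_mem hd (hy.symm.norm_le hS hdR)
      ((memJ_norm hd₁R).2 hx))) (hy.cA.le e)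
    convert this using 1
    group
  · refine h.mem_of_comm hy.cP hy.two hy.lP hy.nz hd hdR hx ?_
    have := mul_mem (inv_mem ((memJ_norm hd.nz).2 (hy.comm_mem hd₁ (hy.norm_le hS hd₁R) hx)))
      (hy.cP.le e)
    convert this using 1
    group
  · have hb : ∃ Q, BS Z y Q := hy'.elim (fun e => ⟨P, hy.cP.all y e hyZ⟩)
      fun e => ⟨A, hy.cA.all y e hyZ⟩
    obtain ⟨Q, hb⟩ := hb
    obtain ⟨h1, h2, -⟩ := h.bs_T hb
    have h3 := h.le_NN (hb.le.trans hb.syl.le)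
    exact ⟨_, h3, NN_le _ _, (h.fam.NN_nrm _).nz, h2, by
      rw [← Nat.not_even_iff_odd, even_iff_two_dvd]; exact (h1.sylowIn h.two h3).not_dvd⟩

theorem sy_false (hC : CountStmt.{u}) (hy : Sy Z P A R) (hR : SylowIn 2 R 𝐍(P)) : False := by
  obtain ⟨Q, hQ, hRQ⟩ := exists_gt hy.two (h.sy_not_sylow hC hy)
  have hc := hy.c2
  have hQ2 := hQ.isPGroup
  have hQc := h.cent2 hQ2 (hc.le.trans hRQ.le)
  have hnP : ∀ g ∈ Q, g ∈ 𝐍(P) → g ∈ R := fun g hg hn =>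
    (hR.eq_of_le (pgroup_sub inf_le_left hQ2) (le_inf hRQ.le hy.nz) inf_le_right).le ⟨hg, hn⟩
  have hmul : ∀ g ∈ Q, g ∉ R → ∀ k ∈ Q, k ∉ R → g * k ∈ R := fun g hg hgR k hk hkR =>
    hnP _ (mul_mem hg hk) (hy.mul_norm (hQ.le hg) (fun e => hgR (hnP g hg e)) (hQ.le hk)
      fun e => hkR (hnP k hk e))
  have hsub : ∀ B ≤ Q, (∀ x ∈ B, x * x = 1) → #|B| = 16 → B ≤ R := fun B hB h2 h16 g hg => by
    by_contra hgR
    have h1 : R.relIndex B = 2 := relIndex_eq_two_iff_exists_notMem_and.2 ⟨g, hg, hgR, fun b hb =>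
      or_iff_not_imp_right.2 fun e => hmul b (hB hb) e g (hB hg) hgR⟩
    have h3 := LagrangeI R B
    have h4 : ¬ R ⊓ B ≤ Z := fun e => by
      have := card_le_of_le e
      rw [h.card] at this
      rw [h1] at h3
      omega
    obtain ⟨y, hy', hyZ⟩ := SetLike.not_le_iff_exists.1 h4
    have h5 := centsP.1 (abelem_cent (exponent2_abelem fun x hx => by rw [sq, h2 x hx])) g hg y hy'.2
    exact hgR ((hy.invol hy'.1 (h2 y hy'.2)).elim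
      (fun e => hy.lP (hy.cP.mem_of hQ2 (hy.lP.trans hRQ.le) e hyZ (hB hg) h5))
      fun e => hy.lA (hy.cA.mem_of hQ2 (hy.lA.trans hRQ.le) e hyZ (hB hg) h5))
  have hN : 𝐍(Q) ≤ 𝐍(R) := norms_of_conj_mem fun g hg s hs => by
    obtain ⟨y, hy', a, ha, rfl⟩ := hy.dec s hs
    rw [← conj_mul]
    exact mul_mem (hsub _ (Tr.cj_eq_iff.2 hg ▸ Tr.cj_mono g (hy.lP.trans hRQ.le)) (hy.cj_sq g)
      (by rw [Tr.card_cj, hy.nP]) (Tr.conj_mem_cj.2 hy')) (hsub _ (Tr.cj_eq_iff.2 hg ▸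
        Tr.cj_mono g (hy.lA.trans hRQ.le)) (hy.symm.cj_sq g) (by rw [Tr.card_cj, hy.nA])
        (Tr.conj_mem_cj.2 ha))
  have hS : SylowIn 2 Q ⊤ := by
    by_contra h1
    obtain ⟨Q', hQ', h3⟩ := exists_gt hQ2 h1
    exact h3.ne' (hQ.eq_of_le hQ'.isPGroup h3.le (hQ'.le.trans hN))
  have hsw : ∀ g ∈ Q, g ∉ R → (∀ y ∈ P, g * y * g⁻¹ ∈ A) ∧ ∀ a ∈ A, g * a * g⁻¹ ∈ P :=
    fun g hg hgR => by
      obtain ⟨h1, h2⟩ := hy.swap (hQ.le hg) fun e => hgR (hnP g hg e)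
      exact ⟨Tr.cj_le_iff.1 h1.le, Tr.cj_le_iff.1 h2.le⟩
  obtain ⟨g, hg, hgR, g2⟩ : ∃ g ∈ Q, g ∉ R ∧ g * g ∈ Z := by
    obtain ⟨g, hg, hgR⟩ := SetLike.not_le_iff_exists.1 hRQ.not_ge
    obtain ⟨y, hy', a, ha, e⟩ := hy.dec _ (hmul g hg hgR g hg hgR)
    have m1 := (hsw g hg hgR).1 y hy'
    have m2 := (hsw g hg hgR).2 a ha
    have e1 : g * y * g⁻¹ * (g * a * g⁻¹) = y * a := by rw [conj_mul, ← e]; group
    have h1 : a⁻¹ * (g * y * g⁻¹) ∈ Z := hy.inf _ (mul_mem (inv_mem ha) m1) (by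
      have := mul_mem ((memJ_norm' (hy.nz (hy.lA ha))).2 hy') (inv_mem m2)
      rwa [mul_assoc a⁻¹, ← e1, ← mul_assoc, mul_inv_cancel_right] at this)
    refine ⟨g * y, mul_mem hg (hRQ.le (hy.lP hy')),
      fun e' => hgR ((R.mul_mem_cancel_right (hy.lP hy')).1 e'), ?_⟩
    have h2 := mul_mem ((memJ_norm (cent_sub Z (hc.cent (hy.lA ha)))).2 h1)
      (hc.sq _ (mul_mem (hy.lA ha) (hy.lP hy')))
    convert h2 using 1
    calc g * y * (g * y) = g * y * g⁻¹ * (g * g) * y := by group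
      _ = _ := by rw [e]; group
  have g1 : g * g = 1 := by
    obtain ⟨e, he, -, he'⟩ := h.exists_norm_sylow hS (hc.le.trans hRQ.le)
    have heZ := h.norm_le hQ2 (hc.le.trans hRQ.le) he
    refine h.eq_one_of_fix heZ he' g2 ?_
    obtain ⟨y, hy', a, ha, e1⟩ := hy.dec _ (hmul _ ((memJ_norm he).2 hg)
      (fun e' => hgR ((memJ_norm (hN he)).1 e')) _ (inv_mem hg) (by simpa using hgR))
    have m1 := (hsw g hg hgR).1 y hy'
    have m2 := (hsw g hg hgR).2 a ha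
    have e2 : e * (g * g) * e⁻¹ = y * (a * (g * y * g⁻¹)) * (g * a * g⁻¹) * (g * g) := by
      rw [← conj_mul, mul_inv_eq_iff_eq_mul.1 e1]
      group
    have h1 : a * (g * y * g⁻¹) ∈ Z := hy.inf _ (mul_mem ha m1) (by
      have := mul_mem (mul_mem (inv_mem hy') (hy.cP.le (mul_mem ((memJ_norm heZ).2 g2) (inv_mem g2))))
        (inv_mem m2)
      rw [e2] at this
      convert this using 1
      group)
    have e3 : g * a * g⁻¹ = a * (g * y * g⁻¹) * y := by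
      calc g * a * g⁻¹ = g * (a * (g * y * g⁻¹)) * g⁻¹ * (g * g * y⁻¹ * (g * g)⁻¹) := by group
        _ = _ := by
          rw [cent1_conj.1 (cent_le_cent1 h1 (hQc hg)), hc.comm g2 (hy.lP (inv_mem hy')),
            mul_inv_cancel_right, Tr.inv_eq_of_mul_self (hy.cP.sq y hy')]
    rw [e2, e3, mul_assoc y, ← mul_assoc (a * _), h.sq h1, one_mul, hy.cP.sq y hy', one_mul]
  obtain ⟨k, h1, -⟩ := Tr.thompson_transfer h.index_ne_two hS
    (relIndex_eq_two_iff_exists_notMem_and.2 ⟨g, hg, hgR, fun b hb =>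
      or_iff_not_imp_right.2 fun e => hmul b hb e g hg hgR⟩) (u := g) (by rw [sq, g1])
  have h2 : k * g * k⁻¹ ∉ Z := fun e =>
    hgR (hc.le (h.mem_of_norm (h.fam.conj_iff.1 (h.sub _ e)) (cent_sub Z (hQc hg))))
  have h3 : SylowIn 2 R (𝐂(Z) ⊓ GP.cmod Z {k * g * k⁻¹}) :=
    (hy.invol h1 (Tr.conj_mul_self g1 k)).elim (fun e => hy.sylow_L h.four e h2)
      fun e => hy.symm.sylow_L h.four e h2
  obtain ⟨n, -, hn, e⟩ := h.control1 le_top (mem_top k) (hQc hg) (hc.cent h1)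
  obtain ⟨l, -, h4⟩ := h3.exists_cj_le (Q := cj n (Q ⊓ GP.cmod Z {g}))
    (Tr.isPGroup_cj n (pgroup_sub inf_le_left hQ2)) (Tr.cj_le_iff.2 fun x hx =>
      ⟨(memJ_norm (cent_norm Z hn)).2 (hQc hx.1), mul_mem (mul_mem hn hx.2.1) (inv_mem hn),
        fun t ht => by
          rw [ht, ← e]
          exact (conj_cm n x g).subst (motive := (· ∈ Z)) ((memJ_norm hn).2 (hx.2.2 g rfl))⟩)
  rw [← Tr.cj_mul, Tr.cj_le_iff] at h4
  generalize l * n = m at h4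
  have gi := Tr.inv_eq_of_mul_self g1
  have t2 : ∀ y ∈ P, y * g * y * (y * g * y) = 1 := fun y hy' => by
    calc _ = y * g * (y * y) * g * y := by group
      _ = 1 := by rw [hy.cP.sq y hy', mul_one, mul_assoc y, g1, mul_one, hy.cP.sq y hy']
  have h5 : ∀ y ∈ P, m * (y * g * y) * m⁻¹ ∈ P ∨ m * (y * g * y) * m⁻¹ ∈ A := fun y hy' => by
    have hyQ := hRQ.le (hy.lP hy')
    have h6 := mul_mem (mul_mem hyQ hg) hyQ
    refine hy.invol (h4 _ ⟨h6, cent_sub Z (hQc h6), fun t ht => ?_⟩) (Tr.conj_mul_self (t2 y hy') m)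
    have := hc.sq _ (mul_mem (hy.lP hy') (hy.lA ((hsw g hg hgR).1 y hy')))
    rw [ht, Tr.inv_eq_of_mul_self (t2 y hy')]
    convert this using 1
    rw [gi]
    group
  have h6 : ∀ B : Subgroup G, (∀ x ∈ B, x * x = 1) → ∀ x ∈ P, ∀ y ∈ P,
      m * (x * g * x) * m⁻¹ ∈ B → m * (y * g * y) * m⁻¹ ∈ B → x * y ∈ Z := fun B hB x hx y hy' b1 b2 => by
    have h7 := hB _ (mul_mem b1 b2)
    rw [conj_mul, conj_mul, conj_eq_one_iff] at h7
    have m1 := (hsw g hg hgR).1 _ (mul_mem hx hy')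
    have e1 : x * g * x * (y * g * y) = x * (g * (x * y) * g⁻¹) * y := by rw [gi]; group
    rw [e1] at h7
    rcases hy.invol (mul_mem (mul_mem (hy.lP hx) (hy.lA m1)) (hy.lP hy')) h7 with e' | e'
    · exact (memJ_norm (cent_sub Z (hQc hg))).1 (hy.inf _ m1
        ((P.mul_mem_cancel_left hx).1 ((P.mul_mem_cancel_right hy').1 e')))
    · refine hy.inf _ ?_ (mul_mem hx hy')
      have := mul_mem (inv_mem ((memJ_norm (hy.symm.nz (hy.lP hx))).2 m1)) e'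
      convert this using 1
      group
  obtain ⟨x, hx, hxZ⟩ := hy.cP.ne
  obtain ⟨y, hy', hyZ, hxy⟩ := hy.cP.exists_third hc hy.lP h.card hy.nP hx hxZ
  rw [Tr.inv_eq_of_mul_self (hy.cP.sq x hx)] at hxy
  rcases h5 1 (one_mem _) with e1 | e1 <;> rcases h5 x hx with e2 | e2 <;>
    rcases h5 y hy' with e3 | e3
  all_goals first
    | exact hxZ (by simpa using h6 P hy.cP.sq 1 (one_mem _) x hx e1 e2)
    | exact hxZ (by simpa using h6 A hy.cA.sq 1 (one_mem _) x hx e1 e2)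
    | exact hyZ (by simpa using h6 P hy.cP.sq 1 (one_mem _) y hy' e1 e3)
    | exact hyZ (by simpa using h6 A hy.cA.sq 1 (one_mem _) y hy' e1 e3)
    | exact hxy (h6 P hy.cP.sq y hy' x hx e3 e2)
    | exact hxy (h6 A hy.cA.sq y hy' x hx e3 e2)

end QH

end Cfsg.Agent.SC.QX
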