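import Cfsg.Agent.Lib.SC.QX5
import Cfsg.Agent.Lib.SC.QX7

/-! Theorem Q. -/

set_option autoImplicit false

namespace Cfsg.Agent.SC.QX

open Subgroup Cfsg.Agent.FT Cfsg.Agent.SF Cfsg.Agent.SF.GP
open Cfsg.Agent.Tr (SylowIn)

universe u

theorem QH.false {G : Type u} [Group G] [Finite G] {T : Set G} {Z : Subgroup G} (h : QH T Z)
    (hB : BScStmt.{u}) (hS : S1174Stmt.{u}) (hL : LyonsStmt.{u}) (hC : CountStmt.{u}) : False := by
  obtain ⟨x, x2, hc, hxZ⟩ := h.exists_invol hL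
  obtain ⟨z, hz, hb⟩ := h.exists_bad hS x2 hc hxZ
  have key : ∀ y, y * y = 1 → y ∈ 𝐂(Z) → y ∉ Z → Bad Z y → ∃ P, BS Z y P := fun y h1 h2 h3 h4 => by
    obtain ⟨P, hP, hZ⟩ := Tr.exists_sylowIn_ge h.two (sub_cent1.2 h2)
    exact ⟨P, h1, h3, h4, hP, hZ⟩
  obtain ⟨P₁, h₁⟩ := key (z * x) (by
    rw [mul_assoc, ← mul_assoc x, ← mem_cent.1 hc z hz, mul_assoc, x2, mul_one, h.sq hz])
    (mul_mem (h.cent hz) hc) (fun e => hxZ ((Z.mul_mem_cancel_left hz).1 e)) hb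
  obtain ⟨P, ⟨w, hw⟩, hmax⟩ := Set.exists_max_image {P : Subgroup G | ∃ w, BS Z w P}
    (fun P => #|P|) (Set.toFinite _) ⟨P₁, _, h₁⟩
  have hm : Mb Z #|P| := fun y h1 h2 h3 h4 R hR h5 => by
    obtain ⟨Q, hQ⟩ := key y h1 h2 h3 h4
    exact (hQ.syl.card_le h5 hR).trans (hmax Q ⟨y, hQ⟩)
  have hP := h.cf hB hm hw
  obtain ⟨R, hR, hPR⟩ := exists_gt hP.two hP.nsyl
  obtain ⟨s, hs, hsP⟩ := SetLike.not_le_iff_exists.1 hPR.not_ge
  have h16 := (h.card_le hP hR.isPGroup hPR.le hR.le hs hsP).resolve_left (h.not_eight hS hw hm)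
  obtain ⟨A, hA, h1 | ⟨i, hi, hiZ, h1⟩⟩ := h.exists_tw hP hR hPR h16
  · exact h.sy_false hC (h.sy_of hB hS hP hR hPR.le h16 hm hA h1) hR
  · exact h.not_homo hP hR hPR h16 hA hi hiZ h1

theorem qn (hB : BScStmt.{u}) (hS : S1174Stmt.{u}) (hL : LyonsStmt.{u}) (hC : CountStmt.{u})
    (n : ℕ) : QN.{u} n := by
  induction n with
  | zero => exact fun _ _ _ _ _ _ hn => absurd hn (Nat.not_lt_zero _)
  | succ n ih =>
    intro G _ _ hG T Z hn h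
    by_contra hcon
    rw [not_or, not_exists] at hcon
    refine QH.false ⟨h, hG, hcon.2, hcon.1, fun H hH hZ X hX ho hY hne =>
      lemT hB ih h hZ ?_ hX ho hY hne⟩ hB hS hL hC
    have := proper_card (lt_top_iff_ne_top.2 hH)
    rw [card_top] at this
    omega

/-- Theorem Q -/
theorem q_of (hB : BScStmt.{u}) (hS : S1174Stmt.{u}) (hL : LyonsStmt.{u}) (hC : CountStmt.{u}) :
    QStmt.{u} := fun G _ _ _ S Z hZ h4 hsc =>
  (qn hB hS hL hC _ G (cl Z) Z (Nat.lt_succ_self _) ⟨scl_of_sc hsc, four_of_abelem hZ h4⟩).imp_left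
    fun h => le_antisymm (h _ S.isPGroup' hsc.1 le_top) hsc.1

end Cfsg.Agent.SC.QX
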