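import Cfsg.Agent.Lib.SC.Red1

/-! Row RED of `docs/SC_PLAN.md`: reduction to an almost simple group (steps 1–4). -/

set_option autoImplicit false
set_option linter.unusedSectionVars false
set_option linter.unusedVariables false

namespace Cfsg.Agent.SC.Red

open Subgroup Cfsg.Agent.FT Cfsg.Agent.SF Cfsg.Agent.SF.GP

universe u

/-- the minimal counterexample to claim P -/
structure Cfg {G : Type u} [Group G] (F : Set G) (T : Subgroup G) : Prop where
  fam : Fam F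
  mx : Mx F T ⊤
  h2 : core {2} (⊤ : Subgroup G) = ⊥
  hO : 𝐎((⊤ : Subgroup G)) = ⊥
  min : MinNormal (closure F) ⊤
  cent : 𝐂(closure F) = ⊥
  gen : closure F ⊔ res 𝐂(T) = ⊤
  ne : res 𝐂(T) ≠ ⊥
  ind : ∀ H : Subgroup G, H ≠ ⊤ → ∀ T' L, Mx F T' H → L ≤ H → ⁅L, L⁆ = L → L ≤ 𝐂(T') →
    ⁅NN F H, L⁆ ≤ 𝐎(H)
  ind2 : ∀ F', Fam F' → F' ⊂ F → ⁅closure F', res 𝐂(T)⁆ = ⊥

/-- there is no minimal counterexample -/
def SimpleCase : Prop :=
  ∀ (G : Type u) [Group G] [Finite G] (F : Set G) (T : Subgroup G), Cfg F T → False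

theorem cent_map {G G' : Type*} [Group G] [Group G'] (f : G →* G') {A B : Subgroup G}
    (h : A ≤ 𝐂(B)) : A.map f ≤ 𝐂(B.map f) := by
  rw [← commG1P] at h ⊢
  rw [← map_commutator, h, Subgroup.map_bot]

theorem reduce (hS : SimpleCase.{u}) (n : ℕ) : ∀ (G : Type u) [Group G] [Finite G],
    Nat.card G = n → ∀ (m : ℕ) (F : Set G), F.ncard = m → ∀ T L : Subgroup G, Fam F → Mx F T ⊤ →
      ⁅L, L⁆ = L → L ≤ 𝐂(T) → ⁅closure F, L⁆ ≤ 𝐎((⊤ : Subgroup G)) := by
  induction n using Nat.strong_induction_on with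
  | _ n ih =>
  intro G _ _ hn m
  induction m using Nat.strong_induction_on with
  | _ m ihm =>
  intro F hm T L₀ hF hT hL₀ hc₀
  refine (commgS _ (le_res hc₀ hL₀)).trans ?_
  obtain ⟨L, hLe⟩ : ∃ L, L = res 𝐂(T) := ⟨_, rfl⟩
  have hL : ⁅L, L⁆ = L := hLe ▸ res_perf _
  have hc : L ≤ 𝐂(T) := hLe ▸ res_le _
  rw [← hLe]
  clear hL₀ hc₀ L₀
  have hJ := hF.normal
  have ihq : ∀ (N : Subgroup G) [N.Normal], N ≠ ⊥ →
      ⁅closure F, L⁆ ≤ 𝐎((⊤ : Subgroup (G ⧸ N))).comap (QuotientGroup.mk' N) := by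
    intro N _ hN
    have hf := QuotientGroup.mk'_surjective N
    rw [← map_le_iff_le_comap, map_commutator, MonoidHom.map_closure]
    refine ih _ ?_ (G ⧸ N) rfl _ _ rfl _ _ (hF.image hf) (hT.image hF hf) (perf_map _ hL)
      (cent_map _ hc)
    rw [← hn, card_eq_card_quotient_mul_card_subgroup N]
    exact lt_mul_of_one_lt_right Nat.card_pos (cardG_gt1.2 hN)
  have ihs : ∀ H : Subgroup G, H ≠ ⊤ → ∀ T' L, Mx F T' H → L ≤ H → ⁅L, L⁆ = L → L ≤ 𝐂(T') →
      ⁅NN F H, L⁆ ≤ 𝐎(H) := by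
    intro H hH T' L h1 h2 h3 h4
    have e : L = (L.subgroupOf H).map H.subtype := by
      rw [subgroupOf_map_subtype, inf_eq_left.2 h2]
    rw [NN_eq_map, e, ← map_commutator, pcore_eq_map_top]
    refine map_mono (ih _ ?_ H rfl _ _ rfl _ _ (hF.comap _ H.subtype_injective) h1.subtype
      (perf_subgroupOf h2 h3) (centsP.2 fun a ha b hb => Subtype.ext (centsP.1 h4 _ ha _ hb)))
    rw [← hn, ← card_top (G := G)]
    exact proper_card (lt_top_iff_ne_top.2 hH)
  have ihf : ∀ F', Fam F' → F' ⊂ F → ⁅closure F', L⁆ ≤ 𝐎((⊤ : Subgroup G)) := by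
    intro F' hF' hs
    obtain ⟨T', h1, h2⟩ := hT.sub_fam hF' hs.1
    exact ihm _ (hm ▸ Set.ncard_lt_ncard hs (Set.toFinite F)) F' rfl T' L hF' h2 hL (centsS h1 hc)
  by_cases hO : 𝐎((⊤ : Subgroup G)) = ⊥
  swap
  · rw [core_top_eq] at hO ⊢
    have := ihq (oddCore G) hO
    rwa [core_top_eq.trans (Fit.pPrimeCore_quotient_pPrimeCore 2 G), MonoidHom.comap_bot,
      QuotientGroup.ker_mk'] at this
  rw [hO, le_bot_iff]
  have hQ : IsPGroup 2 (pCore 2 G) := Fit.isPGroup_pCore 2 G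
  by_cases h2 : pCore 2 G = ⊥
  swap
  · by_cases h₁ : ∀ t ∈ F, t ∈ pCore 2 G → t = 1
    · have h3 : closure F ≤ 𝐂(pCore 2 G) := (closure_le _).2 fun t ht => mem_cent.2 fun n hn =>
        cent_of_normal2 hF hQ h₁ ht (by
          have := mul_mem hn (Normal.conj_mem inferInstance _ (inv_mem hn) t)
          simpa only [mul_assoc] using this)
      have h4 := centO hO hQ (ihq _ h2) ((commg_subl.2 (norms_of_normal _)).trans h3)
      rw [commG1P, closure_le]
      intro t ht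
      exact mem_cent.2 fun x hx => cent_of_normal2 hF hQ h₁ ht
        (comm_mem_symm (h4 (mem_commg (subset_closure ht) hx)))
    · push Not at h₁
      obtain ⟨t, ht, htQ, ht1⟩ := h₁
      have : (NN F (pCore 2 G)).Normal := FT.normal_top.1
        ⟨le_top, (norms_of_normal ⊤).trans (hF.norm_NN _)⟩
      have h3 : NN F (pCore 2 G) ≤ T := NN_le_iff.2 fun x hx hxQ => hT.max _ le_top
        (isPGroup_sup hQ hT.two (norms_of_normal _)) le_sup_right x hx (mem_sup_left hxQ)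
      have h4 : L ≤ 𝐂(NN F (pCore 2 G)) := centsS h3 hc
      have h5 := centO hO (pgroup_sub (NN_le _ _) hQ) (ihq _ (trivgPn.2 ⟨t, mem_NN ht htQ, ht1⟩))
        ((commgS _ h4).trans (commg_subr.2 (norms_cent (norms_of_normal _))))
      exact comm_perf hL (eq_bot_iff.2 ((commSg _ h5).trans (commG1P.2 (centsC.1 h4)).le))
  rw [← pcore_top_pCore] at h2
  have hJn : closure F ⊴ ⊤ := FT.normal_top.2 hJ
  have hcJ : ⁅closure F, L⁆ ≤ closure F := commg_subl.2 (norms_of_normal _)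
  have hTJ : T ≤ closure F := fun t ht => subset_closure (hT.sub t ht)
  by_cases hg : closure F ⊔ L = ⊤
  swap
  · have h3 := ihs _ hg T L (hT.mono (hTJ.trans le_sup_left) le_top) le_sup_right hL hc
    have h4 : closure F ≤ NN F (closure F ⊔ L) :=
      (closure_le _).2 fun t ht => mem_NN ht (mem_sup_left (subset_closure ht))
    exact eq_bot_iff.2 (hO ▸ ((le_inf ((commSg _ h4).trans h3) hcJ).trans
      (inf_core_le le_sup_left)).trans (pcore_normal_le _ hJn))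
  have hq : ∀ (N : Subgroup G) [N.Normal], N ≠ ⊥ → N ⊓ closure F = ⊥ → ⁅closure F, L⁆ = ⊥ := by
    intro N _ hN hd
    obtain ⟨Y, hY⟩ : ∃ Y, Y = 𝐎((⊤ : Subgroup (G ⧸ N))).comap (QuotientGroup.mk' N) ⊓ closure F :=
      ⟨_, rfl⟩
    have hYn : Y ⊴ ⊤ := by
      have := (pcore_normal {2}ᶜ (⊤ : Subgroup (G ⧸ N))).comap (QuotientGroup.mk' N)
      rw [comap_top] at this
      exact hY ▸ this.inf hJn
    have h3 : Odd #|Y| := by
      have := relIndex_ker Y (QuotientGroup.mk' N)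
      have h5 : N ⊓ Y = ⊥ :=
        eq_bot_iff.2 (hd ▸ inf_le_inf_left N (hY ▸ inf_le_right : Y ≤ closure F))
      rw [QuotientGroup.ker_mk', ← indexgI', h5, indexg1] at this
      rw [this]
      exact odd_of_le (map_le_iff_le_comap.2 (hY ▸ inf_le_left)) (odd_core _)
    exact eq_bot_iff.2 (hO ▸ (hY ▸ le_inf (ihq N hN) hcJ : _ ≤ Y).trans (le_core h3 hYn))
  have hab : ∀ N : Subgroup G, N ⊴ ⊤ → N ≤ 𝐂(N) → N = ⊥ := fun N h3 h4 =>
    nil_eq_bot h2 hO h3 (abelian_nil (abelianE.2 h4))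
  by_cases hC : 𝐂(closure F) = ⊥
  swap
  · exact hq _ hC ((inf_comm _ _).trans (hab _ hJn.center (abelianE.1 (center_abelian _))))
  by_cases hL1 : L = ⊥
  · rw [hL1, commG1P, centsC]
    exact bot_le
  obtain ⟨N, hN, hNK⟩ := minnormal_exists (L := ⊤) (H := normalClosure (L : Set G))
    (fun e => hL1 (eq_bot_iff.2 (e ▸ le_normalClosure))) (norms_of_normal ⊤)
  have hNn : N ⊴ ⊤ := ⟨le_top, hN.nz⟩
  have := FT.normal_top.1 hNn
  have hNJ : closure F = N := by
    by_contra hne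
    have h3 : NN F N = N := hN.min _ (NN_le F N) (fun e => hN.ne (eq_bot_iff.2 (hC ▸ centsC.1
      (hF.cent_of_disj (eq_bot_iff.2 (hO ▸ pcore_normal_le _ hNn)) fun t ht htN => ?_))))
      (hN.nz.trans (hF.norm_NN N))
    · have h4 := ihf _ (fam_inter hF (N := N)) ⟨Set.inter_subset_left, fun hs => hne
        (hN.min _ ((closure_le _).2 fun t ht => (hs ht).2) (fun e => ?_) (norms_of_normal _))⟩
      · change ⁅NN F N, L⁆ ≤ _ at h4
        rw [h3, hO, le_bot_iff, commG1P, centsC] at h4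
        exact hN.ne (hab N hNn (hNK.trans (normalClosure_le_normal h4)))
      · rw [e, cent1T] at hC
        exact hL1 (eq_bot_iff.2 (hC ▸ le_top))
    · rw [← mem_bot, ← e]
      exact mem_NN ht htN
  subst hLe
  exact (hS G F T ⟨hF, hT, h2, hO, hNJ ▸ hN, hC, hg, hL1, ihs,
    fun F' h3 h4 => eq_bot_iff.2 (hO ▸ ihf F' h3 h4)⟩).elim

end Cfsg.Agent.SC.Red
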