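import Cfsg.Agent.Lib.SC.Red2

/-! Row RED of `docs/SC_PLAN.md`: the closure is simple, `T` is elementary abelian (steps 4, 5). -/

set_option autoImplicit false
set_option linter.unusedSectionVars false
set_option linter.unusedVariables false

namespace Cfsg.Agent.SC.Red

open Subgroup Cfsg.Agent.FT Cfsg.Agent.SF Cfsg.Agent.SF.GP

universe u

namespace Cfg

variable {G : Type u} [Group G] [Finite G] {F : Set G} {T : Subgroup G} (c : Cfg F T)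
include c

theorem nrm : closure F ⊴ ⊤ := FT.normal_top.2 c.fam.normal

theorem T_le : T ≤ closure F := fun t ht => subset_closure (c.mx.sub t ht)

theorem two_bot {V : Subgroup G} (hV : IsPGroup 2 V) (h : ⊤ ≤ 𝐍(V)) : V = ⊥ :=
  eq_bot_iff.2 (c.h2 ▸ pcore_max' hV ⟨le_top, h⟩)

theorem odd_bot {V : Subgroup G} (hV : Odd #|V|) (h : ⊤ ≤ 𝐍(V)) : V = ⊥ :=
  eq_bot_iff.2 (c.hO ▸ le_core hV ⟨le_top, h⟩)

theorem norm_of {V : Subgroup G} (h1 : closure F ≤ 𝐍(V)) (h2 : res 𝐂(T) ≤ 𝐍(V)) : ⊤ ≤ 𝐍(V) :=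
  c.gen ▸ sup_le h1 h2

theorem closure_le_of {X : Subgroup G} (h1 : closure F ≤ 𝐍(X)) (h2 : T ≤ X) : closure F ≤ X :=
  (closure_le _).2 fun t ht => by
    obtain ⟨g, hg, h3⟩ := (c.mx.mono c.T_le le_top).exists_conj1 c.fam ht (subset_closure ht)
    exact (memJ_norm (h1 hg)).1 (h2 h3)

theorem T_ne : T ≠ ⊥ := fun e =>
  c.min.ne (eq_bot_iff.2 (c.closure_le_of (norms1 _) e.le))

theorem mx_ne {T' : Subgroup G} (h : Mx F T' ⊤) : T' ≠ ⊥ := by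
  obtain ⟨g, -, rfl⟩ := c.mx.conj c.fam h
  exact mt Tr.cj_eq_bot.1 c.T_ne

theorem eq_of_nrm {N : Subgroup G} (hN : N ⊴ closure F) (h1 : N ≠ ⊥) : N = closure F := by
  obtain ⟨M, hM, hMN⟩ := minnormal_exists h1 hN.nz
  have hMJ := hMN.trans hN.le
  have h2 : T ⊓ M ≠ ⊥ := fun e => by
    obtain ⟨S, hS⟩ := c.mx.sc c.fam
    have h3 := Cfsg.Agent.S1251.result S T hS M (c.T_le.trans hM.nz)
      (p'core_eq_bot_iff_pPrimeCore.1 (eq_bot_iff.2 (c.hO ▸ (pcore_normal_le _ ⟨hMJ, hM.nz⟩).trans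
        (pcore_normal_le _ c.nrm)))) e
    exact hM.ne (eq_bot_iff.2 (c.cent ▸ centsC.1 (c.closure_le_of (norms_cent hM.nz) h3)))
  obtain ⟨t, ht, ht1⟩ := trivgPn.1 h2
  have h3 : res 𝐂(T) ≤ 𝐍(M) := fun l hl => by
    have h4 := hM.cj l
    rw [c.nrm.cj_eq (mem_top l)] at h4
    refine Tr.mem_normalizer_of_cj_le (h4.le_of_inf hM.nz (trivgPn.2 ⟨t, ⟨?_, ht.2⟩, ht1⟩))
    have := Tr.conj_mem_cj (g := l).2 ht.2
    rwa [← mem_cent.1 (res_le _ hl) t ht.1, mul_inv_cancel_right] at this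
  exact le_antisymm hN.le ((c.min.min M hMJ hM.ne (c.norm_of hM.nz h3)).ge.trans hMN)

theorem simple : IsSimpleGroup (closure F) := by
  have : Nontrivial (closure F) := (nontrivial_iff_ne_bot _).2 c.min.ne
  refine ⟨fun N hN => ?_⟩
  by_cases h : N = ⊥
  · exact Or.inl h
  · right
    apply map_injective (closure F).subtype_injective
    rw [c.eq_of_nrm (nrm_map_subtype N) (mt (map_eq_bot_iff_of_injective _
      (closure F).subtype_injective).1 h), ← MonoidHom.range_eq_map, range_subtype]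

/-- (*) -/
theorem star {y : G} (hy : IsPGroup 2 (zpowers y)) {T' T'' : Subgroup G} (h' : Mx F T' ⊤)
    (h'' : Mx F T'' ⊤) (hn : y ∈ 𝐍(T')) (hy'' : y ∈ res 𝐂(T'')) : y ∈ res 𝐂(T') := by
  suffices key : ∀ (k : ℕ) (T' T'' : Subgroup G), Nat.card G - #|T' ⊓ 𝐂[y]| = k → Mx F T' ⊤ →
      Mx F T'' ⊤ → y ∈ 𝐍(T') → y ∈ res 𝐂(T'') → y ∈ res 𝐂(T') from key _ T' T'' rfl h' h'' hn hy''
  intro k
  induction k using Nat.strong_induction_on with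
  | _ k ih =>
  intro T' T₂ hk h' h₂ hn hy₂
  obtain ⟨V, hV⟩ : ∃ V, V = T' ⊓ 𝐂[y] := ⟨_, rfl⟩
  have hVT : V ≤ T' := hV ▸ inf_le_left
  have hVy : V ≤ 𝐂[y] := hV ▸ inf_le_right
  have hV2 : IsPGroup 2 V := pgroup_sub hVT h'.two
  have hV1 : V ≠ ⊥ := by
    rw [hV, ← cent_cycle]
    exact pgroup_fix_ne_bot hy h'.two (cycle_subG.2 hn) (c.mx_ne h')
  obtain ⟨g, hg, hVg⟩ := (h₂.mono (sub_cent1.2 (res_le _ hy₂)) le_top).exists_conj c.fam hVy hV2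
    fun v hv => h'.sub v (hVT hv)
  obtain ⟨T'', hT''⟩ : ∃ T'', T'' = cj g T₂ := ⟨_, rfl⟩
  have h'' : Mx F T'' ⊤ := hT'' ▸ h₂.cj_top c.fam g
  have hy'' : y ∈ res 𝐂(T'') := by
    rw [hT'', resC_cj, ← cent1_conj.1 hg]
    exact Tr.conj_mem_cj.2 hy₂
  rw [← hT''] at hVg
  by_cases e : T'' = T'
  · exact e ▸ hy''
  have h1 : V < T' := lt_of_le_of_ne hVT fun e' =>
    e (h'.eq_of_le h''.sub h''.two le_top (e' ▸ hVg))
  have h2 : V < T'' := lt_of_le_of_ne hVg fun e' =>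
    e (h''.eq_of_le h'.sub h'.two le_top (e' ▸ hVT)).symm
  have hH : 𝐍(V) ≠ ⊤ := fun e => hV1 (c.two_bot hV2 e.ge)
  have hyV : y ∈ 𝐍(V) := cent_sub V (sub_cent1.1 hVy)
  have h3 := pgroup_proper_norm h''.two h2
  have h4 : T'' ⊓ 𝐍(V) ≤ 𝐂[y] := inf_le_left.trans (sub_cent1.2 (res_le _ hy''))
  obtain ⟨P, hP, hle⟩ := Sylow_superset (K := 𝐍(V)) (Q := (T'' ⊓ 𝐍(V)) ⊔ zpowers y)
    (sup_le inf_le_right (cycle_subG.2 hyV)) (isPGroup_sup (pgroup_sub inf_le_left h''.two) hy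
      (cycle_subG.2 (cent_sub _ (sub_cent1.1 h4))))
  obtain ⟨T₃, h₃, hn₃, hs₃⟩ := exists_mx c.fam (X := ⊤) le_top hP.pgroup
  have h5 : T'' ⊓ 𝐍(V) ≤ T₃ := fun x hx => hs₃ x (h''.sub x hx.1) (hle (mem_sup_left hx))
  have h6 : y ∈ res 𝐂(T₃) := by
    refine ih _ ?_ T₃ T'' rfl h₃ h'' (hn₃ (hle (mem_sup_right (mem_zpowers y)))) hy''
    have h7 := proper_card (h3.trans_le (le_inf h5 h4))
    have h8 := subset_leq_card (le_top : T₃ ⊓ 𝐂[y] ≤ ⊤)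
    rw [card_top] at h8
    rw [← hk, ← hV]
    omega
  have h7 := c.ind _ hH _ (res 𝐂(T₃)) (mx_NN c.fam hP)
    ((res_le _).trans ((centS (h3.le.trans h5)).trans (cent_sub V))) (res_perf _)
    (centsS (NN_le_iff.2 hs₃) (res_le _))
  refine absurd (fun x hx => ?_) (pgroup_proper_norm h'.two h1).not_ge
  refine hV ▸ mem_inf.2 ⟨hx.1, mem_cent1.2 ?_⟩
  have h8 := eq_one_of_odd (odd_core _) h'.two (h7 (mem_commg (mem_NN (h'.sub x hx.1) hx.2) h6))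
    (by simpa only [mul_assoc] using T'.mul_mem hx.1 ((memJ_norm hn).2 (T'.inv_mem hx.1)))
  rwa [mul_inv_eq_one, mul_inv_eq_iff_eq_mul] at h8

/-- the 2-elements of the conjugates of `L` -/
def RR (F : Set G) : Set G := {y | IsPGroup 2 (zpowers y) ∧ ∃ T', Mx F T' ⊤ ∧ y ∈ res 𝐂(T')}

theorem RR_mem {y : G} (hy : y ∈ RR F) {T' : Subgroup G} (h' : Mx F T' ⊤) (hn : y ∈ 𝐍(T')) :
    y ∈ res 𝐂(T') := by
  obtain ⟨h1, T'', h2, h3⟩ := hy
  exact c.star h1 h' h2 hn h3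

theorem famR : Fam (RR F) where
  one := ⟨pgroup_invol (mul_one 1), T, c.mx, one_mem _⟩
  conj := fun x ⟨h1, T', h2, h3⟩ g => ⟨by rw [← Tr.cj_zpowers]; exact Tr.isPGroup_cj g h1,
    cj g T', h2.cj_top c.fam g, by rw [resC_cj]; exact Tr.conj_mem_cj.2 h3⟩
  two x hx := hx.1
  mul P hP x hx y hy h1 h2 := by
    obtain ⟨T', h3, h4, -⟩ := exists_mx c.fam (X := ⊤) le_top hP
    exact ⟨pgroup_mem hP (mul_mem h1 h2), T', h3,
      mul_mem (c.RR_mem hx h3 (h4 h1)) (c.RR_mem hy h3 (h4 h2))⟩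

theorem commR (P : Subgroup G) (hP : IsPGroup 2 P) (x : G) (hx : x ∈ F) (y : G) (hy : y ∈ RR F)
    (h1 : x ∈ P) (h2 : y ∈ P) : x * y = y * x := by
  obtain ⟨T', h3, h4, h5⟩ := exists_mx c.fam (X := ⊤) le_top hP
  exact mem_cent.1 (res_le _ (c.RR_mem hy h3 (h4 h2))) x (h5 x hx h1)

theorem elem (hB : BScStmt.{u}) (h74 : S1174Stmt.{u}) :
    ∀ t ∈ T, t ∈ res 𝐂(T) ∧ t * t = 1 := by
  have hZ : Fam {x | x ∈ F ∧ x ∈ RR F ∧ x * x = 1} := ⟨⟨c.fam.one, c.famR.one, mul_one 1⟩,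
    fun x hx g => ⟨c.fam.conj x hx.1 g, c.famR.conj x hx.2.1 g, Tr.conj_mul_self hx.2.2 g⟩,
    fun x hx => c.fam.two x hx.1,
    fun P hP x hx y hy h1 h2 => ⟨c.fam.mul P hP x hx.1 y hy.1 h1 h2,
      c.famR.mul P hP x hx.2.1 y hy.2.1 h1 h2, by
        rw [mul_assoc, ← mul_assoc y, ← c.commR P hP x hx.1 y hy.2.1 h1 h2, mul_assoc x, hy.2.2,
          mul_one, hx.2.2]⟩⟩
  have h1 : ∃ x ∈ F, x ∈ RR F ∧ x ≠ 1 := by
    by_contra hcon
    push Not at hcon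
    have h2 := GP.reduce (simpleCase FT.oddOrder SF.sft hB) _ G F (RR F) rfl
      ⟨c.fam, c.famR, c.commR, hcon⟩ (Or.inr h74)
    rw [c.hO, le_bot_iff, commG1P, centsC, c.cent] at h2
    have : Fact OddOrderThm.{u} := ⟨FT.oddOrder⟩
    obtain ⟨y, hy, hy2⟩ := Cauchy (H := res 𝐂(T)) Nat.prime_two (by
      rw [← even_iff_two_dvd, ← Nat.not_odd_iff_even]
      exact fun h => c.ne (perf_sol (res_perf _) (odd_sol h)))
    exact Tr.ne_one_of_orderOf_two hy2 (h2 (subset_closure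
      ⟨pgroup_invol (Tr.mul_self_of_orderOf_two hy2), T, c.mx, hy⟩))
  have h2 : F ⊆ {x | x ∈ F ∧ x ∈ RR F ∧ x * x = 1} := by
    by_contra hcon
    have h3 := c.ind2 _ hZ ⟨fun x hx => hx.1, hcon⟩
    obtain ⟨x, hx, hxR, hx1⟩ := h1
    obtain ⟨z, hz, hzx, hz2⟩ := c.fam.exists_invol hx hx1
    have := hZ.normal
    have h4 : closure {x | x ∈ F ∧ x ∈ RR F ∧ x * x = 1} = closure F :=
      c.min.min _ (Subgroup.closure_mono fun x hx => hx.1) (trivgPn.2 ⟨z, Subgroup.subset_closure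
        ⟨hz, c.famR.of_mem_zpowers hxR hzx, Tr.mul_self_of_orderOf_two hz2⟩,
        Tr.ne_one_of_orderOf_two hz2⟩) (norms_of_normal _)
    rw [h4, commG1P, centsC, c.cent] at h3
    exact c.ne (eq_bot_iff.2 h3)
  exact fun t ht => ⟨c.RR_mem (h2 (c.mx.sub t ht)).2.1 c.mx (normG T ht), (h2 (c.mx.sub t ht)).2.2⟩

end Cfg

end Cfsg.Agent.SC.Red
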